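import Groth.Agent.StPush.GoodQuot
import Groth.Agent.AlgSpB.InvariantsFlat

/-!
# Invariant functions as sections of the pushforward of the structure sheaf
-/

set_option autoImplicit false
set_option linter.unusedVariables false
set_option linter.unusedSectionVars false
set_option linter.style.haveILetI false
set_option backward.isDefEq.respectTransparency false
set_option backward.isDefEq.respectTransparency.types false
set_option maxHeartbeats 1600000

universe u

open CategoryTheory CategoryTheory.Limits AlgebraicGeometry Opposite MonoidalCategory CartesianMonoidalCategory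
  MonObj GrpObj FibCat Groth.Agent.StGen Groth.Agent.StDesc Groth.Agent.StFib
open CoactBr (sp)
open Groth.Agent.StPush.PtEval
open scoped TensorProduct

noncomputable section

attribute [local instance] CoactBr.braidedAlgSpecOf

namespace Groth.Agent.StPush.GoodQuot

variable {R A B : Type u} [CommRing R] [CommRing A] [HopfAlgebra R A] [CommRing B] [Algebra R B]
  [HopfRep.Comod R A B] [GLin.IsCoactAlg R A B]

local notation "GG" => sp R A

/-- Functions fixed by the action are invariant. -/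
theorem mem_invariants_of_fixed (b : B)
    (h : fn (snd GG (sp R B)) b = (CoactBr.action R A B).act.left.appTop (fn (𝟙 (sp R B)) b)) :
    b ∈ GLin.invariants R A B := by
  haveI : IsIso (pr (snd GG (sp R B)) (fst GG (sp R B))) := by
    have : pr (snd GG (sp R B)) (fst GG (sp R B)) = (β_ GG (sp R B)).hom ≫
        Functor.LaxMonoidal.μ (algSpec (CommRingCat.of R)) (op (.of R B)) (op (.of R A)) := by
      rw [pr]
      congr 1
    rw [this]
    infer_instance
  let k : GG ⊗ sp R B ⟶ GG ⊗ sp R B := lift (fst GG (sp R B))⁻¹ (snd GG (sp R B))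
  have hk := congrArg k.left.appTop h
  rw [← fn_comp, ← fn_comp, ← fn_comp, Category.comp_id, lift_snd, CoactBr.lift_action_act,
    _root_.inv_inv] at hk
  have e : fn (lift (snd GG (sp R B)) (fst GG (sp R B)) ≫ CoactBr.ract R A B) b =
      fn (pr (snd GG (sp R B)) (fst GG (sp R B))) (HopfRep.Comod.coact (k := R) (A := A) b) := by
    show fn (lift (snd GG (sp R B)) (fst GG (sp R B)) ≫
      Functor.LaxMonoidal.μ (algSpec (CommRingCat.of R)) (op (.of R B)) (op (.of R A)) ≫
        CoactBr.pt (GLin.coactAlgHom R A B)) b = _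
    rw [← Category.assoc, fn_comp_pt]
    rfl
  have e' : fn (snd GG (sp R B)) b = fn (pr (snd GG (sp R B)) (fst GG (sp R B))) (b ⊗ₜ[R] (1 : A)) := by
    rw [fn_pr_tmul, map_one (fn _), _root_.mul_one]
  exact (Integral.fn_bijective (pr (snd GG (sp R B)) (fst GG (sp R B)))).1 (e.symm.trans (hk.symm.trans e'))

/-- The inclusion of the invariants is invariant. -/
theorem ract_val : CoactBr.ract R A B ≫ (CoactBr.pt (GLin.invariants R A B).val) = fst (sp R B) GG ≫ (CoactBr.pt (GLin.invariants R A B).val) := by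
  have e : (GLin.coactAlgHom R A B).comp (GLin.invariants R A B).val =
      (Algebra.TensorProduct.includeLeft : B →ₐ[R] B ⊗[R] A).comp (GLin.invariants R A B).val :=
    AlgHom.ext fun c => c.2
  show (Functor.LaxMonoidal.μ (algSpec (CommRingCat.of R)) (op (.of R B)) (op (.of R A)) ≫
    CoactBr.pt (GLin.coactAlgHom R A B)) ≫ (CoactBr.pt (GLin.invariants R A B).val) = _
  rw [Category.assoc, ← CoactBr.pt_comp, e, CoactBr.pt_comp, ← Category.assoc, μ_pt _ rfl]

theorem fn_id_bijective (D : Type u) [CommRing D] [Algebra R D] : Function.Bijective (fn (𝟙 (sp R D))) :=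
  Integral.fn_bijective _

variable (Q : QuotCover.Setup (sp R A) (sp R B) (sp R ↥(GLin.invariants R A B)) (CoactBr.action R A B))
  (hQ : Q.qY = (CoactBr.pt (GLin.invariants R A B).val))
  (ηw : (AlgSt.ofSch (sp R ↥(GLin.invariants R A B))).obj) (hw : IsAffine ηw.base.left)

local notation "𝒬" => AlgSt.QuotSt Scheme.fppfPrecoverage (sp R A) (CoactBr.action R A B)

include hQ in
theorem appTop_qY (c : ↥(GLin.invariants R A B)) :
    Q.qY.left.appTop (fn (𝟙 (sp R ↥(GLin.invariants R A B))) c) = fn (𝟙 (sp R B)) (c : B) := by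
  refine (fn_comp Q.qY (𝟙 _) c).symm.trans ?_
  rw [Category.comp_id, hQ]
  refine Eq.trans ?_ (fn_comp_pt (𝟙 (sp R B)) (GLin.invariants R A B).val c)
  exact congrArg (fun z => fn z c) (Category.id_comp _).symm

include hQ hw in
theorem fixed_range [Flat ηw.sec.down.left] :
    Function.Injective (Q.pB ηw).left.appTop ∧ ∀ f, (snd GG (Q.P ηw)).left.appTop f = (Q.aP ηw).left.appTop f →
      f ∈ Set.range (Q.pB ηw).left.appTop := by
  have sU := (IsPullback.of_hasPullback ηw.sec.down Q.qY).flip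
  have sR := (AlgSt.isPullback_whiskerLeft (G := GG) (Q.pX ηw)).paste_vert sU
  haveI := hw
  haveI : IsAffineHom (pullback.snd (sp R A).hom (sp R B).hom) := MorphismProperty.pullback_snd _ _ inferInstance
  haveI : IsAffine (GG ⊗ sp R B).left := isAffine_of_isAffineHom (pullback.snd (sp R A).hom (sp R B).hom)
  haveI : IsIso (𝟙 (sp R ↥(GLin.invariants R A B)).left) := inferInstance
  refine Groth.Agent.AlgSpB.invariants_baseChange (T := (sp R ↥(GLin.invariants R A B)).left)
    (T' := ηw.base.left) ηw.sec.down.left (𝟙 (sp R ↥(GLin.invariants R A B)).left) Q.qY.left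
    (snd GG (sp R B)).left (CoactBr.action R A B).act.left ?_
    (kX := ηw.sec.down.left) (fX := 𝟙 ηw.base.left) (IsPullback.of_vert_isIso ⟨by simp⟩)
    (kU := (Q.pX ηw).left) (fU := (Q.pB ηw).left) ?_
    (kR := (GG ◁ Q.pX ηw).left) (fR := (snd GG (Q.P ηw) ≫ Q.pB ηw).left) ?_
    (Q.pB ηw).left ?_ (Category.comp_id _) (snd GG (Q.P ηw)).left (Q.aP ηw).left ?_ rfl ?_ ?_ ?_ ?_
  · exact (congrArg CommaMorphism.left Q.inv).symm
  · rw [Category.comp_id]; exact sU.map (Over.forget _)
  · rw [Category.comp_id]; exact sR.map (Over.forget _)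
  · exact congrArg CommaMorphism.left (pullback.condition (f := ηw.sec.down) (g := Q.qY))
  · exact congrArg CommaMorphism.left (show snd GG (Q.P ηw) ≫ Q.pX ηw = (GG ◁ Q.pX ηw) ≫ snd GG (sp R B) from
      (whiskerLeft_snd GG (Q.pX ηw)).symm)
  · exact congrArg CommaMorphism.left (show Q.aP ηw ≫ Q.pX ηw = (GG ◁ Q.pX ηw) ≫ (CoactBr.action R A B).act from
      pullback.lift_snd _ _ _)
  · exact congrArg CommaMorphism.left (show Q.aP ηw ≫ Q.pB ηw = snd GG (Q.P ηw) ≫ Q.pB ηw from
      pullback.lift_fst _ _ _)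
  · intro x y hxy
    obtain ⟨c, rfl⟩ := (fn_id_bijective (R := R) ↥(GLin.invariants R A B)).2 x
    obtain ⟨d, rfl⟩ := (fn_id_bijective (R := R) ↥(GLin.invariants R A B)).2 y
    exact congrArg _ (Subtype.ext ((fn_id_bijective B).1
      ((appTop_qY Q hQ c).symm.trans (hxy.trans (appTop_qY Q hQ d)))))
  · intro f hf
    obtain ⟨b, rfl⟩ := (fn_id_bijective (R := R) B).2 f
    rw [← fn_comp, Category.comp_id] at hf
    refine ⟨fn (𝟙 _) ⟨b, mem_invariants_of_fixed b hf⟩, ?_⟩
    exact appTop_qY Q hQ ⟨b, mem_invariants_of_fixed b hf⟩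

include hQ hw in
theorem unitSect_bijective [Flat ηw.sec.down.left] : Function.Bijective (StMod.unitSect Q.ρ ηw) := by
  obtain ⟨hinj, hran⟩ := fixed_range Q hQ ηw hw
  have hval : ∀ r, (StMod.unitSect Q.ρ ηw r).1 (Q.u₀ ηw) (Q.o₀ ηw).hom = (Q.pB ηw).left.appTop r := fun r =>
    congrArg (fun q : (Q.P ηw) ⟶ ηw.base => q.left.appTop r) (Q.base₀ ηw)
  refine ⟨fun r r' h => hinj ?_, fun t => ?_⟩
  · rw [← hval, ← hval, h]
  · have h : ∀ (e : Q.u₁ ηw ⟶ Q.u₀ ηw), Q.ρ.map e ≫ (Q.o₀ ηw).hom = (Q.o₁ ηw).hom →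
        (StMod.bmap 𝒬 e).appTop (t.1 (Q.u₀ ηw) (Q.o₀ ηw).hom) = t.1 (Q.u₁ ηw) (Q.o₁ ηw).hom := fun e he => by
      have h2 := (t.2 e (Q.o₀ ηw).hom).trans (congrArg (t.1 _) he)
      rw [StMod.O_mapTop] at h2
      exact h2
    obtain ⟨r, hr⟩ := hran (t.1 (Q.u₀ ηw) (Q.o₀ ηw).hom) ((h (Q.mp ηw) rfl).trans (h (Q.mq ηw) (Q.q_eq ηw)).symm)
    exact ⟨r, relSect_ext Q ηw hw (StMod.OQ 𝒬) _ _ ((hval r).trans hr)⟩

end Groth.Agent.StPush.GoodQuot
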