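import Groth.Agent.StPush.UnitDesc
import Mathlib.Topology.Sheaves.SheafCondition.UniqueGluing

/-!
Bijectivity of the unit over every etale scheme follows from the affine ones.
-/

set_option autoImplicit false
set_option linter.style.haveILetI false
set_option linter.unusedSectionVars false
set_option backward.isDefEq.respectTransparency false
set_option backward.isDefEq.respectTransparency.types false

universe u

open CategoryTheory CategoryTheory.Limits AlgebraicGeometry Opposite FibCat TopologicalSpace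
open Groth.Agent.QCoh Groth.Agent.StDesc Groth.Agent.StGen Groth.Agent.StFib

noncomputable section

namespace Groth.Agent.StPush

variable {S : Scheme.{u}} {𝒳 : AlgSt.Cat S} {M : AlgSp.Sp S}

/-- The open subscheme as an object of the small etale site. -/
def etOpen (E : AlgSp.EtOver M) (V : E.obj.left.left.Opens) : AlgSp.EtOver M :=
  AlgSp.EtOver.mk (U := Over.mk (V.ι ≫ E.obj.left.hom))
    ((AlgSp.yon S).map (Over.homMk V.ι rfl : Over.mk (V.ι ≫ E.obj.left.hom) ⟶ E.obj.left) ≫ E.obj.hom)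
    ((AlgSp.repWith_isMultiplicative _).comp_mem _ _
      ((AlgSp.repWith_yon_map_iff _ _).2 (show Etale V.ι from inferInstance)) E.property)

/-- The inclusion of an open subscheme. -/
def etaOpen (E : AlgSp.EtOver M) (V : E.obj.left.left.Opens) : StMod.etaOf (etOpen E V) ⟶ StMod.etaOf E :=
  ⟨(Over.homMk V.ι rfl : Over.mk (V.ι ≫ E.obj.left.hom) ⟶ E.obj.left),
    (Groth.Agent.AlgSp.yEquiv_map _ E.obj.hom).symm⟩

theorem unitSect_relPull (π : 𝒳 ⥤ᵇ AlgSt.ofSp M) {w' w : (AlgSt.ofSp M).obj} (b : w' ⟶ w)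
    (r : Γ(StMod.sch (AlgSt.ofSp M) w, ⊤)) :
    relPull π (StMod.O 𝒳) b (StMod.unitSect π w r) = StMod.unitSect π w' ((StMod.bmap _ b).appTop r) := by
  refine StMod.Mod.RelSect.ext _ _ _ fun ξ α => ?_
  show (StMod.baseOver π ξ (α ≫ b)).left.appTop r = (StMod.baseOver π ξ α).left.appTop ((StMod.bmap _ b).appTop r)
  have h : StMod.baseOver π ξ (α ≫ b) = StMod.baseOver π ξ α ≫ b.hom := by
    show eqToHom _ ≫ α.hom ≫ b.hom = (eqToHom _ ≫ α.hom) ≫ b.hom
    rw [Category.assoc]
  rw [h, Over.comp_left, Scheme.Hom.comp_appTop]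
  rfl

theorem ι_appTop_apply {X : Scheme.{u}} (V : X.Opens) (r : Γ(X, ⊤)) :
    V.topIso.hom (V.ι.appTop r) = X.presheaf.map (homOfLE (le_top : V ≤ ⊤)).op r := by
  have : V.ι.appTop ≫ V.topIso.hom = X.presheaf.map (homOfLE (le_top : V ≤ ⊤)).op := by
    simp [Scheme.Opens.ι_app, Scheme.Opens.topIso, ← Functor.map_comp]
  exact ConcreteCategory.congr_hom this r

set_option maxHeartbeats 1600000 in
/-- The unit is bijective everywhere if it is so over affine schemes. -/
theorem unitIsIso_of_affine (h𝒳 : IsFibGrpd 𝒳.p) (π : 𝒳 ⥤ᵇ AlgSt.ofSp M)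
    (h : ∀ E : AlgSp.EtOver M, IsAffine E.obj.left.left → Function.Bijective (StMod.unitSect π (StMod.etaOf E))) :
    StMod.UnitIsIso π := by
  intro E
  let X := E.obj.left.left
  let ρ : ∀ V : X.Opens, Γ(X, ⊤) → Γ((V : Scheme.{u}), ⊤) := fun V r => V.ι.appTop r
  have haff : ∀ V : X.affineOpens, Function.Bijective (StMod.unitSect π (StMod.etaOf (etOpen E V.1))) :=
    fun V => h _ V.2
  have hsup : (⊤ : X.Opens) ≤ iSup fun V : X.affineOpens => V.1 := (iSup_affineOpens_eq_top X).ge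
  have hinj : ∀ r r' : Γ(X, ⊤), (∀ V : X.affineOpens, ρ V.1 r = ρ V.1 r') → r = r' := fun r r' hr =>
    TopCat.Sheaf.eq_of_locally_eq' X.sheaf (fun V : X.affineOpens => V.1) ⊤ (fun V => homOfLE le_top) hsup r r'
      fun V => by
        refine (ι_appTop_apply V.1 r).symm.trans (Eq.trans ?_ (ι_appTop_apply V.1 r'))
        exact congrArg V.1.topIso.hom (hr V)
  constructor
  · intro r r' hrr
    refine hinj r r' fun V => (haff V).1 ?_
    exact (unitSect_relPull π (etaOpen E V.1) r).symm.trans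
      ((congrArg (relPull π (StMod.O 𝒳) (etaOpen E V.1)) hrr).trans (unitSect_relPull π (etaOpen E V.1) r'))
  · intro t
    choose rV hrV using fun V : X.affineOpens => (haff V).2 (relPull π (StMod.O 𝒳) (etaOpen E V.1) t)
    let sf : ∀ V : X.affineOpens, Γ(X, V.1) := fun V => V.1.topIso.hom (rV V)
    have hres : ∀ (A V : X.affineOpens) (hA : A.1 ≤ V.1),
        X.presheaf.map (homOfLE hA).op (sf V) = sf A := by
      intro A V hA
      have hj : (X.homOfLE hA) ≫ V.1.ι = A.1.ι := X.homOfLE_ι hA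
      let bo : Over.mk (A.1.ι ≫ E.obj.left.hom) ⟶ Over.mk (V.1.ι ≫ E.obj.left.hom) :=
        Over.homMk (X.homOfLE hA) (by
          show X.homOfLE hA ≫ V.1.ι ≫ E.obj.left.hom = A.1.ι ≫ E.obj.left.hom
          rw [← Category.assoc, hj])
      let b : StMod.etaOf (etOpen E A.1) ⟶ StMod.etaOf (etOpen E V.1) :=
        ⟨bo, (Groth.Agent.AlgSp.yEquiv_map bo (etOpen E V.1).obj.hom).symm.trans
          (congrArg Groth.Agent.AlgSp.yEquiv (by
            show (AlgSp.yon S).map bo ≫ (AlgSp.yon S).map _ ≫ E.obj.hom = (AlgSp.yon S).map _ ≫ E.obj.hom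
            rw [← Category.assoc, ← Functor.map_comp]
            congr 2
            exact Over.OverMorphism.ext hj))⟩
      have hb : b ≫ etaOpen E V.1 = etaOpen E A.1 := Stk.EltObj.hom_ext (Over.OverMorphism.ext hj)
      have h1 : (X.homOfLE hA).appTop (rV V) = rV A := by
        refine (haff A).1 ?_
        refine (unitSect_relPull π b (rV V)).symm.trans ?_
        rw [hrV, hrV]
        refine StMod.Mod.RelSect.ext _ _ _ fun ξ α => ?_
        show t.1 ξ ((α ≫ b) ≫ etaOpen E V.1) = t.1 ξ (α ≫ etaOpen E A.1)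
        rw [Category.assoc, hb]
      have e : (X.homOfLE hA).appTop ≫ A.1.topIso.hom = V.1.topIso.hom ≫ X.presheaf.map (homOfLE hA).op := by
        simp [Scheme.homOfLE_app, Scheme.Opens.topIso, ← Functor.map_comp]
      refine Eq.trans ?_ (congrArg A.1.topIso.hom h1)
      exact (ConcreteCategory.congr_hom e (rV V)).symm
    obtain ⟨r, hr, -⟩ := TopCat.Sheaf.existsUnique_gluing' X.sheaf (fun V : X.affineOpens => V.1) ⊤
      (fun V => homOfLE le_top) hsup sf fun V W => by
        refine TopCat.Sheaf.eq_of_locally_eq' X.sheaf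
          (fun A : {A : X.affineOpens // A.1 ≤ V.1 ⊓ W.1} => A.1.1) (V.1 ⊓ W.1) (fun A => homOfLE A.2)
          (fun x hx => by
            obtain ⟨_, ⟨A, hA, rfl⟩, hxA, hAU⟩ := X.isBasis_affineOpens.exists_subset_of_mem_open
              (show x ∈ ((V.1 ⊓ W.1 : X.Opens) : Set X) from hx) (V.1 ⊓ W.1).2
            exact Opens.mem_iSup.2 ⟨⟨⟨A, hA⟩, hAU⟩, hxA⟩) _ _ fun A => ?_
        show X.presheaf.map _ (X.presheaf.map _ (sf V)) = X.presheaf.map _ (X.presheaf.map _ (sf W))
        rw [← Functor.map_comp_apply, ← Functor.map_comp_apply]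
        exact (hres A.1 V (A.2.trans inf_le_left)).trans (hres A.1 W (A.2.trans inf_le_right)).symm
    have hrr : ∀ V : X.affineOpens, ρ V.1 r = rV V := fun V => by
      have h1 : V.1.topIso.hom (V.1.ι.appTop r) = sf V := (ι_appTop_apply V.1 r).trans (hr V)
      have h2 := congrArg V.1.topIso.inv h1
      exact (ConcreteCategory.congr_hom V.1.topIso.hom_inv_id _).symm.trans
        (h2.trans (ConcreteCategory.congr_hom V.1.topIso.hom_inv_id _))
    refine ⟨r, StMod.Mod.RelSect.ext _ _ _ fun ξ α => ext_flat (StMod.OQ 𝒳).property.1 _ _ fun y _ => ?_⟩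
    let β := StMod.baseOver π ξ α
    obtain ⟨_, ⟨V, hV, rfl⟩, hyV, -⟩ := X.isBasis_affineOpens.exists_subset_of_mem_open
      (Set.mem_univ (β.left y)) isOpen_univ
    let VV : X.Opens := V
    let U : (StMod.sch 𝒳 ξ).Opens := β.left ⁻¹ᵁ VV
    obtain ⟨ξ', c, e, hc⟩ := exists_lift_mor h𝒳 ξ U.ι
    refine ⟨ξ', c, by rw [hc]; infer_instance, range_of_bmap c e _ hc ⟨y, hyV⟩, ?_⟩
    show pb (StMod.O 𝒳) c (U := ⊤) ⊤ le_top _ = pb (StMod.O 𝒳) c (U := ⊤) ⊤ le_top _
    have key : ∀ s : StMod.Mod.RelSect π (StMod.O 𝒳) (StMod.etaOf E),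
        pb (StMod.O 𝒳) c (U := ⊤) ⊤ le_top (s.1 ξ α) = s.1 ξ' (π.map c ≫ α) := fun s => by
      rw [pb_apply]
      exact (res_self _ le_top _).trans (s.2 c α)
    rw [key, key]
    let β' := StMod.baseOver π ξ' (π.map c ≫ α)
    have hβ' : β'.left = (e.hom ≫ (β.left ∣_ VV)) ≫ VV.ι := by
      show (StMod.baseOver π ξ' (π.map c ≫ α)).left = _
      rw [← StMod.map_comp_baseOver, Category.assoc, morphismRestrict_ι, ← Category.assoc]
      exact congrArg (· ≫ β.left) hc
    let α₀ : π.obj ξ' ⟶ StMod.etaOf (etOpen E VV) :=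
      ⟨eqToHom (π.w_obj ξ') ≫ Over.homMk (e.hom ≫ (β.left ∣_ VV)) (by
          show (e.hom ≫ (β.left ∣_ VV)) ≫ VV.ι ≫ E.obj.left.hom = _
          rw [← Category.assoc, ← hβ']
          exact Over.w β'), by
        rw [← (π.map c ≫ α).map_sec]
        show M.obj.map _ (StMod.etaOf (etOpen E VV)).sec = _
        rw [← (etaOpen E VV).map_sec, ← Functor.map_comp_apply, ← op_comp]
        refine congrArg (fun f : (π.obj ξ').base ⟶ E.obj.left => M.obj.map f.op (StMod.etaOf E).sec) ?_
        refine (cancel_epi (eqToHom (π.w_obj ξ').symm)).1 ?_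
        rw [Category.assoc, eqToHom_trans_assoc, eqToHom_refl, Category.id_comp]
        exact Over.OverMorphism.ext hβ'.symm⟩
    have hα₀ : α₀ ≫ etaOpen E VV = π.map c ≫ α := Stk.EltObj.hom_ext (by
      refine (cancel_epi (eqToHom (π.w_obj ξ').symm)).1 ?_
      show eqToHom _ ≫ (eqToHom _ ≫ Over.homMk _ _) ≫ _ = _
      rw [Category.assoc, eqToHom_trans_assoc, eqToHom_refl, Category.id_comp]
      exact Over.OverMorphism.ext hβ'.symm)
    have h2 := congrArg (fun s => s.1 ξ' α₀) ((unitSect_relPull π (etaOpen E VV) r).trans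
      ((congrArg (StMod.unitSect π _) (hrr ⟨VV, hV⟩)).trans (hrV ⟨VV, hV⟩)))
    have h3 : (StMod.unitSect π (StMod.etaOf E) r).1 ξ' (α₀ ≫ etaOpen E VV) = t.1 ξ' (α₀ ≫ etaOpen E VV) := h2
    rw [hα₀] at h3
    exact h3

end Groth.Agent.StPush
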