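import Groth.Agent.StPush.Hom
import Groth.Agent.Props.QFP

/-!
Relative homomorphisms out of a finitely presented module commute with flat base change between affine objects.
-/

set_option autoImplicit false
set_option linter.style.haveILetI false
set_option linter.unusedSectionVars false
set_option backward.isDefEq.respectTransparency false
set_option backward.isDefEq.respectTransparency.types false

universe u

open CategoryTheory CategoryTheory.Limits AlgebraicGeometry Opposite FibCat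
open Groth.Agent.QCoh Groth.Agent.StDesc Groth.Agent.StGen
open scoped TensorProduct

noncomputable section

namespace Groth.Agent.StPush

variable {S : Scheme.{u}} {𝒳 𝒵 : AlgSt.Cat S} (π : 𝒳 ⥤ᵇ 𝒵) (E M : StMod.Mod 𝒳) {w' w : 𝒵.obj}

/-- The restriction of relative homomorphisms as a linear map. -/
def rPullLin (b : w' ⟶ w) :
    letI := Module.compHom (RHom π E M w') ((StMod.bmap 𝒵 b).appLE ⊤ ⊤ le_top).hom
    RHom π E M w →ₗ[Γ(StMod.sch 𝒵 w, ⊤)] RHom π E M w' :=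
  letI := Module.compHom (RHom π E M w') ((StMod.bmap 𝒵 b).appLE ⊤ ⊤ le_top).hom
  { toFun := rPull b
    map_add' := map_add _
    map_smul' := fun r φ => rPull_smul b r φ }

variable {π E M}

theorem isBaseChange_of_bijective {R B N N' : Type*} [CommRing R] [CommRing B] [Algebra R B] [AddCommGroup N]
    [Module R N] [AddCommGroup N'] [Module R N'] [Module B N'] [IsScalarTower R B N'] (f : N →ₗ[R] N')
    (h : Function.Bijective (f.liftBaseChange B)) : IsBaseChange B f :=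
  IsBaseChange.of_equiv (LinearEquiv.ofBijective _ h) fun m => by simp

theorem appLE_str' {w : 𝒵.obj} {y x : (StMod.fibCat π w).obj} (a : y ⟶ x) (r : Γ(StMod.sch 𝒵 w, ⊤)) :
    (StMod.bmap 𝒳 a.left).appLE ⊤ ⊤ le_top ((str π x).appLE ⊤ ⊤ le_top r) = (str π y).appLE ⊤ ⊤ le_top r :=
  StGen.appLE_str a r

set_option maxHeartbeats 4000000 in
/-- Relative homomorphisms commute with flat base change. -/
theorem isBaseChange_rPull (h𝒳 : IsFibGrpd 𝒳.p) (h𝒵 : IsFibGrpd 𝒵.p) (hE : StMod.isQCoh 𝒳 E)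
    (hM : StMod.isQCoh 𝒳 M) (b : w' ⟶ w) [Flat (StMod.bmap 𝒵 b)] [IsAffine (StMod.sch 𝒵 w)]
    [IsAffine (StMod.sch 𝒵 w')] (C : FinCover (StMod.fibCat π w))
    (hEfp : SheafOfModules.IsFinitePresentation.{u}
      (R := (StMod.sch 𝒳 C.x₀.left).ringCatSheaf) (E.obj C.x₀.left)) :
    letI := ((StMod.bmap 𝒵 b).appLE ⊤ ⊤ le_top).hom.toAlgebra
    letI := Module.compHom (RHom π E M w') ((StMod.bmap 𝒵 b).appLE ⊤ ⊤ le_top).hom
    haveI : IsScalarTower Γ(StMod.sch 𝒵 w, ⊤) Γ(StMod.sch 𝒵 w', ⊤) (RHom π E M w') :=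
      IsScalarTower.of_algebraMap_smul fun _ _ => rfl
    IsBaseChange Γ(StMod.sch 𝒵 w', ⊤) (rPullLin π E M b) := by
  haveI := C.aff₀
  haveI := C.aff₁
  obtain ⟨P₀⟩ := exists_pbObj π h𝒳 h𝒵 b C.x₀
  obtain ⟨P₁⟩ := exists_pbObj π h𝒳 h𝒵 b C.x₁
  have hP₀ := isAffine_pbObj P₀
  have hP₁ := isAffine_pbObj P₁
  haveI : IsAffine (StMod.sch 𝒳 P₀.obj.left) := hP₀
  haveI : IsAffine (StMod.sch 𝒳 P₁.obj.left) := hP₁
  haveI : IsAffine (StMod.sch 𝒳 C.x₀.left) := C.aff₀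
  haveI : IsAffine (StMod.sch 𝒳 C.x₁.left) := C.aff₁
  haveI : IsAffine (StMod.sch 𝒳 ((fibMap π b).obj P₀.obj).left) := hP₀
  haveI : IsAffine (StMod.sch 𝒳 ((fibMap π b).obj P₁.obj).left) := hP₁
  let A₀ := Γ(StMod.sch 𝒳 C.x₀.left, ⊤)
  let A₁ := Γ(StMod.sch 𝒳 C.x₁.left, ⊤)
  let B₀ := Γ(StMod.sch 𝒳 P₀.obj.left, ⊤)
  let B₁ := Γ(StMod.sch 𝒳 P₁.obj.left, ⊤)
  let K := Γ(StMod.sch 𝒵 w, ⊤)
  let B := Γ(StMod.sch 𝒵 w', ⊤)
  let m₀ : P₀.obj.left ⟶ C.x₀.left := P₀.mor.left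
  let m₁ : P₁.obj.left ⟶ C.x₁.left := P₁.mor.left
  let i₀ := (str π P₀.obj).appLE ⊤ ⊤ le_top
  let i₁ := (str π P₁.obj).appLE ⊤ ⊤ le_top
  letI : Algebra K B := ((StMod.bmap 𝒵 b).appLE ⊤ ⊤ le_top).hom.toAlgebra
  letI : Algebra K A₀ := ((str π C.x₀).appLE ⊤ ⊤ le_top).hom.toAlgebra
  letI : Algebra K A₁ := ((str π C.x₁).appLE ⊤ ⊤ le_top).hom.toAlgebra
  letI : Algebra A₀ B₀ := ((StMod.bmap 𝒳 m₀).appLE ⊤ ⊤ le_top).hom.toAlgebra
  letI : Algebra A₁ B₁ := ((StMod.bmap 𝒳 m₁).appLE ⊤ ⊤ le_top).hom.toAlgebra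
  letI : Algebra B B₀ := i₀.hom.toAlgebra
  letI : Algebra B B₁ := i₁.hom.toAlgebra
  letI : Algebra K B₀ := ((str π ((fibMap π b).obj P₀.obj)).appLE ⊤ ⊤ le_top).hom.toAlgebra
  letI : Algebra K B₁ := ((str π ((fibMap π b).obj P₁.obj)).appLE ⊤ ⊤ le_top).hom.toAlgebra
  haveI : IsScalarTower K A₀ B₀ := IsScalarTower.of_algebraMap_eq fun r => (appLE_str' P₀.mor r).symm
  haveI : IsScalarTower K A₁ B₁ := IsScalarTower.of_algebraMap_eq fun r => (appLE_str' P₁.mor r).symm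
  haveI : IsScalarTower K B B₀ := IsScalarTower.of_algebraMap_eq fun r =>
    (appLE_comp_apply _ _ (str_fibMap π b P₀.obj) le_top le_top le_top r).symm
  haveI : IsScalarTower K B B₁ := IsScalarTower.of_algebraMap_eq fun r =>
    (appLE_comp_apply _ _ (str_fibMap π b P₁.obj) le_top le_top le_top r).symm
  haveI : Algebra.IsPushout K B A₀ B₀ := CommRingCat.isPushout_iff_isPushout.1
    (isPushout_appLE P₀.isPullback).flip
  haveI : Algebra.IsPushout K B A₁ B₁ := CommRingCat.isPushout_iff_isPushout.1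
    (isPushout_appLE P₁.isPullback).flip
  haveI : Module.Flat K B := HasRingHomProperty.appLE (P := @Flat) (StMod.bmap 𝒵 b) inferInstance
    ⟨⊤, isAffineOpen_top _⟩ ⟨⊤, isAffineOpen_top _⟩ le_top
  letI : Module K Γ(M.obj C.x₀.left, ⊤) := Module.compHom _ ((str π C.x₀).appLE ⊤ ⊤ le_top).hom
  letI : Module K Γ(M.obj C.x₁.left, ⊤) := Module.compHom _ ((str π C.x₁).appLE ⊤ ⊤ le_top).hom
  haveI : IsScalarTower K A₀ Γ(M.obj C.x₀.left, ⊤) := IsScalarTower.of_algebraMap_smul fun _ _ => rfl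
  haveI : IsScalarTower K A₁ Γ(M.obj C.x₁.left, ⊤) := IsScalarTower.of_algebraMap_smul fun _ _ => rfl
  letI := Module.compHom Γ(M.obj P₀.obj.left, ⊤) ((StMod.bmap 𝒳 m₀).appLE ⊤ ⊤ le_top).hom
  letI := Module.compHom Γ(M.obj P₁.obj.left, ⊤) ((StMod.bmap 𝒳 m₁).appLE ⊤ ⊤ le_top).hom
  haveI : IsScalarTower A₀ B₀ Γ(M.obj P₀.obj.left, ⊤) := IsScalarTower.of_algebraMap_smul fun _ _ => rfl
  haveI : IsScalarTower A₁ B₁ Γ(M.obj P₁.obj.left, ⊤) := IsScalarTower.of_algebraMap_smul fun _ _ => rfl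
  haveI : Module.FinitePresentation A₀ Γ(E.obj C.x₀.left, ⊤) :=
    Props.QFP.finitePresentation_sections_of_isFP (E.obj C.x₀.left) (isAffineOpen_top _)
  haveI : Module.FinitePresentation A₁ Γ(E.obj C.x₁.left, ⊤) := by
    letI := ((StMod.bmap 𝒳 C.p.left).appLE ⊤ ⊤ le_top).hom.toAlgebra
    letI := Module.compHom Γ(E.obj C.x₁.left, ⊤) ((StMod.bmap 𝒳 C.p.left).appLE ⊤ ⊤ le_top).hom
    haveI : IsScalarTower A₀ A₁ Γ(E.obj C.x₁.left, ⊤) := IsScalarTower.of_algebraMap_smul fun _ _ => rfl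
    have bp : IsBaseChange A₁ (rawLin (StMod.bmap 𝒳 C.p.left) (E.map C.p.left rfl) ⊤ ⊤ le_top) :=
      bc_of_qcoh hE C.p.left (h := le_top) (isAffineOpen_top _) (isAffineOpen_top _)
    exact Module.FinitePresentation.of_equiv bp.equiv
  have hd₀ : IsBaseChange B₀ (rawLin (StMod.bmap 𝒳 m₀) (M.map m₀ rfl) ⊤ ⊤ le_top) :=
    bc_of_qcoh hM m₀ (h := le_top) (isAffineOpen_top _) (isAffineOpen_top _)
  have hd₁ : IsBaseChange B₁ (rawLin (StMod.bmap 𝒳 m₁) (M.map m₁ rfl) ⊤ ⊤ le_top) :=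
    bc_of_qcoh hM m₁ (h := le_top) (isAffineOpen_top _) (isAffineOpen_top _)
  obtain ⟨Θ₀, hΘ₀, hΘ₀'⟩ := exists_homEquiv (R := K) (B := B) (E := Γ(E.obj C.x₀.left, ⊤)) _ hd₀
  obtain ⟨Θ₁, hΘ₁, hΘ₁'⟩ := exists_homEquiv (R := K) (B := B) (E := Γ(E.obj C.x₁.left, ⊤)) _ hd₁
  -- evaluation at the covering objects
  let evH : RHom π E M w →ₗ[K] (Γ(E.obj C.x₀.left, ⊤) →ₗ[A₀] Γ(M.obj C.x₀.left, ⊤)) :=
    { toFun := fun φ =>
        { toFun := ev φ C.x₀ C.aff₀
          map_add' := map_add _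
          map_smul' := fun r e => ev_smul_arg φ C.x₀ C.aff₀ r e }
      map_add' := fun φ ψ => LinearMap.ext fun e => ev_add φ ψ _ _ e
      map_smul' := fun r φ => LinearMap.ext fun e => ev_smul r φ _ _ e }
  have hevH : Function.Injective evH := fun φ ψ h =>
    rHom_ext_cover h𝒳 hE hM C.x₀ C.aff₀ C.cover φ ψ fun s => LinearMap.congr_fun h s
  let evP : RHom π E M w' →+ (Γ(E.obj C.x₀.left, ⊤) →ₗ[A₀] Γ(M.obj P₀.obj.left, ⊤)) :=
    AddMonoidHom.mk' (fun φ' =>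
      { toFun := fun e => ev φ' P₀.obj hP₀ (pb E m₀ (U := ⊤) ⊤ le_top e)
        map_add' := fun a c => by rw [map_add, map_add]
        map_smul' := fun r e => by
          rw [pb_smul, ev_smul_arg]
          rfl }) fun φ ψ => LinearMap.ext fun e => ev_add φ ψ _ _ _
  have hevP : Function.Injective evP := fun φ ψ h =>
    rHom_ext_cover h𝒳 hE hM P₀.obj hP₀ (cover_pb h𝒳 hE hM h𝒵 b C P₀) φ ψ fun s => by
      refine bc_induction (bc_of_qcoh hE m₀ (h := le_top) (isAffineOpen_top _) (isAffineOpen_top _))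
        (fun s => ev φ P₀.obj hP₀ s = ev ψ P₀.obj hP₀ s)
        ((map_zero (ev φ P₀.obj hP₀)).trans (map_zero (ev ψ P₀.obj hP₀)).symm)
        (fun e => LinearMap.congr_fun h e) (fun r e he => by rw [ev_smul_arg, ev_smul_arg, he])
        (fun e e' he he' => by rw [map_add, map_add, he, he']) s
  letI : Module K (RHom π E M w') := Module.compHom (RHom π E M w') ((StMod.bmap 𝒵 b).appLE ⊤ ⊤ le_top).hom
  haveI : IsScalarTower K B (RHom π E M w') := IsScalarTower.of_algebraMap_smul fun _ _ => rfl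
  let Φ := (rPullLin π E M b).liftBaseChange B
  have hcompat : ∀ t, evP (Φ t) = Θ₀ (evH.lTensor B t) := by
    intro t
    induction t using TensorProduct.induction_on with
    | zero => simp
    | tmul c φ =>
      refine LinearMap.ext fun e => ?_
      rw [LinearMap.lTensor_tmul, hΘ₀']
      show ev (Φ (c ⊗ₜ φ)) P₀.obj hP₀ (pb E m₀ ⊤ le_top e) = i₀ c • pb M m₀ ⊤ le_top (ev φ C.x₀ C.aff₀ e)
      rw [show Φ (c ⊗ₜ φ) = c • rPull b φ from LinearMap.liftBaseChange_tmul _ _ _ _, ev_smul, ev_rPull]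
      exact congrArg (i₀ c • ·) (ev_natural φ P₀.mor hP₀ C.aff₀ e)
    | add a c ha hc => simp only [map_add, ha, hc]
  have hΦ : Function.Bijective Φ := by
    refine ⟨fun t t' h => ?_, fun φ' => ?_⟩
    · have := congrArg evP h
      rw [hcompat, hcompat] at this
      exact Module.Flat.lTensor_preserves_injective_linearMap evH hevH (hΘ₀.1 this)
    obtain ⟨t₀, ht₀⟩ := hΘ₀.2 (evP φ')
    have hex : ∀ (p : C.x₁ ⟶ C.x₀) (χ : Γ(E.obj C.x₀.left, ⊤) →ₗ[A₀] Γ(M.obj C.x₀.left, ⊤)),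
        ∃ w : Γ(E.obj C.x₁.left, ⊤) →ₗ[A₁] Γ(M.obj C.x₁.left, ⊤),
          ∀ e, w (pb E p.left ⊤ le_top e) = pb M p.left (U := ⊤) ⊤ le_top (χ e) := fun p χ =>
      exists_pullLin hE p.left ((pb M p.left (U := ⊤) ⊤ le_top).comp χ.toAddMonoidHom) fun r e => by
        simp only [AddMonoidHom.coe_comp, Function.comp_apply, LinearMap.toAddMonoidHom_coe, map_smul]
        exact pb_smul M p.left ⊤ le_top r _
    choose v hv using hex
    let δ : ∀ p : C.x₁ ⟶ C.x₀, (Γ(E.obj C.x₀.left, ⊤) →ₗ[A₀] Γ(M.obj C.x₀.left, ⊤)) →ₗ[K]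
        Γ(E.obj C.x₁.left, ⊤) →ₗ[A₁] Γ(M.obj C.x₁.left, ⊤) :=
      fun p =>
        { toFun := v p
          map_add' := fun χ χ' => linearMap_ext_pb hE p.left _ _ fun e => by
            rw [hv, LinearMap.add_apply, LinearMap.add_apply, map_add, hv, hv]
          map_smul' := fun r χ => linearMap_ext_pb hE p.left _ _ fun e => by
            rw [hv, RingHom.id_apply, LinearMap.smul_apply, LinearMap.smul_apply, hv]
            show pb M p.left ⊤ le_top ((str π C.x₀).appLE ⊤ ⊤ le_top r • χ e) =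
              (str π C.x₁).appLE ⊤ ⊤ le_top r • pb M p.left ⊤ le_top (χ e)
            rw [pb_smul, appLE_str'] }
    have hlin : ∀ p : C.x₁ ⟶ C.x₀, ∀ x, Θ₁ ((δ p).lTensor B t₀) x =
        ev φ' P₁.obj hP₁ (pb E m₁ (U := ⊤) ⊤ le_top x) := by
      intro p
      obtain ⟨p', hp'⟩ := P₀.exists_lift h𝒳 h𝒵 (P₁.mor ≫ p)
      have hl : p'.left ≫ m₀ = m₁ ≫ p.left := congrArg CommaMorphism.left hp'
      have e1 : ∀ (F : StMod.Mod 𝒳) (s : Γ(F.obj C.x₀.left, ⊤)),
          pb F m₁ (U := ⊤) ⊤ le_top (pb F p.left (U := ⊤) ⊤ le_top s) =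
            pb F p'.left (U := ⊤) ⊤ le_top (pb F m₀ (U := ⊤) ⊤ le_top s) := fun F s => by
        rw [pb_pb F m₁ p.left ⊤ le_top le_top le_top, pb_pb F p'.left m₀ ⊤ le_top le_top le_top]
        exact pb_congr F hl.symm ⊤ le_top s
      have e2 : ∀ t e, Θ₁ ((δ p).lTensor B t) (pb E p.left ⊤ le_top e) =
          pb M p'.left (U := ⊤) ⊤ le_top (Θ₀ t e) := by
        intro t e
        induction t using TensorProduct.induction_on with
        | zero => simp
        | tmul c χ =>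
          rw [LinearMap.lTensor_tmul, hΘ₁', hΘ₀']
          show i₁ c • pb M m₁ ⊤ le_top (v p χ (pb E p.left ⊤ le_top e)) =
            pb M p'.left ⊤ le_top (i₀ c • pb M m₀ ⊤ le_top (χ e))
          rw [hv, e1, pb_smul]
          congr 1
          exact (appLE_comp_apply _ _ (bmap_str π p').symm le_top le_top le_top c).symm
        | add a c ha hc => simp only [map_add, LinearMap.add_apply, ha, hc]
      let θ₁ : Γ(E.obj C.x₁.left, ⊤) →ₗ[A₁] Γ(M.obj P₁.obj.left, ⊤) :=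
        { toFun := fun e => ev φ' P₁.obj hP₁ (pb E m₁ (U := ⊤) ⊤ le_top e)
          map_add' := fun a c => by rw [map_add, map_add]
          map_smul' := fun r e => by
            rw [pb_smul, ev_smul_arg]
            rfl }
      refine fun x => LinearMap.congr_fun (linearMap_ext_pb hE p.left _ θ₁ fun e => ?_) x
      rw [e2, ht₀]
      show pb M p'.left ⊤ le_top (ev φ' P₀.obj hP₀ (pb E m₀ ⊤ le_top e)) =
        ev φ' P₁.obj hP₁ (pb E m₁ ⊤ le_top (pb E p.left ⊤ le_top e))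
      rw [e1]
      exact (ev_natural φ' p' hP₁ hP₀ _).symm
    have hker : (δ C.p - δ C.q).lTensor B t₀ = 0 := by
      rw [LinearMap.lTensor_sub, LinearMap.sub_apply, sub_eq_zero]
      exact hΘ₁.1 (LinearMap.ext fun x => (hlin C.p x).trans (hlin C.q x).symm)
    obtain ⟨k, hk⟩ := ((Module.Flat.lTensor_exact B (LinearMap.exact_subtype_ker_map (δ C.p - δ C.q))) t₀).1 hker
    have hlift : ∀ χ : LinearMap.ker (δ C.p - δ C.q), ∃ φ, evH φ = χ.1 := by
      intro χ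
      obtain ⟨ψ, hψ⟩ := exists_ofHom_top h𝒳 hE hM C χ.1 fun w₁ w₂ h₁ h₂ => by
        rw [linearMap_ext_pb hE C.p.left w₁ (δ C.p χ.1) fun e => (h₁ e).trans (hv C.p χ.1 e).symm,
          linearMap_ext_pb hE C.q.left w₂ (δ C.q χ.1) fun e => (h₂ e).trans (hv C.q χ.1 e).symm]
        exact sub_eq_zero.1 χ.2
      exact ⟨ofHom ψ, LinearMap.ext hψ⟩
    have hmem : t₀ ∈ Set.range (evH.lTensor B) := by
      rw [← hk]
      clear hk
      induction k using TensorProduct.induction_on with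
      | zero => exact ⟨0, by simp⟩
      | tmul c χ =>
        obtain ⟨φ, hφ⟩ := hlift χ
        exact ⟨c ⊗ₜ φ, by rw [LinearMap.lTensor_tmul, LinearMap.lTensor_tmul, hφ]; rfl⟩
      | add a c ha hc =>
        obtain ⟨a', ha'⟩ := ha
        obtain ⟨c', hc'⟩ := hc
        exact ⟨a' + c', by rw [map_add, map_add, ha', hc']⟩
    obtain ⟨t, rfl⟩ := hmem
    exact ⟨t, hevP ((hcompat t).trans ht₀)⟩
  exact isBaseChange_of_bijective (rPullLin π E M b) hΦ

end Groth.Agent.StPush
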