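import Groth.Agent.StPush.Rig
import Groth.Agent.StFib.Compact
import Groth.Agent.StFib.PointsTop

/-!
Existence of coverings with flat comparisons of the category of a quasi-compact quasi-separated morphism of
stacks over an object with affine scheme.
-/

set_option autoImplicit false
set_option linter.style.haveILetI false
set_option linter.unusedSectionVars false
set_option backward.isDefEq.respectTransparency false
set_option backward.isDefEq.respectTransparency.types false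

universe u

open CategoryTheory CategoryTheory.Limits AlgebraicGeometry Opposite FibCat
open Groth.Agent.StFib Groth.Agent.StGen

noncomputable section

namespace Groth.Agent.StPush

variable {S : Scheme.{u}}

/-- A morphism with the same map of bases as a flat one is flat. -/
theorem flat_of_p {𝒵 𝒲 : AlgSt.Cat S} {y z : 𝒵.obj} {a : y ⟶ z} {y' z' : 𝒲.obj} {a' : y' ⟶ z'}
    (hy : 𝒲.p.obj y' = 𝒵.p.obj y) (hz : 𝒲.p.obj z' = 𝒵.p.obj z)
    (ha : 𝒲.p.map a' = eqToHom hy ≫ 𝒵.p.map a ≫ eqToHom hz.symm) (h : Flat (StMod.bmap 𝒵 a)) :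
    Flat (StMod.bmap 𝒲 a') := by
  have hb : StMod.bmap 𝒲 a' = ((Over.forget S).mapIso (eqToIso hy)).hom ≫ StMod.bmap 𝒵 a ≫
      ((Over.forget S).mapIso (eqToIso hz)).inv := congrArg CommaMorphism.left ha
  rw [hb]
  infer_instance

theorem isIso_bmap_vert {𝒵 : AlgSt.Cat S} {y z : 𝒵.obj} {a : y ⟶ z} (ha : Vert a) :
    IsIso (StMod.bmap 𝒵 a) := by
  have hb : StMod.bmap 𝒵 a = ((Over.forget S).mapIso (eqToIso ha.base_eq)).hom := congrArg CommaMorphism.left ha.2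
  rw [hb]
  infer_instance

/-- The object of the identity under a functor of slice categories given by a flat morphism is flat. -/
theorem flat_obj_hom {A B : Over S} (F : overCat A ⥤ᵇ overCat B)
    (hF : AlgSt.RepByAlgSpWith (AlgSp.LocP @Flat) F) : Flat (F.obj (Over.mk (𝟙 A))).hom.left := by
  obtain ⟨a, ⟨i⟩⟩ := exists_iso_overMap F
  haveI : Flat a.left :=
    mem_scheme_of_overMap Groth.Agent.AlgSpCov.standard_flat (repByAlgSpWith_of_iso _ i hF)
  let k : (F.obj (Over.mk (𝟙 A)) : Over B) ≅ Over.mk (𝟙 A ≫ a) := isoApp i (Over.mk (𝟙 A))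
  have hk : k.hom.left ≫ 𝟙 A ≫ a = (F.obj (Over.mk (𝟙 A))).hom := over_w k.hom
  rw [← hk]
  show Flat (((Over.forget B ⋙ Over.forget S).mapIso k).hom ≫ (𝟙 A : A ⟶ A).left ≫ a.left)
  infer_instance

/-- The image of a flat object over the identity object is flat. -/
theorem flat_map_toId {A : Over S} {𝒵 : AlgSt.Cat S} (x : overCat A ⥤ᵇ 𝒵) (g : (overCat A).obj)
    (h : Flat g.hom.left) : Flat (StMod.bmap 𝒵 (x.map (overToId g))) := by
  refine flat_of_p (𝒵 := overCat A) (a := overToId g) (x.w_obj g) (x.w_obj (Over.mk (𝟙 A))) (w_map x _) ?_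
  show Flat (overToId g).left.left
  exact h

/-- Morphisms to an image of a slice category lift along factorisations through the identity object. -/
theorem exists_map_eq {A : Over S} {𝒵 : AlgSt.Cat S} (h : IsFibGrpd 𝒵.p) (x : overCat A ⥤ᵇ 𝒵)
    {c o : (overCat A).obj} (m : x.obj c ⟶ x.obj o) (hm : m ≫ x.map (overToId o) = x.map (overToId c)) :
    ∃ α : c ⟶ o, x.map α = m ∧ True := by
  have hb := congrArg (fun k => 𝒵.p.map k) hm
  simp only [Functor.map_comp, w_map] at hb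
  let l : c.left ⟶ o.left := eqToHom (x.w_obj c).symm ≫ 𝒵.p.map m ≫ eqToHom (x.w_obj o)
  have hl : l ≫ o.hom = c.hom := by
    have := congrArg (fun t => eqToHom (x.w_obj c).symm ≫ t ≫ eqToHom (x.w_obj (Over.mk (𝟙 A)))) hb
    simpa [l, overToId, FibCat.overCat, BasedCategory.ofFunctor] using this
  refine ⟨Over.homMk l hl, ?_, trivial⟩
  apply grpd_cancel h (x.map (overToId o))
  · rw [hm, ← x.toFunctor.map_comp]
    exact congrArg x.map (toId_comp _)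
  · rw [w_map]
    simp [l, FibCat.overCat, BasedCategory.ofFunctor]

variable {𝒳 𝒴 : AlgSt.Cat S} (f : 𝒳 ⥤ᵇ 𝒴) (η : 𝒴.obj) {y : overCat (𝒴.p.obj η) ⥤ᵇ 𝒴}
  (i₀ : y.obj (Over.mk (𝟙 (𝒴.p.obj η))) ≅ η)

theorem flat_pairMap {o o' : (fp y f).obj} (m : o ⟶ o') (h : Flat (StMod.bmap (fp y f) m)) :
    Flat (StMod.bmap (StMod.fibCat f η) (pairMap f η i₀ m)) :=
  flat_of_p (𝒲 := StMod.fibCat f η) (y' := pairObj f η i₀ o) (z' := pairObj f η i₀ o') (fp_base_eq o).symm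
    (fp_base_eq o').symm
    (show 𝒳.p.map m.hom.snd = _ from @IsHomLift.fac' _ _ _ _ 𝒳.p _ _ _ _ _ m.hom.snd (fp_isHomLift_snd y f m)) h

theorem pairMap_injective {o o' : (fp y f).obj} {m m' : o ⟶ o'}
    (h : pairMap f η i₀ m = pairMap f η i₀ m') : m = m' := by
  have hs : m.hom.snd = m'.hom.snd := congrArg CommaMorphism.left h
  have hw : y.map m.hom.fst ≫ o'.obj.iso.hom = o.obj.iso.hom ≫ f.map m.hom.snd := m.hom.w
  have hw' : y.map m'.hom.fst ≫ o'.obj.iso.hom = o.obj.iso.hom ≫ f.map m'.hom.snd := m'.hom.w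
  have hy : y.map m.hom.fst = y.map m'.hom.fst := by rw [← cancel_mono o'.obj.iso.hom, hw, hw', hs]
  have hf : m.hom.fst = m'.hom.fst := by
    apply Over.OverMorphism.ext
    have h1 := congrArg (fun k => 𝒴.p.map k) hy
    simp only [w_map] at h1
    exact (cancel_mono _).1 ((cancel_epi _).1 h1)
  refine InducedCategory.hom_ext ?_
  exact CategoricalPullback.hom_ext hf hs

local notation "K" => Scheme.fppfPrecoverage

set_option maxHeartbeats 3200000 in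
/-- Two lifts of a pair agree after passing to an affine object flat over the object of pairs. -/
theorem exists_cover₃ (h𝒴g : IsFibGrpd 𝒴.p) {f : 𝒳 ⥤ᵇ 𝒴} {η : 𝒴.obj} {y : overCat (𝒴.p.obj η) ⥤ᵇ 𝒴}
    (i₀ : y.obj (Over.mk (𝟙 (𝒴.p.obj η))) ≅ η) (hi₀ : Vert i₀.hom) (hMg : IsFibGrpd (fp y f).p)
    {U : Over S} (x : overCat U ⥤ᵇ fp y f) (hNg : IsFibGrpd (fp x x).p) {U₂ : Over S}
    (x₂ : overCat U₂ ⥤ᵇ fp x x) (hxflat : AlgSt.RepByAlgSpWith (AlgSp.LocP @Flat) x₂)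
    (hP : AlgSt.IsAlgStack K (fp x₂ x₂)) {J : Type u} (T : J → Over S) (hT : ∀ j, IsAffine (T j).left)
    (zT : ∀ j, overCat (T j) ⥤ᵇ fp x₂ x₂) (hzTflat : ∀ j, AlgSt.RepByAlgSpWith (AlgSp.LocP @Flat) (zT j))
    (hzT1 : ∀ j, AlgSt.LocQ (AlgSp.LocP @Flat) (zT j))
    (hzT2 : ∀ j, AlgSt.LocQ (AlgSp.LocP @LocallyOfFinitePresentation) (zT j))
    (hzT3 : ∀ p : AlgSt.Points (fp x₂ x₂), ∃ j, p ∈ Set.range (AlgSt.Points.map (zT j)))
    (z : (StMod.fibCat f η).obj)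
    (d d' : z ⟶ pairObj f η i₀ (x.obj (x₂.obj (Over.mk (𝟙 U₂))).obj.fst))
    (hp : d ≫ pairMap f η i₀ (x.map (overToId (x₂.obj (Over.mk (𝟙 U₂))).obj.fst)) =
      d' ≫ pairMap f η i₀ (x.map (overToId (x₂.obj (Over.mk (𝟙 U₂))).obj.fst)))
    (hq : d ≫ pairMap f η i₀ ((x₂.obj (Over.mk (𝟙 U₂))).obj.iso.hom ≫
        x.map (overToId (x₂.obj (Over.mk (𝟙 U₂))).obj.snd)) =
      d' ≫ pairMap f η i₀ ((x₂.obj (Over.mk (𝟙 U₂))).obj.iso.hom ≫
        x.map (overToId (x₂.obj (Over.mk (𝟙 U₂))).obj.snd)))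
    (w : StMod.sch (StMod.fibCat f η) z) :
    ∃ (y' : (StMod.fibCat f η).obj) (c : y' ⟶ z) (w₂ : (StMod.fibCat f η).obj)
      (_ : IsAffine (StMod.sch (StMod.fibCat f η) w₂))
      (e e' : w₂ ⟶ pairObj f η i₀ (x.obj (x₂.obj (Over.mk (𝟙 U₂))).obj.fst)) (k : y' ⟶ w₂),
      IsNhd c w ∧
      e ≫ pairMap f η i₀ (x.map (overToId (x₂.obj (Over.mk (𝟙 U₂))).obj.fst)) =
        e' ≫ pairMap f η i₀ (x.map (overToId (x₂.obj (Over.mk (𝟙 U₂))).obj.fst)) ∧
      e ≫ pairMap f η i₀ ((x₂.obj (Over.mk (𝟙 U₂))).obj.iso.hom ≫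
          x.map (overToId (x₂.obj (Over.mk (𝟙 U₂))).obj.snd)) =
        e' ≫ pairMap f η i₀ ((x₂.obj (Over.mk (𝟙 U₂))).obj.iso.hom ≫
          x.map (overToId (x₂.obj (Over.mk (𝟙 U₂))).obj.snd)) ∧
      Flat (StMod.bmap (StMod.fibCat f η) e) ∧ k ≫ e = c ≫ d ∧ k ≫ e' = c ≫ d' := by
  let o₂ : (fp x x).obj := x₂.obj (Over.mk (𝟙 U₂))
  let x₀M : (fp y f).obj := x.obj (Over.mk (𝟙 U))
  let pM : x.obj o₂.obj.fst ⟶ x₀M := x.map (overToId o₂.obj.fst)
  let qM : x.obj o₂.obj.fst ⟶ x₀M := o₂.obj.iso.hom ≫ x.map (overToId o₂.obj.snd)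
  have hxid : ∀ {g g' : (overCat U).obj} (k : g ⟶ g'),
      x.map k ≫ x.map (overToId g') = x.map (overToId g) := fun k =>
    (x.toFunctor.map_comp _ _).symm.trans (congrArg x.map (toId_comp k))
  have hx₂id : ∀ {g g' : (overCat U₂).obj} (k : g ⟶ g'),
      x₂.map k ≫ x₂.map (overToId g') = x₂.map (overToId g) := fun k =>
    (x₂.toFunctor.map_comp _ _).symm.trans (congrArg x₂.map (toId_comp k))
  obtain ⟨χ, hχ, hzM⟩ := exists_obj_of_pair f η i₀ hi₀ h𝒴g z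
  let zM : (fp y f).obj := fpMk (F := y) (G := f) (Over.mk (StMod.baseOver f z.left z.hom)) z.left χ hχ
  let e : pairObj f η i₀ zM ⟶ z := CostructuredArrow.homMk (𝟙 z.left)
    (show f.map (𝟙 z.left) ≫ z.hom = pairHom f η i₀ zM by
      rw [f.toFunctor.map_id]; exact (Category.id_comp _).trans hzM.symm)
  obtain ⟨dM, hdM⟩ := exists_pairMap f η i₀ hi₀ h𝒴g (e ≫ d)
  obtain ⟨dM', hdM'⟩ := exists_pairMap f η i₀ hi₀ h𝒴g (e ≫ d')
  have hpe : dM ≫ pM = dM' ≫ pM := pairMap_injective f η i₀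
    (by rw [pairMap_comp f η i₀ dM pM, pairMap_comp f η i₀ dM' pM, hdM, hdM', Category.assoc, Category.assoc, hp])
  have hqe : dM ≫ qM = dM' ≫ qM := pairMap_injective f η i₀
    (by rw [pairMap_comp f η i₀ dM qM, pairMap_comp f η i₀ dM' qM, hdM, hdM', Category.assoc, Category.assoc, hq])
  have hch : ∀ k : zM ⟶ x₀M, ∃ (c' : (overCat U).obj) (χ' : x.obj c' ≅ zM), Vert χ'.hom ∧
      χ'.hom ≫ k = x.map (overToId c') := fun k => by
    let c' : (overCat U).obj := Over.mk ((fp y f).p.map k ≫ eqToHom (x.w_obj (Over.mk (𝟙 U))))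
    obtain ⟨χ', hχ', h'⟩ := grpd_exists_vert_fac hMg k (x.map (overToId c'))
      (x.w_obj c') (by rw [w_map]; simp [c', overToId, FibCat.overCat, BasedCategory.ofFunctor, x₀M])
    exact ⟨c', χ', hχ', h'⟩
  obtain ⟨c', χa, hχa, hfa'⟩ := hch (dM ≫ pM)
  obtain ⟨d₀, χb, hχb, hfb'⟩ := hch (dM ≫ qM)
  let oN : (fp x x).obj := fpMk c' d₀ (χa ≪≫ χb.symm) (hχa.comp hχb.inv)
  have hlift : ∀ m : zM ⟶ x.obj o₂.obj.fst, m ≫ pM = dM ≫ pM → m ≫ qM = dM ≫ qM →
      ∃ k : oN ⟶ o₂, x.map k.hom.fst = χa.hom ≫ m := by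
    intro m hm hm'
    obtain ⟨α, hα, hαb⟩ := exists_map_eq hMg x (c := c') (o := o₂.obj.fst) (χa.hom ≫ m)
      (by rw [Category.assoc, hm]; exact hfa')
    obtain ⟨β, hβ, hβb⟩ := exists_map_eq hMg x (c := d₀) (o := o₂.obj.snd)
      (χb.hom ≫ m ≫ o₂.obj.iso.hom)
      (by rw [Category.assoc, Category.assoc]; exact (congrArg (χb.hom ≫ ·) hm').trans hfb')
    refine ⟨fpHom α β ?_, hα⟩
    rw [hα, hβ]
    show (χa.hom ≫ m) ≫ o₂.obj.iso.hom = (χa.hom ≫ χb.inv) ≫ χb.hom ≫ m ≫ o₂.obj.iso.hom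
    simp
  obtain ⟨kN, hkN⟩ := hlift dM rfl rfl
  obtain ⟨kN', hkN'⟩ := hlift dM' hpe.symm hqe.symm
  have hch₂ : ∀ k : oN ⟶ o₂, ∃ (c₁ : (overCat U₂).obj) (χ' : x₂.obj c₁ ≅ oN), Vert χ'.hom ∧
      χ'.hom ≫ k = x₂.map (overToId c₁) := fun k => by
    let c₁ : (overCat U₂).obj := Over.mk ((fp x x).p.map k ≫ eqToHom (x₂.w_obj (Over.mk (𝟙 U₂))))
    obtain ⟨χ', hχ', h'⟩ := grpd_exists_vert_fac hNg k (x₂.map (overToId c₁))
      (x₂.w_obj c₁) (by rw [w_map]; simp [c₁, overToId, FibCat.overCat, BasedCategory.ofFunctor, o₂])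
    exact ⟨c₁, χ', hχ', h'⟩
  obtain ⟨c₁, χ₁, hχ₁, hf₁⟩ := hch₂ kN
  obtain ⟨c₂, χ₂, hχ₂, hf₂⟩ := hch₂ kN'
  let oP : (fp x₂ x₂).obj := fpMk c₁ c₂ (χ₁ ≪≫ χ₂.symm) (hχ₁.comp hχ₂.inv)
  have hbase : (fp x₂ x₂).p.obj oP = (fp y f).p.obj zM :=
    (x₂.w_obj c₁).symm.trans (hχ₁.base_eq.trans ((x.w_obj c').symm.trans hχa.base_eq))
  obtain ⟨R, hR, hl⟩ := exists_lift_sieve_family hP (fun j => overCat (T j)) (fun j => isAlgStack_overCat (T j))
    zT hzT1 hzT2 hzT3 oP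
  obtain ⟨V, g, o', ν, hg, hν, hn⟩ := exists_nhd hP.isStack.1 hR ((Over.forget S).map
    (eqToHom ((fp_base_eq zM).symm.trans hbase.symm)) w)
  obtain ⟨j, c₃, i, -⟩ := hl g hg o' ν hν
  let o₃ : (fp x₂ x₂).obj := (zT j).obj (Over.mk (𝟙 (T j)))
  let m : o' ⟶ o₃ := i.inv ≫ (zT j).map (overToId c₃)
  let eM : x.obj (x₂.obj o₃.obj.fst).obj.fst ⟶ x.obj o₂.obj.fst :=
    x.map (x₂.map (overToId o₃.obj.fst)).hom.fst
  let eM' : x.obj (x₂.obj o₃.obj.fst).obj.fst ⟶ x.obj o₂.obj.fst :=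
    x.map (o₃.obj.iso.hom ≫ x₂.map (overToId o₃.obj.snd)).hom.fst
  let kM : x.obj (x₂.obj o'.obj.fst).obj.fst ⟶ x.obj (x₂.obj o₃.obj.fst).obj.fst :=
    x.map (x₂.map m.hom.fst).hom.fst
  let cM : x.obj (x₂.obj o'.obj.fst).obj.fst ⟶ zM := x.map (x₂.map ν.hom.fst ≫ χ₁.hom).hom.fst ≫ χa.hom
  have hwν : x₂.map ν.hom.fst ≫ (χ₁.hom ≫ χ₂.inv) = o'.obj.iso.hom ≫ x₂.map ν.hom.snd := ν.hom.w
  have hwm : x₂.map m.hom.fst ≫ o₃.obj.iso.hom = o'.obj.iso.hom ≫ x₂.map m.hom.snd := m.hom.w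
  have h1 : x₂.map m.hom.fst ≫ x₂.map (overToId o₃.obj.fst) = (x₂.map ν.hom.fst ≫ χ₁.hom) ≫ kN := by
    rw [hx₂id, Category.assoc, hf₁]
    exact (hx₂id ν.hom.fst).symm
  have h2 : x₂.map m.hom.fst ≫ o₃.obj.iso.hom ≫ x₂.map (overToId o₃.obj.snd) =
      (x₂.map ν.hom.fst ≫ χ₁.hom) ≫ kN' := by
    rw [← Category.assoc, hwm, Category.assoc, hx₂id, show kN' = χ₂.inv ≫ x₂.map (overToId c₂) by
      rw [← hf₂, Iso.inv_hom_id_assoc]]
    rw [Category.assoc, ← Category.assoc χ₁.hom, ← Category.assoc, hwν, Category.assoc]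
    exact congrArg (o'.obj.iso.hom ≫ ·) (hx₂id ν.hom.snd).symm
  have hxc : ∀ {a b c : (fp x x).obj} (u : a ⟶ b) (v : b ⟶ c),
      x.map (u ≫ v).hom.fst = x.map u.hom.fst ≫ x.map v.hom.fst := fun u v => x.toFunctor.map_comp _ _
  have hk1 : kM ≫ eM = cM ≫ dM := by
    rw [Category.assoc, ← hkN, ← hxc, ← hxc, h1]
  have hk2 : kM ≫ eM' = cM ≫ dM' := by
    rw [Category.assoc, ← hkN', ← hxc, ← hxc, h2]
  have hep : eM ≫ pM = eM' ≫ pM := (hxid _).trans (hxid _).symm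
  have heq : eM ≫ qM = eM' ≫ qM := by
    have key : ∀ u : x₂.obj o₃.obj.fst ⟶ o₂, x.map u.hom.fst ≫ qM =
        (x₂.obj o₃.obj.fst).obj.iso.hom ≫ x.map (overToId (x₂.obj o₃.obj.fst).obj.snd) := fun u => by
      show x.map u.hom.fst ≫ o₂.obj.iso.hom ≫ _ = _
      rw [← Category.assoc, show x.map u.hom.fst ≫ o₂.obj.iso.hom = _ from u.hom.w, Category.assoc, hxid]
    exact (key _).trans (key _).symm
  haveI he3 : Flat o₃.obj.fst.hom.left := flat_obj_hom (BasedFunctor.comp (zT j) (fpFst x₂ x₂))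
    (repByAlgSpWith_comp (good_locP (S := S) Groth.Agent.AlgSpCov.standard_flat).bc (good_locP (S := S) Groth.Agent.AlgSpCov.standard_flat).comp (good_locP (S := S) Groth.Agent.AlgSpCov.standard_flat).det
      (isFibGrpd_overCat (T j)) hP.isStack.1 (hzTflat j)
      (repByAlgSpWith_fpFst _ x₂ hxflat))
  have hfle : Flat (StMod.bmap (fp y f) eM) :=
    flat_of_p (𝒵 := fp x x) (a := x₂.map (overToId o₃.obj.fst))
      (x.w_obj (x₂.obj o₃.obj.fst).obj.fst) (x.w_obj o₂.obj.fst) (w_map x _)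
      (flat_map_toId x₂ o₃.obj.fst he3)
  have hcM : IsNhd cM ((Over.forget S).map (eqToHom (fp_base_eq zM).symm) w) := by
    refine exists_isNhd_of_p (𝒵 := fp x₂ x₂) (a := ν)
      ((x.w_obj _).trans (x₂.w_obj o'.obj.fst)) hbase.symm ?_ _ ?_
    · rw [Functor.map_comp, w_map, hχa.2]
      show _ ≫ _ = _
      have hb : (fp x x).p.map (x₂.map ν.hom.fst ≫ χ₁.hom) = (overCat U).p.map (x₂.map ν.hom.fst ≫ χ₁.hom).hom.fst :=
        rfl
      rw [← hb, Functor.map_comp, w_map, hχ₁.2]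
      simp only [Category.assoc, eqToHom_trans, eqToHom_trans_assoc]
      rfl
    · have key : ∀ {A B C : Over S} (h : A = B) (h' : B = C) (w : ((Over.forget S).obj A : Scheme.{u})),
          (Over.forget S).map (eqToHom h') ((Over.forget S).map (eqToHom h) w) =
            (Over.forget S).map (eqToHom (h.trans h')) w := by
        intro A B C h h' w; subst h h'; simp
      exact (key (fp_base_eq zM).symm hbase.symm w).symm ▸ hn
  refine ⟨pairObj f η i₀ (x.obj (x₂.obj o'.obj.fst).obj.fst), pairMap f η i₀ cM ≫ e,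
    pairObj f η i₀ (x.obj (x₂.obj o₃.obj.fst).obj.fst), ?_, pairMap f η i₀ eM, pairMap f η i₀ eM',
    pairMap f η i₀ kM, ?_, ?_, ?_, flat_pairMap f η i₀ eM hfle, ?_, ?_⟩
  · show IsAffine (𝒳.p.obj (x.obj (x₂.obj o₃.obj.fst).obj.fst).obj.snd).left
    rw [← fp_base_eq, show (overCat (𝒴.p.obj η)).p.obj (x.obj (x₂.obj o₃.obj.fst).obj.fst).obj.fst = T j from
      (x.w_obj _).trans ((x₂.w_obj _).trans ((zT j).w_obj _))]
    exact hT j
  · have h := exists_isNhd_pairMap f η i₀ cM w hcM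
    have he : StMod.bmap (StMod.fibCat f η) (pairMap f η i₀ cM ≫ e) =
        StMod.bmap (StMod.fibCat f η) (pairMap f η i₀ cM) := by
      show StMod.bmap 𝒳 (cM.hom.snd ≫ 𝟙 _) = StMod.bmap 𝒳 cM.hom.snd
      rw [Category.comp_id]
    unfold IsNhd
    rw [he]
    exact h
  · rw [← pairMap_comp, ← pairMap_comp, hep]
  · rw [← pairMap_comp, ← pairMap_comp, heq]
  · rw [Category.assoc, ← hdM, ← pairMap_comp, ← pairMap_comp, hk1]
  · rw [Category.assoc, ← hdM', ← pairMap_comp, ← pairMap_comp, hk2]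

set_option maxHeartbeats 3200000 in
/-- Coverings with flat comparisons over an object with affine scheme. -/
theorem exists_pres (h𝒳 : AlgSt.IsAlgStack K 𝒳) (h𝒴 : AlgSt.IsAlgStack K 𝒴) (f : 𝒳 ⥤ᵇ 𝒴)
    (hfqc : AlgSt.IsQuasiCompactMor K f) (hfqs : AlgSt.IsQuasiSeparatedMor f) (η : 𝒴.obj)
    (hη : IsAffine (StMod.sch 𝒴 η)) : Nonempty (Pres (StMod.fibCat f η)) := by
  haveI : IsAffine (𝒴.p.obj η).left := hη
  obtain ⟨y, i₀, hi₀⟩ := exists_overFunctor h𝒴.isStack.1 η rfl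
  have hT := isAlgStack_overCat (𝒴.p.obj η)
  have hM := isAlgStack_fp h𝒴.isStack h𝒴.diag hT h𝒳 y f
  obtain ⟨U, x, hU, hxs, hxsurj⟩ := hfqc _ hT (isQuasiCompact_overCat _) y
  haveI := hU
  have hUst := isAlgStack_overCat U
  have hlocQ : ∀ {𝒲 : AlgSt.Cat S} {W : Over S} (z : overCat W ⥤ᵇ 𝒲), AlgSt.IsAlgStack K 𝒲 →
      AlgSt.RepByAlgSpWith (AlgSp.LocP @Smooth) z → AlgSt.RepByAlgSpWith AlgSp.IsSurjectiveMor z →
      AlgSt.LocQ (AlgSp.LocP @Flat) z ∧ AlgSt.LocQ (AlgSp.LocP @LocallyOfFinitePresentation) z ∧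
        AlgSt.IsSurjective z := fun {𝒲 W} z h𝒲 h1 h2 =>
    ⟨locQ_of_repByAlgSpWith (isSmoothLocalST_locP smoothLocalProp_flat) (isAlgStack_overCat W) h𝒲
        (repByAlgSpWith_flat_of_smooth h1),
      locQ_of_repByAlgSpWith (isSmoothLocalST_locP smoothLocalProp_lfp) (isAlgStack_overCat W) h𝒲
        (repByAlgSpWith_lfp_of_smooth h1),
      (isSurjective_iff_rep (isAlgStack_overCat W) h𝒲 (repByAlgSp1_of_with h2)).2 h2⟩
  obtain ⟨hx1, hx2, hx3⟩ := hlocQ x hM hxs hxsurj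
  let x₀M : (fp y f).obj := x.obj (Over.mk (𝟙 U))
  -- pairs
  obtain ⟨a₀, ⟨ia⟩⟩ := exists_iso_overMap (BasedFunctor.comp x (fpFst y f))
  haveI : QuasiCompact a₀.left := inferInstance
  have hxqc : AlgSt.IsQuasiCompactMor K x :=
    isQuasiCompactMor_of_comp_of_qs hUst hM hT
      (isQuasiCompactMor_of_iso ia.symm (isQuasiCompactMor_overMap a₀)) (diag_fpFst_mem _ y hfqs)
  have hN := isAlgStack_fp hM.isStack hM.diag hUst hUst x x
  obtain ⟨U₂, x₂, hU₂, hx₂s, hx₂surj⟩ := hxqc _ hUst (isQuasiCompact_overCat U) x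
  obtain ⟨hx₂1, hx₂2, hx₂3⟩ := hlocQ x₂ hN hx₂s hx₂surj
  have hflatGood := good_locP (S := S) Groth.Agent.AlgSpCov.standard_flat
  let o₂ : (fp x x).obj := x₂.obj (Over.mk (𝟙 U₂))
  have hU₂st := isAlgStack_overCat U₂
  have hP := isAlgStack_fp hN.isStack hN.diag hU₂st hU₂st x₂ x₂
  obtain ⟨W, ωW, hω, hωs⟩ := atlasProp_smooth.atlas (repByAlgSp1_chart hN x₂ U₂ x₂)
  let T : W.left.affineOpens → Over S := fun j => Over.mk (Scheme.Opens.ι j.1 ≫ W.hom)
  let ιT : ∀ j, T j ⟶ W := fun j => Over.homMk (Scheme.Opens.ι j.1) rfl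
  let zT : ∀ j, overCat (T j) ⥤ᵇ fp x₂ x₂ := fun j => BasedFunctor.comp (AlgSt.overMap (ιT j)) ωW
  have hlfpGood := good_locP (S := S) Groth.Agent.AlgSpCov.standard_locallyOfFinitePresentation
  have hzTflat : ∀ j, AlgSt.RepByAlgSpWith (AlgSp.LocP @Flat) (zT j) := fun j =>
    repByAlgSpWith_comp hflatGood.bc hflatGood.comp hflatGood.det (isFibGrpd_overCat _) (isFibGrpd_overCat _)
      (repByAlgSpWith_overMap_locP Groth.Agent.AlgSpCov.standard_flat (ιT j)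
        (inferInstanceAs (Flat (Scheme.Opens.ι j.1))))
      (repByAlgSpWith_flat_of_smooth hω)
  have hzT1 : ∀ j, AlgSt.LocQ (AlgSp.LocP @Flat) (zT j) := fun j =>
    locQ_of_repByAlgSpWith (isSmoothLocalST_locP smoothLocalProp_flat) (isAlgStack_overCat _) hP (hzTflat j)
  have hzT2 : ∀ j, AlgSt.LocQ (AlgSp.LocP @LocallyOfFinitePresentation) (zT j) := fun j =>
    locQ_of_repByAlgSpWith (isSmoothLocalST_locP smoothLocalProp_lfp) (isAlgStack_overCat _) hP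
      (repByAlgSpWith_comp hlfpGood.bc hlfpGood.comp hlfpGood.det (isFibGrpd_overCat _) (isFibGrpd_overCat _)
        (repByAlgSpWith_overMap_locP Groth.Agent.AlgSpCov.standard_locallyOfFinitePresentation (ιT j)
          (inferInstanceAs (LocallyOfFinitePresentation (Scheme.Opens.ι j.1))))
        (repByAlgSpWith_lfp_of_smooth hω))
  have hzT3 : ∀ p : AlgSt.Points (fp x₂ x₂), ∃ j, p ∈ Set.range (AlgSt.Points.map (zT j)) := fun p => by
    obtain ⟨t, rfl⟩ := ofChart_surjective hP.isStack.1 hωs p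
    obtain ⟨_, ⟨W₀, hW₀, rfl⟩, hw, -⟩ := W.left.isBasis_affineOpens.exists_subset_of_mem_open
      (show t ∈ ((⊤ : W.left.Opens) : Set _) from trivial) isOpen_univ
    let t' : (T ⟨W₀, hW₀⟩).left := (⟨t, hw⟩ : W₀)
    refine ⟨⟨W₀, hW₀⟩, AlgSt.Points.ofChart (BasedFunctor.id _) t', ?_⟩
    rw [map_ofChart]
    exact ofChart_overMap ωW (ιT ⟨W₀, hW₀⟩) t'
  let pM : x.obj o₂.obj.fst ⟶ x₀M := x.map (overToId o₂.obj.fst)
  let qM : x.obj o₂.obj.fst ⟶ x₀M := o₂.obj.iso.hom ≫ x.map (overToId o₂.obj.snd)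
  have hxid : ∀ {g g' : (overCat U).obj} (k : g ⟶ g'),
      x.map k ≫ x.map (overToId g') = x.map (overToId g) := fun k =>
    (x.toFunctor.map_comp _ _).symm.trans (congrArg x.map (toId_comp k))
  have hx₂id : ∀ {g g' : (overCat U₂).obj} (k : g ⟶ g'),
      x₂.map k ≫ x₂.map (overToId g') = x₂.map (overToId g) := fun k =>
    (x₂.toFunctor.map_comp _ _).symm.trans (congrArg x₂.map (toId_comp k))
  haveI hfa : Flat o₂.obj.fst.hom.left :=
    flat_obj_hom (BasedFunctor.comp x₂ (fpFst x x)) (repByAlgSpWith_comp hflatGood.bc hflatGood.comp hflatGood.det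
      (isFibGrpd_overCat U₂) hN.isStack.1 (repByAlgSpWith_flat_of_smooth hx₂s)
      (repByAlgSpWith_fpFst _ x (repByAlgSpWith_flat_of_smooth hxs)))
  haveI hfb : Flat o₂.obj.snd.hom.left :=
    flat_obj_hom (BasedFunctor.comp x₂ (fpSnd x x)) (repByAlgSpWith_comp hflatGood.bc hflatGood.comp hflatGood.det
      (isFibGrpd_overCat U₂) hN.isStack.1 (repByAlgSpWith_flat_of_smooth hx₂s)
      (repByAlgSpWith_fpSnd _ x (repByAlgSpWith_flat_of_smooth hxs)))
  have hflp : Flat (StMod.bmap (fp y f) pM) := flat_map_toId x o₂.obj.fst hfa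
  have hflq : Flat (StMod.bmap (fp y f) qM) := by
    haveI := isIso_bmap_vert (vert_fp_iso o₂)
    haveI := flat_map_toId x o₂.obj.snd hfb
    show Flat (StMod.bmap (fp y f) (o₂.obj.iso.hom ≫ x.map (overToId o₂.obj.snd)))
    rw [StMod.bmap_comp]
    infer_instance
  refine ⟨⟨⟨pairObj f η i₀ x₀M, pairObj f η i₀ (x.obj o₂.obj.fst), pairMap f η i₀ pM,
    pairMap f η i₀ qM, ?_, ?_, fun z w => ?_, fun z a b w => ?_⟩, flat_pairMap f η i₀ pM hflp,
    flat_pairMap f η i₀ qM hflq, fun z d d' hp hq w => ?_⟩⟩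
  · show IsAffine (𝒳.p.obj x₀M.obj.snd).left
    rw [← fp_base_eq x₀M, show (overCat (𝒴.p.obj η)).p.obj x₀M.obj.fst = U from x.w_obj _]
    exact hU
  · show IsAffine (𝒳.p.obj (x.obj o₂.obj.fst).obj.snd).left
    rw [← fp_base_eq, show (overCat (𝒴.p.obj η)).p.obj (x.obj o₂.obj.fst).obj.fst = U₂ from
      (x.w_obj _).trans (x₂.w_obj _)]
    exact hU₂
  · obtain ⟨χ, hχ, hzM⟩ := exists_obj_of_pair f η i₀ hi₀ h𝒴.isStack.1 z
    let zM : (fp y f).obj := fpMk (F := y) (G := f) (Over.mk (StMod.baseOver f z.left z.hom)) z.left χ hχ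
    obtain ⟨R, hR, hl⟩ := exists_lift_sieve hUst hM x hx1 hx2 hx3 zM
    obtain ⟨V, g, b', ν, hg, hν, hn⟩ := exists_nhd hM.isStack.1 hR
      ((Over.forget S).map (eqToHom (fp_base_eq zM).symm) w)
    obtain ⟨c, i, -⟩ := hl g hg b' ν hν
    refine ⟨pairObj f η i₀ b', CostructuredArrow.homMk ν.hom.snd
      ((congrArg (f.map ν.hom.snd ≫ ·) hzM.symm).trans (pairHom_comp f η i₀ ν)),
      pairMap f η i₀ (i.inv ≫ x.map (overToId c)), ?_⟩
    exact exists_isNhd_pairMap f η i₀ ν w hn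
  · obtain ⟨χ, hχ, hzM⟩ := exists_obj_of_pair f η i₀ hi₀ h𝒴.isStack.1 z
    let zM : (fp y f).obj := fpMk (F := y) (G := f) (Over.mk (StMod.baseOver f z.left z.hom)) z.left χ hχ
    let e : pairObj f η i₀ zM ⟶ z := CostructuredArrow.homMk (𝟙 z.left)
      (show f.map (𝟙 z.left) ≫ z.hom = pairHom f η i₀ zM by
        rw [f.toFunctor.map_id]; exact (Category.id_comp _).trans hzM.symm)
    obtain ⟨aM, haM⟩ := exists_pairMap f η i₀ hi₀ h𝒴.isStack.1 (e ≫ a)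
    obtain ⟨bM, hbM⟩ := exists_pairMap f η i₀ hi₀ h𝒴.isStack.1 (e ≫ b)
    have hxid : ∀ {g g' : (overCat U).obj} (k : g ⟶ g'),
        x.map k ≫ x.map (overToId g') = x.map (overToId g) := fun k =>
      (x.toFunctor.map_comp _ _).symm.trans (congrArg x.map (toId_comp k))
    have hch : ∀ k : zM ⟶ x₀M, ∃ (c' : (overCat U).obj) (χ' : x.obj c' ≅ zM), Vert χ'.hom ∧
        χ'.hom ≫ k = x.map (overToId c') := fun k => by
      let c' : (overCat U).obj := Over.mk ((fp y f).p.map k ≫ eqToHom (x.w_obj (Over.mk (𝟙 U))))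
      obtain ⟨χ', hχ', h'⟩ := grpd_exists_vert_fac hM.isStack.1 k (x.map (overToId c'))
        (x.w_obj c') (by rw [w_map]; simp [c', overToId, FibCat.overCat, BasedCategory.ofFunctor, x₀M])
      exact ⟨c', χ', hχ', h'⟩
    obtain ⟨c', χa, hχa, hfa⟩ := hch aM
    obtain ⟨d', χb, hχb, hfb⟩ := hch bM
    have hji : Vert (χa ≪≫ χb.symm).hom := hχa.comp hχb.inv
    let oN : (fp x x).obj := fpMk c' d' (χa ≪≫ χb.symm) hji
    obtain ⟨R, hR, hl⟩ := exists_lift_sieve (isAlgStack_overCat U₂) hN x₂ hx₂1 hx₂2 hx₂3 oN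
    have hbase : (fp x x).p.obj oN = (fp y f).p.obj zM := (x.w_obj c').symm.trans hχa.base_eq
    obtain ⟨V, g, o', ν, hg, hν, hn⟩ := exists_nhd hN.isStack.1 hR ((Over.forget S).map
      (eqToHom ((fp_base_eq zM).symm.trans hbase.symm)) w)
    obtain ⟨e₂, i, -⟩ := hl g hg o' ν hν
    let m : o' ⟶ o₂ := i.inv ≫ x₂.map (overToId e₂)
    let cM : x.obj o'.obj.fst ⟶ zM := x.map ν.hom.fst ≫ χa.hom
    let dM : x.obj o'.obj.fst ⟶ x.obj o₂.obj.fst := x.map m.hom.fst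
    have hcM : IsNhd cM ((Over.forget S).map (eqToHom (fp_base_eq zM).symm) w) := by
      refine exists_isNhd_of_p (𝒵 := fp x x) (a := ν) (x.w_obj o'.obj.fst) hbase.symm ?_ _ ?_
      · rw [Functor.map_comp, w_map, hχa.2]
        simp only [Category.assoc, eqToHom_trans]
        rfl
      · have key : ∀ {A B C : Over S} (h : A = B) (h' : B = C) (w : ((Over.forget S).obj A : Scheme.{u})),
            (Over.forget S).map (eqToHom h') ((Over.forget S).map (eqToHom h) w) =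
              (Over.forget S).map (eqToHom (h.trans h')) w := by
          intro A B C h h' w; subst h h'; simp
        exact (key (fp_base_eq zM).symm hbase.symm w).symm ▸ hn
    refine ⟨pairObj f η i₀ (x.obj o'.obj.fst), pairMap f η i₀ cM ≫ e, pairMap f η i₀ dM, ?_, ?_, ?_⟩
    · have h := exists_isNhd_pairMap f η i₀ cM w hcM
      have he : StMod.bmap (StMod.fibCat f η) (pairMap f η i₀ cM ≫ e) =
          StMod.bmap (StMod.fibCat f η) (pairMap f η i₀ cM) := by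
        show StMod.bmap 𝒳 (cM.hom.snd ≫ 𝟙 _) = StMod.bmap 𝒳 cM.hom.snd
        rw [Category.comp_id]
      unfold IsNhd
      rw [he]
      exact h
    · rw [Category.assoc, ← haM, ← pairMap_comp, ← pairMap_comp]
      congr 1
      simp only [cM, dM, pM, Category.assoc]
      erw [hxid, hfa]
      exact (hxid _).symm
    · rw [Category.assoc, ← hbM, ← pairMap_comp, ← pairMap_comp]
      congr 1
      have hwν : x.map ν.hom.fst ≫ (χa.hom ≫ χb.inv) = o'.obj.iso.hom ≫ x.map ν.hom.snd := ν.hom.w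
      have hwm : x.map m.hom.fst ≫ o₂.obj.iso.hom = o'.obj.iso.hom ≫ x.map m.hom.snd := m.hom.w
      have hb2 : bM = χb.inv ≫ x.map (overToId d') := by rw [← hfb, Iso.inv_hom_id_assoc]
      simp only [cM, dM, qM, hb2]
      rw [← Category.assoc, hwm, Category.assoc]
      erw [hxid]
      rw [← Category.assoc, Category.assoc (x.map ν.hom.fst), hwν, Category.assoc]
      exact congrArg (fun t => o'.obj.iso.hom ≫ t) (hxid _).symm
  · exact exists_cover₃ h𝒴.isStack.1 i₀ hi₀ hM.isStack.1 x hN.isStack.1 x₂ (repByAlgSpWith_flat_of_smooth hx₂s) hP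
      T (fun j => j.2) zT hzTflat hzT1 hzT2 hzT3 z d d' hp hq w

end Groth.Agent.StPush
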