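import Groth.Agent.StPush.Adj
import Groth.Agent.StPush.HomFlat
import Groth.Prelude.Def_StMod2
import Groth.Agent.StFib.Fp
import Groth.Agent.StPush.PresExist
import Groth.Agent.AlgSp.Basic

/-!
Surjectivity on sections of pushforwards descends along flat covers of the base.
-/

set_option autoImplicit false
set_option linter.style.haveILetI false
set_option linter.unusedSectionVars false
set_option backward.isDefEq.respectTransparency false
set_option backward.isDefEq.respectTransparency.types false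

universe u

open CategoryTheory CategoryTheory.Limits AlgebraicGeometry Opposite FibCat
open Groth.Agent.QCoh Groth.Agent.StDesc Groth.Agent.StGen Groth.Agent.StFib
open scoped TensorProduct

noncomputable section

namespace Groth.Agent.StPush

/-- An element in the image after faithfully many flat base changes lies in the image. -/
theorem mem_range_of_flat_family {R M N : Type u} [CommRing R] [AddCommGroup M] [Module R M] [AddCommGroup N]
    [Module R N] (l : M →ₗ[R] N) (n : N)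
    (h : ∀ m : Ideal R, m.IsMaximal → ∃ (B : Type u) (_ : CommRing B) (_ : Algebra R B),
      Module.Flat R B ∧ (∃ P : Ideal B, P.IsPrime ∧ P.comap (algebraMap R B) = m) ∧
        (1 : B) ⊗ₜ[R] (LinearMap.range l).mkQ n = 0) : n ∈ LinearMap.range l := by
  let f : R →ₗ[R] N ⧸ LinearMap.range l := LinearMap.toSpanSingleton R _ ((LinearMap.range l).mkQ n)
  by_contra hn
  have hne : LinearMap.ker f ≠ ⊤ := fun htop => hn (by
    have h1 : f 1 = 0 := LinearMap.mem_ker.1 (htop ▸ Submodule.mem_top)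
    simpa [f] using h1)
  obtain ⟨m, hm, hle⟩ := Ideal.exists_le_maximal (LinearMap.ker f) hne
  obtain ⟨B, i₁, i₂, hflat, ⟨P, hP, hPm⟩, h0⟩ := h m hm
  have hex : Function.Exact ((LinearMap.ker f).subtype.lTensor B) (f.lTensor B) :=
    Module.Flat.lTensor_exact B (LinearMap.exact_subtype_ker_map f)
  have h1 : (f.lTensor B) ((1 : B) ⊗ₜ[R] (1 : R)) = 0 := by simpa [f] using h0
  obtain ⟨w, hw⟩ := (hex _).1 h1
  have hall : ∀ w : B ⊗[R] LinearMap.ker f, TensorProduct.rid R B ((LinearMap.ker f).subtype.lTensor B w) ∈ P := by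
    intro w
    induction w using TensorProduct.induction_on with
    | zero => simp
    | tmul b i =>
      have hi : algebraMap R B i.1 ∈ P := (hPm ▸ hle i.2 : i.1 ∈ P.comap (algebraMap R B))
      simp only [LinearMap.lTensor_tmul, Submodule.coe_subtype, TensorProduct.rid_tmul, Algebra.smul_def]
      exact Ideal.mul_mem_right b P hi
    | add a b ha hb => simpa using P.add_mem ha hb
  refine hP.ne_top ((Ideal.eq_top_iff_one P).2 ?_)
  have := hall w
  rw [hw, TensorProduct.rid_tmul, one_smul] at this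
  exact this

theorem castHom_castSec {X T : Scheme.{u}} (h : X = T) {M N : X.Modules} (a : M ⟶ N) (s : Γ(M, ⊤)) :
    (StMod.castHom h a).app ⊤ (castSec h M s) = castSec h N (a.app ⊤ s) := by
  subst h; rfl

variable {S : Scheme.{u}} {𝒳 𝒵 : AlgSt.Cat S}

theorem comapMap_comSec (π : 𝒳 ⥤ᵇ 𝒵) {F G : StMod.Mod 𝒵} (u : F ⟶ G) (z : 𝒳.obj)
    (s : Γ(F.obj (π.obj z), ⊤)) :
    ((StMod.Mod.comapMap π u).app z).app ⊤ (comSec π F z s) = comSec π G z ((u.app (π.obj z)).app ⊤ s) :=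
  castHom_castSec _ _ _

/-- Inverse images of surjections are surjective. -/
theorem isSurj_comapMap (π : 𝒳 ⥤ᵇ 𝒵) {F G : StMod.Mod 𝒵} (u : F ⟶ G) (hu : StMod.Mod.IsSurj u) :
    StMod.Mod.IsSurj (StMod.Mod.comapMap π u) := fun z hz c => by
  obtain ⟨t, rfl⟩ := (comSec π G z).surjective c
  obtain ⟨s, rfl⟩ := hu (π.obj z) (isAffine_img (π := π) z hz) t
  exact ⟨comSec π F z s, comapMap_comSec π u z s⟩

section Sec

variable (π : 𝒳 ⥤ᵇ 𝒵) (M : StMod.Mod 𝒳) {w : 𝒵.obj}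

/-- The relative homomorphism of a section of the pushforward. -/
def secRHom (t : StMod.Mod.RelSect π M w) : RHom π (StMod.O 𝒳) M w :=
  ⟨fun o => AddMonoidHom.mk' (fun r => (show Γ(StMod.sch 𝒳 o.1.left, ⊤) from r) • t.1 o.1.left o.1.hom)
      fun r r' => add_smul (show Γ(StMod.sch 𝒳 o.1.left, ⊤) from r) r' _,
    fun o h r s => mul_smul r (show Γ(StMod.sch 𝒳 o.left, ⊤) from s) _,
    fun o' o c h' h s => by
      let r : Γ(StMod.sch 𝒳 o.left, ⊤) := s
      let x₁ : Γ(M.obj o.left, ⊤) := t.1 o.left o.hom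
      let x₂ : Γ(M.obj o'.left, ⊤) := t.1 o'.left o'.hom
      have hx : pb M c.left ⊤ le_top x₁ = x₂ := by
        refine Eq.trans ?_ ((t.2 c.left o.hom).trans (congrArg (t.1 o'.left) (CostructuredArrow.w c)))
        rw [pb_apply]
        exact res_self _ le_top _
      show (show Γ(StMod.sch 𝒳 o'.left, ⊤) from pb (StMod.O 𝒳) c.left ⊤ le_top s) • x₂ =
        pb M c.left ⊤ le_top (r • x₁)
      rw [pb_smul, hx]
      refine congrArg (· • x₂) ?_
      have h1 : s = r • oneSec o.left := (smul_oneSec o.left s).symm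
      have h2 : pb (StMod.O 𝒳) c.left ⊤ le_top (r • oneSec o.left) =
          (StMod.bmap 𝒳 c.left).appLE ⊤ ⊤ le_top r • oneSec o'.left := by
        rw [pb_smul, pb_oneSec]
      rw [h1, h2]
      exact smul_oneSec o'.left _⟩

theorem ev_secRHom (t : StMod.Mod.RelSect π M w) (o : (StMod.fibCat π w).obj) (h : IsAffine (StMod.sch 𝒳 o.left)) :
    ev (secRHom π M t) o h (oneSec o.left) = t.1 o.left o.hom :=
  one_smul Γ(StMod.sch 𝒳 o.left, ⊤) _

/-- Restriction of sections of the pushforward. -/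
def relPull {w' : 𝒵.obj} (b : w' ⟶ w) (t : StMod.Mod.RelSect π M w) : StMod.Mod.RelSect π M w' :=
  ⟨fun ξ α => t.1 ξ (α ≫ b), fun ξ' ξ φ α => (t.2 φ (α ≫ b)).trans (congrArg (t.1 ξ') (Category.assoc _ _ _).symm)⟩

theorem rPull_secRHom {w' : 𝒵.obj} (b : w' ⟶ w) (t : StMod.Mod.RelSect π M w) :
    rPull b (secRHom π M t) = secRHom π M (relPull π M b t) := RHom.ext fun _ _ _ => rfl

variable {π M}

theorem secRHom_map {N : StMod.Mod 𝒳} (v : M ⟶ N) (t : StMod.Mod.RelSect π M w) :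
    secRHom π N (StMod.Mod.relSectMap π v w t) = rPost v w (secRHom π M t) :=
  RHom.ext fun o ho s =>
    (Scheme.Modules.Hom.app_smul (v.app o.left) (show Γ(StMod.sch 𝒳 o.left, ⊤) from s) (t.1 o.left o.hom)).symm

theorem exists_secRHom (h𝒳 : IsFibGrpd 𝒳.p) (hM : StMod.isQCoh 𝒳 M) (C : FinCover (StMod.fibCat π w))
    (ψ : RHom π (StMod.O 𝒳) M w) : ∃ t : StMod.Mod.RelSect π M w, secRHom π M t = ψ := by
  obtain ⟨χ, rfl⟩ := exists_ofHom h𝒳 (StMod.OQ 𝒳).property hM C ψ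
  refine ⟨⟨fun ξ α => (χ.app (CostructuredArrow.mk (Y := ξ) α)).app ⊤ (oneSec ξ), fun ξ' ξ φ α => ?_⟩,
    RHom.ext fun o ho s => ?_⟩
  · let c : CostructuredArrow.mk (Y := ξ') (π.map φ ≫ α) ⟶ CostructuredArrow.mk (Y := ξ) α :=
      CostructuredArrow.homMk φ rfl
    have h1 := pb_hom (StMod.Mod.comap (StMod.fibFst π w) (StMod.O 𝒳)) χ c (U := ⊤) ⊤ le_top (oneSec ξ)
    rw [pb_comap_fibFst, pb_comap_fibFst] at h1
    have h2 := (congrArg ((χ.app (CostructuredArrow.mk (Y := ξ') (π.map φ ≫ α))).app ⊤) (pb_oneSec c.left)).symm.trans h1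
    rw [pb_apply] at h2
    exact (h2.trans (res_self _ le_top _)).symm
  · have h1 := ev_smul_arg (ofHom χ) o ho (show Γ(StMod.sch 𝒳 o.left, ⊤) from s) (oneSec o.left)
    rw [smul_oneSec] at h1
    exact h1.symm

theorem secRHom_injective (h𝒳 : IsFibGrpd 𝒳.p) (hM : StMod.isQCoh 𝒳 M) :
    Function.Injective (secRHom π M (w := w)) := by
  intro t t' h
  refine StMod.Mod.RelSect.ext _ _ _ fun ξ α => ext_flat hM.1 _ _ fun z _ => ?_
  obtain ⟨y, c, hy, hn⟩ := exists_affine_nhd h𝒳 (𝟙 ξ) (w := z)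
    ⟨by rw [StMod.bmap_id]; infer_instance, by rw [StMod.bmap_id]; infer_instance,
      z, by rw [StMod.bmap_id]; rfl⟩
  refine ⟨y, c ≫ 𝟙 ξ, hn.1, hn.2.2, ?_⟩
  have key : ∀ t : StMod.Mod.RelSect π M w,
      pb M (c ≫ 𝟙 ξ) (U := ⊤) ⊤ le_top (t.1 ξ α) = t.1 y (π.map (c ≫ 𝟙 ξ) ≫ α) := fun t => by
    rw [pb_apply]
    exact (res_self _ le_top _).trans (t.2 _ α)
  show pb M (c ≫ 𝟙 ξ) (U := ⊤) ⊤ le_top (t.1 ξ α) = pb M (c ≫ 𝟙 ξ) (U := ⊤) ⊤ le_top (t'.1 ξ α)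
  rw [key, key]
  let o : (StMod.fibCat π w).obj := CostructuredArrow.mk (Y := y) (π.map (c ≫ 𝟙 ξ) ≫ α)
  have := congrArg (fun ψ => ev ψ o hy (oneSec o.left)) h
  exact (ev_secRHom π M t o hy).symm.trans (this.trans (ev_secRHom π M t' o hy))

theorem appLE_top_eq_appTop {X Y : Scheme.{u}} (f : X ⟶ Y) : f.appLE ⊤ ⊤ le_top = f.appTop := by
  simp [Scheme.Hom.appLE, Scheme.Hom.appTop]

set_option maxHeartbeats 1600000 in
/-- Surjectivity on sections of the pushforward over an affine object descends from a flat cover. -/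
theorem relSectMap_surjective_of_flat (h𝒳 : IsFibGrpd 𝒳.p) (h𝒵 : IsFibGrpd 𝒵.p) {F G : StMod.QCoh 𝒳}
    (v : F.obj ⟶ G.obj) (w : 𝒵.obj) [IsAffine (StMod.sch 𝒵 w)] (C : FinCover (StMod.fibCat π w))
    (hcov : ∀ z : StMod.sch 𝒵 w, ∃ (w' : 𝒵.obj) (b : w' ⟶ w), IsAffine (StMod.sch 𝒵 w') ∧
      Flat (StMod.bmap 𝒵 b) ∧ z ∈ Set.range (StMod.bmap 𝒵 b) ∧
        Function.Surjective (StMod.Mod.relSectMap π v w')) :
    Function.Surjective (StMod.Mod.relSectMap π v w) := by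
  intro t
  let R := Γ(StMod.sch 𝒵 w, ⊤)
  haveI hsN := small_rHom (π := π) (E := StMod.O 𝒳) (M := F.obj) h𝒳 (StMod.OQ 𝒳).property F.property C
  haveI hsN' := small_rHom (π := π) (E := StMod.O 𝒳) (M := G.obj) h𝒳 (StMod.OQ 𝒳).property G.property C
  let eF := Shrink.linearEquiv R (RHom π (StMod.O 𝒳) F.obj w)
  let eG := Shrink.linearEquiv R (RHom π (StMod.O 𝒳) G.obj w)
  let l₀ : RHom π (StMod.O 𝒳) F.obj w →ₗ[R] RHom π (StMod.O 𝒳) G.obj w :=
    { toFun := rPost v w, map_add' := map_add _, map_smul' := fun r φ => rPost_smul v r φ }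
  let l := eG.symm.toLinearMap ∘ₗ l₀ ∘ₗ eF.toLinearMap
  suffices hmem : eG.symm (secRHom π G.obj t) ∈ LinearMap.range l by
    obtain ⟨m, hm⟩ := hmem
    obtain ⟨s, hs⟩ := exists_secRHom h𝒳 F.property C (eF m)
    refine ⟨s, secRHom_injective h𝒳 G.property ?_⟩
    rw [secRHom_map, hs]
    exact eG.symm.injective hm
  refine mem_range_of_flat_family l _ fun m hm => ?_
  let z : StMod.sch 𝒵 w := (StMod.sch 𝒵 w).isoSpec.inv ⟨m, hm.isPrime⟩
  obtain ⟨w', b, hw', hfl, ⟨y, hy⟩, hsurj⟩ := hcov z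
  haveI := hw'
  haveI := hfl
  let B := Γ(StMod.sch 𝒵 w', ⊤)
  letI : Algebra R B := ((StMod.bmap 𝒵 b).appLE ⊤ ⊤ le_top).hom.toAlgebra
  refine ⟨B, inferInstance, inferInstance, ?_, ⟨((StMod.sch 𝒵 w').isoSpec.hom y).asIdeal, inferInstance, ?_⟩, ?_⟩
  · exact HasRingHomProperty.appLE @Flat (StMod.bmap 𝒵 b) inferInstance ⟨⊤, isAffineOpen_top _⟩ ⟨⊤, isAffineOpen_top _⟩ le_top
  · have h1 : Spec.map (StMod.bmap 𝒵 b).appTop ((StMod.sch 𝒵 w').isoSpec.hom y) = ⟨m, hm.isPrime⟩ := by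
      show ((StMod.sch 𝒵 w').isoSpec.hom ≫ Spec.map (StMod.bmap 𝒵 b).appTop) y = _
      rw [Scheme.isoSpec_hom_naturality]
      show (StMod.sch 𝒵 w).isoSpec.hom (StMod.bmap 𝒵 b y) = _
      rw [hy]
      show ((StMod.sch 𝒵 w).isoSpec.inv ≫ (StMod.sch 𝒵 w).isoSpec.hom) ⟨m, hm.isPrime⟩ = _
      rw [Iso.inv_hom_id]
      rfl
    show ((StMod.sch 𝒵 w').isoSpec.hom y).asIdeal.comap ((StMod.bmap 𝒵 b).appLE ⊤ ⊤ le_top).hom = m
    rw [appLE_top_eq_appTop]
    exact congrArg PrimeSpectrum.asIdeal h1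
  letI := Module.compHom (RHom π (StMod.O 𝒳) F.obj w') ((StMod.bmap 𝒵 b).appLE ⊤ ⊤ le_top).hom
  letI := Module.compHom (RHom π (StMod.O 𝒳) G.obj w') ((StMod.bmap 𝒵 b).appLE ⊤ ⊤ le_top).hom
  haveI : IsScalarTower R B (RHom π (StMod.O 𝒳) F.obj w') := IsScalarTower.of_algebraMap_smul fun _ _ => rfl
  haveI : IsScalarTower R B (RHom π (StMod.O 𝒳) G.obj w') := IsScalarTower.of_algebraMap_smul fun _ _ => rfl
  have bF := isBaseChange_rPull (π := π) (E := StMod.O 𝒳) (M := F.obj) h𝒳 h𝒵 (StMod.OQ 𝒳).property F.property b C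
    (isFinPres_O C.x₀.left)
  have bG := isBaseChange_rPull (π := π) (E := StMod.O 𝒳) (M := G.obj) h𝒳 h𝒵 (StMod.OQ 𝒳).property G.property b C
    (isFinPres_O C.x₀.left)
  let g : RHom π (StMod.O 𝒳) G.obj w →ₗ[R] B ⊗[R] (Shrink.{u} (RHom π (StMod.O 𝒳) G.obj w) ⧸ LinearMap.range l) :=
    (TensorProduct.mk R B _ 1) ∘ₗ (LinearMap.range l).mkQ ∘ₗ eG.symm.toLinearMap
  let l' : RHom π (StMod.O 𝒳) F.obj w' →ₗ[B] RHom π (StMod.O 𝒳) G.obj w' :=
    { toFun := rPost v w', map_add' := map_add _, map_smul' := fun r φ => rPost_smul v r φ }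
  have hz : (bG.lift g) ∘ₗ l' = 0 := by
    refine bF.algHom_ext _ _ fun φ => ?_
    show bG.lift g (rPost v w' (rPull b φ)) = 0
    rw [rPost_rPull]
    refine (bG.lift_eq g (rPost v w φ)).trans ?_
    show (1 : B) ⊗ₜ[R] (LinearMap.range l).mkQ (eG.symm (rPost v w φ)) = 0
    have hq : (LinearMap.range l).mkQ (eG.symm (rPost v w φ)) = 0 := by
      rw [Submodule.mkQ_apply, Submodule.Quotient.mk_eq_zero]
      exact ⟨eF.symm φ, by simp [l, l₀]⟩
    rw [hq, TensorProduct.tmul_zero]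
  obtain ⟨s', hs'⟩ := hsurj (relPull π G.obj b t)
  have e : rPull b (secRHom π G.obj t) = l' (secRHom π F.obj s') := by
    rw [rPull_secRHom, ← hs', secRHom_map]
    rfl
  show g (secRHom π G.obj t) = 0
  refine (bG.lift_eq g (secRHom π G.obj t)).symm.trans ?_
  show bG.lift g (rPull b (secRHom π G.obj t)) = 0
  rw [e]
  exact LinearMap.congr_fun hz _

end Sec

section Transport

variable {M M' : AlgSp.Sp S} (g : M' ⟶ M) (π : 𝒳 ⥤ᵇ AlgSt.ofSp M)

set_option maxHeartbeats 1600000 in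
/-- Surjectivity over an object lying over the source of a base change. -/
theorem relSectMap_surjective_of_fp {F G : StMod.Mod 𝒳} (v : F ⟶ G) (η' : (AlgSt.ofSp M').obj)
    (h : Function.Surjective (StMod.Mod.relSectMap (FibCat.fpFst (AlgSt.ofSpMap g) π)
      (StMod.Mod.comapMap (FibCat.fpSnd (AlgSt.ofSpMap g) π) v) η')) :
    Function.Surjective (StMod.Mod.relSectMap π v ((AlgSt.ofSpMap g).obj η')) := by
  intro t
  let P := FibCat.fpSnd (AlgSt.ofSpMap g) π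
  let ν := (AlgSt.ofSpMap g).obj η'
  let til : ∀ (x : (FibCat.fp (AlgSt.ofSpMap g) π).obj), (x.obj.fst ⟶ η') → (π.obj x.obj.snd ⟶ ν) :=
    fun x α => x.obj.iso.inv ≫ (AlgSt.ofSpMap g).map α
  let t' : StMod.Mod.RelSect (FibCat.fpFst (AlgSt.ofSpMap g) π) (StMod.Mod.comap P G) η' :=
    ⟨fun x α => comSec P G x (t.1 x.obj.snd (til x α)), fun x' x k α => by
      have e : π.map k.hom.snd ≫ til x α = til x' (k.hom.fst ≫ α) := by
        show π.map k.hom.snd ≫ x.obj.iso.inv ≫ (AlgSt.ofSpMap g).map α =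
          x'.obj.iso.inv ≫ (AlgSt.ofSpMap g).map (k.hom.fst ≫ α)
        rw [← cancel_epi x'.obj.iso.hom, ← Category.assoc, ← k.hom.w, Category.assoc, Iso.hom_inv_id_assoc,
          Iso.hom_inv_id_assoc, Functor.map_comp]
      have h1 := pb_comSec (π := P) G k (t.1 x.obj.snd (til x α))
      rw [pb_apply, pb_apply] at h1
      refine (res_self _ le_top _).symm.trans (h1.trans (congrArg (comSec P G x') ?_))
      exact (res_self _ le_top _).trans ((t.2 k.hom.snd (til x α)).trans (congrArg (t.1 x'.obj.snd) e))⟩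
  obtain ⟨s', hs'⟩ := h t'
  have hbase : ∀ {ξ : 𝒳.obj} (α : π.obj ξ ⟶ ν), 𝒳.p.obj ξ = (π.obj ξ).base := fun {ξ} _ => (π.w_obj ξ).symm
  let β : ∀ {ξ : 𝒳.obj}, (π.obj ξ ⟶ ν) → (𝒳.p.obj ξ ⟶ η'.base) := fun {ξ} α => StMod.baseOver π ξ α
  let a : ∀ (ξ : 𝒳.obj), (π.obj ξ ⟶ ν) → (AlgSt.ofSp M').obj := fun ξ α =>
    ⟨𝒳.p.obj ξ, M'.obj.map (β α).op η'.sec⟩
  let ah : ∀ (ξ : 𝒳.obj) (α : π.obj ξ ⟶ ν), a ξ α ⟶ η' := fun ξ α => ⟨β α, rfl⟩
  have hsec : ∀ (ξ : 𝒳.obj) (α : π.obj ξ ⟶ ν),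
      M.obj.map (eqToHom (hbase α)).op (π.obj ξ).sec = g.hom.app _ (a ξ α).sec := fun ξ α => by
    show _ = g.hom.app _ (M'.obj.map (β α).op η'.sec)
    rw [NatTrans.naturality_apply, ← α.map_sec]
    show _ = M.obj.map (β α).op ν.sec
    rw [← Functor.map_comp_apply, ← op_comp]
    rfl
  let mkI : ∀ (ξ : 𝒳.obj) (α : π.obj ξ ⟶ ν), (AlgSt.ofSpMap g).obj (a ξ α) ≅ π.obj ξ := fun ξ α =>
    { hom := ⟨eqToHom (hbase α), hsec ξ α⟩
      inv := ⟨eqToHom (hbase α).symm, by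
        show M.obj.map (eqToHom (hbase α).symm).op (g.hom.app _ (a ξ α).sec) = (π.obj ξ).sec
        rw [← hsec ξ α, ← Functor.map_comp_apply, ← op_comp, eqToHom_trans, eqToHom_refl]
        simp⟩
      hom_inv_id := Stk.EltObj.hom_ext ((eqToHom_trans (hbase α) (hbase α).symm).trans (eqToHom_refl _ _))
      inv_hom_id := Stk.EltObj.hom_ext ((eqToHom_trans (hbase α).symm (hbase α)).trans (eqToHom_refl _ _)) }
  let xo : ∀ (ξ : 𝒳.obj) (α : π.obj ξ ⟶ ν), (FibCat.fp (AlgSt.ofSpMap g) π).obj := fun ξ α =>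
    StFib.fpMk (F := AlgSt.ofSpMap g) (G := π) (a ξ α) ξ (mkI ξ α) ⟨hbase α, rfl⟩
  have htil : ∀ (ξ : 𝒳.obj) (α : π.obj ξ ⟶ ν), til (xo ξ α) (ah ξ α) = α := fun ξ α => by
    refine Stk.EltObj.hom_ext ?_
    show eqToHom (hbase α).symm ≫ StMod.baseOver π ξ α = α.hom
    show eqToHom _ ≫ eqToHom _ ≫ α.hom = α.hom
    simp
  refine ⟨⟨fun ξ α => (comSec P F (xo ξ α)).symm (s'.1 (xo ξ α) (ah ξ α)), fun ξ' ξ φ α => ?_⟩,
    StMod.Mod.RelSect.ext _ _ _ fun ξ α => ?_⟩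
  · let kf : a ξ' (π.map φ ≫ α) ⟶ a ξ α := ⟨𝒳.p.map φ, by
      show M'.obj.map (𝒳.p.map φ).op (M'.obj.map (β α).op η'.sec) = M'.obj.map (β (π.map φ ≫ α)).op η'.sec
      rw [← Functor.map_comp_apply, ← op_comp]
      show M'.obj.map (𝒳.p.map φ ≫ StMod.baseOver π ξ α).op η'.sec = _
      rw [StMod.map_comp_baseOver]
      rfl⟩
    let k : xo ξ' (π.map φ ≫ α) ⟶ xo ξ α := StFib.fpHom kf φ (Stk.EltObj.hom_ext (by
      show 𝒳.p.map φ ≫ eqToHom (hbase α) = eqToHom (hbase (π.map φ ≫ α)) ≫ (π.map φ).hom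
      have hφ : (π.map φ).hom = _ := Functor.congr_hom π.w φ
      simp [hφ]))
    have e : (FibCat.fpFst (AlgSt.ofSpMap g) π).map k ≫ ah ξ α = ah ξ' (π.map φ ≫ α) :=
      Stk.EltObj.hom_ext (StMod.map_comp_baseOver π φ α)
    have h1 := (s'.2 k (ah ξ α)).trans (congrArg (s'.1 (xo ξ' (π.map φ ≫ α))) e)
    apply (comSec P F (xo ξ' (π.map φ ≫ α))).injective
    rw [AddEquiv.apply_symm_apply, ← h1]
    obtain ⟨c, hc⟩ := (comSec P F (xo ξ α)).surjective (s'.1 (xo ξ α) (ah ξ α))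
    have h2 := pb_comSec (π := P) F k c
    rw [pb_apply, pb_apply] at h2
    show comSec P F (xo ξ' (π.map φ ≫ α)) (F.mapTop φ ((comSec P F (xo ξ α)).symm (s'.1 (xo ξ α) (ah ξ α)))) = _
    rw [← hc, AddEquiv.symm_apply_apply]
    refine Eq.trans ?_ ((h2.symm.trans (res_self _ le_top _)))
    exact congrArg (comSec P F _) (res_self _ le_top _).symm
  · have h1 := congrArg (fun s => s.1 (xo ξ α) (ah ξ α)) hs'
    obtain ⟨c, hc⟩ := (comSec P F (xo ξ α)).surjective (s'.1 (xo ξ α) (ah ξ α))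
    show (v.app ξ).app ⊤ ((comSec P F (xo ξ α)).symm (s'.1 (xo ξ α) (ah ξ α))) = t.1 ξ α
    rw [← hc, AddEquiv.symm_apply_apply]
    apply (comSec P G (xo ξ α)).injective
    refine (comapMap_comSec P v (xo ξ α) c).symm.trans ?_
    refine (congrArg (((StMod.Mod.comapMap P v).app (xo ξ α)).app ⊤) hc).trans (h1.trans ?_)
    exact congrArg (comSec P G (xo ξ α)) (congrArg (t.1 ξ) (htil ξ α))

end Transport

/-- Cohomological affineness descends if every affine scheme etale over the target is covered by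
flat affine schemes etale over the source of the base change. -/
theorem isCohAffine_of_flat_local {M M' : AlgSp.Space S} (g : M'.obj ⟶ M.obj)
    (h𝒳 : AlgSt.IsAlgStack Scheme.fppfPrecoverage 𝒳) (π : 𝒳 ⥤ᵇ AlgSt.ofSp M.obj)
    (hqc : AlgSt.IsQuasiCompactMor Scheme.fppfPrecoverage π) (hqs : AlgSt.IsQuasiSeparatedMor π)
    (h' : StMod.IsCohAffine (FibCat.fpFst (AlgSt.ofSpMap g) π))
    (hloc : ∀ E : AlgSp.EtOver M.obj, IsAffine E.obj.left.left → ∀ z : E.obj.left.left,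
      ∃ (W : Over S) (b₀ : W ⟶ E.obj.left) (e : (AlgSp.yon S).obj W ⟶ M'.obj), AlgSp.RepWith @Etale e ∧
        IsAffine W.left ∧ Flat b₀.left ∧ z ∈ Set.range b₀.left ∧ (AlgSp.yon S).map b₀ ≫ E.obj.hom = e ≫ g) :
    StMod.IsCohAffine π := by
  intro F G u hu E hE
  have hM := StFib.isAlgStack_ofSp (F := M.obj) M.property
  obtain ⟨R⟩ := exists_pres h𝒳 hM π hqc hqs (StMod.etaOf E) hE
  haveI : IsAffine (StMod.sch (AlgSt.ofSp M.obj) (StMod.etaOf E)) := hE
  refine relSectMap_surjective_of_flat h𝒳.isStack.1 hM.isStack.1 (F := F) (G := G) u.hom (StMod.etaOf E)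
    R.toFinCover fun z => ?_
  obtain ⟨W, b₀, e, he, hW, hfl, hz, hfac⟩ := hloc E hE z
  let E' : AlgSp.EtOver M'.obj := AlgSp.EtOver.mk e he
  let ν := (AlgSt.ofSpMap g).obj (StMod.etaOf E')
  let b : ν ⟶ StMod.etaOf E := ⟨b₀, ((Groth.Agent.AlgSp.yEquiv_map b₀ E.obj.hom).symm.trans
    (congrArg Groth.Agent.AlgSp.yEquiv hfac)).trans (Groth.Agent.AlgSp.yEquiv_comp e g)⟩
  refine ⟨ν, b, hW, hfl, hz, relSectMap_surjective_of_fp g π u.hom (StMod.etaOf E') ?_⟩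
  exact h' ((StMod.comapQ (FibCat.fpSnd (AlgSt.ofSpMap g) π)).map u) (isSurj_comapMap _ _ hu) E' hW

end Groth.Agent.StPush
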