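import Groth.Agent.StPush.Core

/-!
Inverse images of generating families are generating when the structure sheaf is generating over the
covering object: the adjunction between inverse image and the module of sections over objects.
-/

set_option autoImplicit false
set_option linter.style.haveILetI false
set_option linter.unusedSectionVars false
set_option backward.isDefEq.respectTransparency false
set_option backward.isDefEq.respectTransparency.types false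

universe u

open CategoryTheory CategoryTheory.Limits AlgebraicGeometry Opposite FibCat
open Groth.Agent.QCoh Groth.Agent.StDesc Groth.Agent.StGen

noncomputable section

namespace Groth.Agent.StPush

/-- Global sections of a module read along an equality of schemes. -/
def castSec {X T : Scheme.{u}} (h : X = T) (M : X.Modules) : Γ(M, ⊤) ≃+ Γ(StMod.castMod h M, ⊤) := by
  subst h; exact AddEquiv.refl _

theorem castSec_smul {X T : Scheme.{u}} (h : X = T) (M : X.Modules) (r : Γ(X, ⊤)) (s : Γ(M, ⊤)) :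
    castSec h M (r • s) = (eqToHom h.symm).appLE ⊤ ⊤ le_top r • castSec h M s := by
  subst h
  show r • s = _ • s
  rw [eqToHom_refl]
  congr 1
  simp [Scheme.Hom.appLE]

theorem castMap_castSec {X X' T T' : Scheme.{u}} (hX : X = T) (hX' : X' = T') {g₁ : X' ⟶ X} {g : T' ⟶ T}
    (hg : g₁ ≫ eqToHom hX = eqToHom hX' ≫ g) {M : X.Modules} {N : X'.Modules}
    (m : M ⟶ (Scheme.Modules.pushforward g₁).obj N) (s : Γ(M, ⊤)) :
    res (StMod.castMod hX' N) (le_top : (⊤ : T'.Opens) ≤ g ⁻¹ᵁ ⊤)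
        ((StMod.castMap hX hX' hg m).app ⊤ (castSec hX M s)) =
      castSec hX' N (res N (le_top : (⊤ : X'.Opens) ≤ g₁ ⁻¹ᵁ ⊤) (m.app ⊤ s)) := by
  subst hX hX'
  obtain rfl : g₁ = g := by simpa using hg
  rw [StMod.castMap_rfl_self]
  rfl

variable {S : Scheme.{u}} {𝒳 𝒵 : AlgSt.Cat S} (π : 𝒳 ⥤ᵇ 𝒵)

/-- Global sections of an inverse image. -/
def comSec (G : StMod.Mod 𝒵) (z : 𝒳.obj) : Γ(G.obj (π.obj z), ⊤) ≃+ Γ((StMod.Mod.comap π G).obj z, ⊤) :=
  castSec (StMod.sch_obj_eq π z) (G.obj (π.obj z))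

variable {π}

theorem pb_comSec (G : StMod.Mod 𝒵) {z' z : 𝒳.obj} (k : z' ⟶ z) (s : Γ(G.obj (π.obj z), ⊤)) :
    pb (StMod.Mod.comap π G) k ⊤ le_top (comSec π G z s) =
      comSec π G z' (pb G (π.map k) ⊤ le_top s) := by
  rw [pb_apply, pb_apply]
  exact castMap_castSec _ _ _ _ s

theorem isFinPres_O (ξ : 𝒳.obj) : SheafOfModules.IsFinitePresentation.{u}
    (R := (StMod.sch 𝒳 ξ).ringCatSheaf) ((StMod.O 𝒳).obj ξ) := by
  haveI : ((StMod.O 𝒳).obj ξ).IsQuasicoherent := (StMod.OQ 𝒳).property.2 ξ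
  refine (Props.QFP.isFP_iff ((StMod.O 𝒳).obj ξ)).mpr fun U _ => ?_
  exact (inferInstance : Module.FinitePresentation Γ(StMod.sch 𝒳 ξ, U) Γ(StMod.sch 𝒳 ξ, U))

variable {M : StMod.Mod 𝒳} (D : Datum π (StMod.O 𝒳) M) {F : StMod.Mod 𝒵}
  (φ : StMod.Mod.comap (rigFst (BasedFunctor.id 𝒵) D.R.x₀) F ⟶ D.F)

/-- The component of a morphism into the module of sections. -/
def Datum.comp₀ {y : 𝒵.obj} (b : y ⟶ D.R.x₀) : F.obj y ⟶ D.Q.K.obj (ov₀ b) := φ.app (D.bMk b)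

theorem Datum.comp₀_pb {y' y : 𝒵.obj} (c : y' ⟶ y) {b : y ⟶ D.R.x₀} (b' : y' ⟶ D.R.x₀)
    {U : (StMod.sch 𝒵 y).Opens} (V : (StMod.sch 𝒵 y').Opens) (h : V ≤ StMod.bmap 𝒵 c ⁻¹ᵁ U)
    (s : Γ(F.obj y, U)) :
    (D.comp₀ φ b').app V (pb F c V h s) =
      D.th (c ≫ b) b' V (pb D.Q.K (ovHom c rfl) V h ((D.comp₀ φ b).app U s)) := by
  let a : D.bMk b' ⟶ D.bMk b := InducedCategory.homMk c
  have h1 := pb_hom (StMod.Mod.comap (rigFst (BasedFunctor.id 𝒵) D.R.x₀) F) φ a V h s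
  have h2 : pb (StMod.Mod.comap (rigFst (BasedFunctor.id 𝒵) D.R.x₀) F) a V h s = pb F c V h s := by
    rw [pb_apply, comap_map_rigFst]
    rfl
  rw [h2] at h1
  exact h1.trans (D.pb_F a V h _)

theorem isAffine_img (z : 𝒳.obj) (hz : IsAffine (StMod.sch 𝒳 z)) : IsAffine (StMod.sch 𝒵 (π.obj z)) :=
  (StMod.sch_obj_eq π z).symm ▸ hz

/-- An object over its image. -/
abbrev selfObj (z : 𝒳.obj) : (StMod.fibCat π (π.obj z)).obj :=
  CostructuredArrow.mk (Y := z) (𝟙 (π.obj z))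

/-- The value at an object of the adjoint of a morphism into the module of sections. -/
def Datum.val (z : 𝒳.obj) (hz : IsAffine (StMod.sch 𝒳 z)) (b : π.obj z ⟶ D.R.x₀) :
    Γ(F.obj (π.obj z), ⊤) →+ Γ(M.obj z, ⊤) :=
  haveI := isAffine_img (π := π) z hz
  AddMonoidHom.mk'
    (fun s => ev (D.Q.iota (ov₀ b) ((D.comp₀ φ b).app ⊤ s)) (selfObj z) hz (oneSec z))
    fun s t => by rw [map_add, map_add, ev_add]

theorem Datum.val_smul (z : 𝒳.obj) (hz : IsAffine (StMod.sch 𝒳 z)) (b : π.obj z ⟶ D.R.x₀)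
    (r : Γ(StMod.sch 𝒵 (π.obj z), ⊤)) (s : Γ(F.obj (π.obj z), ⊤)) :
    D.val φ z hz b (r • s) =
      (eqToHom (StMod.sch_obj_eq π z).symm).appLE ⊤ ⊤ le_top r • D.val φ z hz b s := by
  haveI := isAffine_img (π := π) z hz
  have h1 : (D.comp₀ φ b).app ⊤ (r • s) = r • (D.comp₀ φ b).app ⊤ s :=
    Scheme.Modules.Hom.app_smul (D.comp₀ φ b) r s
  have h2 : D.Q.iota (ov₀ b) (r • (D.comp₀ φ b).app ⊤ s) =
      r • (show RHom π (StMod.O 𝒳) M (π.obj z) from D.Q.iota (ov₀ b) ((D.comp₀ φ b).app ⊤ s)) :=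
    D.Q.iota_smul (ov₀ b) r _
  show ev (D.Q.iota (ov₀ b) ((D.comp₀ φ b).app ⊤ (r • s))) (selfObj z) hz (oneSec z) = _
  rw [h1]
  refine (congrArg (fun ψ => ev ψ (selfObj z) hz (oneSec z)) h2).trans ?_
  refine (ev_smul r _ (selfObj z) hz (oneSec z)).trans ?_
  have hstr : str π (selfObj (π := π) z) = eqToHom (StMod.sch_obj_eq π z).symm := by
    show eqToHom _ ≫ StMod.bmap 𝒵 (𝟙 (π.obj z)) = _
    rw [StMod.bmap_id]
    exact Category.comp_id _
  have : ∀ {g g' : StMod.sch 𝒳 z ⟶ StMod.sch 𝒵 (π.obj z)} (_ : g = g'),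
      g.appLE ⊤ ⊤ le_top r = g'.appLE ⊤ ⊤ le_top r := by rintro g g' rfl; rfl
  exact congrArg (· • _) (this hstr)

set_option maxHeartbeats 1600000 in
/-- Values are natural. -/
theorem Datum.val_natural {z' z : 𝒳.obj} (k : z' ⟶ z) (hz' : IsAffine (StMod.sch 𝒳 z'))
    (hz : IsAffine (StMod.sch 𝒳 z)) (b : π.obj z ⟶ D.R.x₀) {b' : π.obj z' ⟶ D.R.x₀} (hb : π.map k ≫ b = b')
    (s : Γ(F.obj (π.obj z), ⊤)) :
    D.val φ z' hz' b' (pb F (π.map k) ⊤ le_top s) = pb M k ⊤ le_top (D.val φ z hz b s) := by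
  subst hb
  haveI := isAffine_img (π := π) z hz
  haveI := isAffine_img (π := π) z' hz'
  let k₀ : (fibMap π (π.map k)).obj (selfObj z') ⟶ selfObj z :=
    CostructuredArrow.homMk k (show π.map k ≫ 𝟙 (π.obj z) = 𝟙 (π.obj z') ≫ π.map k by simp)
  show ev (D.Q.iota (ov₀ (π.map k ≫ b)) ((D.comp₀ φ (π.map k ≫ b)).app ⊤ (pb F (π.map k) ⊤ le_top s)))
      (selfObj z') hz' (oneSec z') = pb M k ⊤ le_top (ev (D.Q.iota (ov₀ b) ((D.comp₀ φ b).app ⊤ s)) (selfObj z) hz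
        (oneSec z))
  rw [D.comp₀_pb φ (π.map k) (π.map k ≫ b) ⊤ le_top s, D.th_id, D.Q.iota_pb]
  rw [← pb_oneSec k]
  exact ev_natural (D.Q.iota (ov₀ b) ((D.comp₀ φ b).app ⊤ s)) k₀ hz' hz (oneSec z)

set_option maxHeartbeats 1600000 in
/-- Values agree on lifts of pairs. -/
theorem Datum.val_pair (z : 𝒳.obj) (hz : IsAffine (StMod.sch 𝒳 z)) (d : π.obj z ⟶ D.R.x₁)
    (s : Γ(F.obj (π.obj z), ⊤)) : D.val φ z hz (d ≫ D.R.q) s = D.val φ z hz (d ≫ D.R.p) s := by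
  haveI := isAffine_img (π := π) z hz
  haveI : IsAffine (StMod.sch (Over₀ D.R.x₀) (ov₀ (d ≫ D.R.p))) := isAffine_img (π := π) z hz
  show ev (D.Q.iota (ov₀ (d ≫ D.R.q)) ((D.comp₀ φ (d ≫ D.R.q)).app ⊤ s)) (selfObj z) hz (oneSec z) =
    ev (D.Q.iota (ov₀ (d ≫ D.R.p)) ((D.comp₀ φ (d ≫ D.R.p)).app ⊤ s)) (selfObj z) hz (oneSec z)
  have hid : ⊤ ≤ StMod.bmap 𝒵 (𝟙 (π.obj z)) ⁻¹ᵁ (⊤ : (StMod.sch 𝒵 (π.obj z)).Opens) := le_top
  have h := D.comp₀_pb φ (𝟙 (π.obj z)) (b := d ≫ D.R.p) (d ≫ D.R.q) ⊤ hid s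
  rw [pb_id F hid le_rfl, res_self,
    D.th_congr (𝟙 (π.obj z)) (d ≫ D.R.q) rfl (Category.id_comp (d ≫ D.R.p))] at h
  rw [h, D.iota_th d rfl rfl, D.Q.iota_pb]
  show ev (rPull (𝟙 (π.obj z)) _) (selfObj z) hz (oneSec z) = _
  rw [ev_rPull]
  have key : ∀ (o o' : (StMod.fibCat π (π.obj z)).obj) (_ : o = o') (ho : IsAffine (StMod.sch 𝒳 o.left))
      (ho' : IsAffine (StMod.sch 𝒳 o'.left)) (s₁ : Γ((StMod.O 𝒳).obj o.left, ⊤))
      (s₂ : Γ((StMod.O 𝒳).obj o'.left, ⊤)) (_ : HEq s₁ s₂)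
      (ψ : RHom π (StMod.O 𝒳) M (π.obj z)), HEq (ev ψ o ho s₁) (ev ψ o' ho' s₂) := by
    rintro o o' rfl ho ho' s₁ s₂ hs ψ
    rw [eq_of_heq hs]
  refine eq_of_heq (key ((fibMap π (𝟙 (π.obj z))).obj (selfObj z)) (selfObj z) ?_ hz hz _ _ HEq.rfl _)
  show CostructuredArrow.mk (Y := z) (𝟙 (π.obj z) ≫ 𝟙 (π.obj z)) = CostructuredArrow.mk (Y := z) (𝟙 (π.obj z))
  rw [Category.id_comp]

set_option maxHeartbeats 800000 in
/-- The adjoint of a morphism into the module of sections. -/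
theorem Datum.exists_adjoint (hF : StMod.isQCoh 𝒵 F) :
    ∃ Φ : StMod.Mod.comap π F ⟶ M, ∀ (o : (StMod.fibCat π D.R.x₀).obj) (ho : IsAffine (StMod.sch 𝒳 o.left))
      (s : Γ(F.obj (π.obj o.left), ⊤)),
      (Φ.app o.left).app ⊤ (comSec π F o.left s) = D.val φ o.left ho o.hom s := by
  let ψ : RHom π (StMod.Mod.comap π F) M D.R.x₀ :=
    ⟨fun o => (D.val φ o.1.left o.2 o.1.hom).comp (comSec π F o.1.left).symm.toAddMonoidHom,
      fun o ho r s => by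
        obtain ⟨t, rfl⟩ := (comSec π F o.left).surjective s
        show D.val φ o.left ho o.hom ((comSec π F o.left).symm (r • comSec π F o.left t)) =
          r • D.val φ o.left ho o.hom ((comSec π F o.left).symm (comSec π F o.left t))
        have hsurj : Function.Surjective
            ((eqToHom (StMod.sch_obj_eq π o.left).symm).appLE ⊤ ⊤ le_top).hom := by
          have gen : ∀ {X T : Scheme.{u}} (h : X = T),
              Function.Surjective ((eqToHom h.symm).appLE ⊤ ⊤ le_top).hom := by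
            intro X T h; subst h
            exact fun a => ⟨a, by simp [Scheme.Hom.appLE]⟩
          exact gen (StMod.sch_obj_eq π o.left)
        obtain ⟨r₀, rfl⟩ := hsurj r
        have e : (eqToHom (StMod.sch_obj_eq π o.left).symm).appLE ⊤ ⊤ le_top r₀ • comSec π F o.left t =
            comSec π F o.left (r₀ • t) := (castSec_smul _ _ r₀ t).symm
        erw [e, AddEquiv.symm_apply_apply, AddEquiv.symm_apply_apply, D.val_smul],
      fun o' o a h' h s => by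
        obtain ⟨t, rfl⟩ := (comSec π F o.left).surjective s
        show D.val φ o'.left h' o'.hom ((comSec π F o'.left).symm (pb _ a.left ⊤ le_top (comSec π F o.left t))) =
          pb M a.left ⊤ le_top (D.val φ o.left h o.hom ((comSec π F o.left).symm (comSec π F o.left t)))
        rw [pb_comSec, AddEquiv.symm_apply_apply, AddEquiv.symm_apply_apply]
        exact D.val_natural φ a.left h' h o.hom (CostructuredArrow.w a) t⟩
  have hev : ∀ o ho s, ev ψ o ho (comSec π F o.left s) = D.val φ o.left ho o.hom s := fun o ho s =>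
    congrArg (D.val φ o.left ho o.hom) ((comSec π F o.left).symm_apply_apply s)
  obtain ⟨Φ, hΦ⟩ := exists_hom_of_compat D.h𝒳 D.h𝒵 (StMod.isQCoh_comap hF) D.hM D.R D.C₀ ψ
    (RHom.ext fun o ho s => by
      obtain ⟨t, rfl⟩ := (comSec π F o.left).surjective s
      show ev ψ ((fibMap π D.R.p).obj o) ho (comSec π F o.left t) = ev ψ ((fibMap π D.R.q).obj o) ho (comSec π F o.left t)
      refine (hev ((fibMap π D.R.p).obj o) ho t).trans (Eq.trans ?_ (hev ((fibMap π D.R.q).obj o) ho t).symm)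
      exact (D.val_pair φ o.left ho o.hom t).symm)
  exact ⟨Φ, fun o ho s => (congrArg (fun χ => ev χ o ho (comSec π F o.left s)) hΦ).trans (hev o ho s)⟩

set_option maxHeartbeats 1600000 in
/-- The section at the covering object computes the values. -/
theorem Datum.ev_section (s : Γ(F.obj D.R.x₀, ⊤)) (o : (StMod.fibCat π D.R.x₀).obj)
    (ho : IsAffine (StMod.sch 𝒳 o.left)) :
    ev (D.Q.iota (ov₀ (𝟙 D.R.x₀)) ((D.comp₀ φ (𝟙 D.R.x₀)).app ⊤ s)) o ho (oneSec o.left) =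
      D.val φ o.left ho o.hom (pb F o.hom ⊤ le_top s) := by
  haveI := isAffine_img (π := π) o.left ho
  let t₀ := (D.comp₀ φ (𝟙 D.R.x₀)).app ⊤ s
  let b : π.obj o.left ⟶ D.R.x₀ := o.hom
  have h1 := D.comp₀_pb φ b (b := 𝟙 D.R.x₀) b ⊤ le_top s
  have h2 := D.th_congr b (b := 𝟙 D.R.x₀) b (a' := b ≫ 𝟙 _) (a'' := b) rfl (Category.comp_id b) (U := ⊤) ⊤
    (le_top : (⊤ : (StMod.sch 𝒵 (π.obj o.left)).Opens) ≤ StMod.bmap 𝒵 b ⁻¹ᵁ ⊤) t₀
  have h3 := (h1.trans h2).trans (D.th_id b ⊤ _)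
  have h4 := (congrArg (D.Q.iota (ov₀ b)) h3).trans (D.Q.iota_pb (ovHom b (Category.comp_id b)) t₀)
  refine Eq.trans ?_ (congrArg (fun ψ : RHom π (StMod.O 𝒳) M (π.obj o.left) =>
    ev ψ (selfObj o.left) ho (oneSec o.left)) h4).symm
  show ev (D.Q.iota (ov₀ (𝟙 D.R.x₀)) t₀) o ho (oneSec o.left) =
    ev (D.Q.iota (ov₀ (𝟙 D.R.x₀)) t₀) ((fibMap π b).obj (selfObj o.left)) ho (oneSec o.left)
  have key : ∀ (o₁ o₂ : (StMod.fibCat π D.R.x₀).obj) (_ : o₁ = o₂) (h₁ : IsAffine (StMod.sch 𝒳 o₁.left))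
      (h₂ : IsAffine (StMod.sch 𝒳 o₂.left)) (s₁ : Γ((StMod.O 𝒳).obj o₁.left, ⊤))
      (s₂ : Γ((StMod.O 𝒳).obj o₂.left, ⊤)) (_ : HEq s₁ s₂)
      (ψ : RHom π (StMod.O 𝒳) M D.R.x₀), HEq (ev ψ o₁ h₁ s₁) (ev ψ o₂ h₂ s₂) := by
    rintro o₁ o₂ rfl h₁ h₂ s₁ s₂ hs ψ
    rw [eq_of_heq hs]
  refine eq_of_heq (key o ((fibMap π b).obj (selfObj o.left)) ?_ ho ho _ _ HEq.rfl _)
  show o = CostructuredArrow.mk (Y := o.left) (𝟙 (π.obj o.left) ≫ b)
  rw [Category.id_comp]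
  exact CostructuredArrow.eq_mk o

set_option maxHeartbeats 1600000 in
/-- Inverse images of a generating family are generating if the structure sheaf is generating over the
covering object. -/
theorem isGenFam_comap_of_O (h𝒳 : IsFibGrpd 𝒳.p) (h𝒵 : IsFibGrpd 𝒵.p) (R : Pres 𝒵)
    (C₀ : FinCover (StMod.fibCat π R.x₀)) {ι : Type*} (F : ι → StMod.QCoh 𝒵)
    (hO : StMod.IsGenFam fun _ : PUnit.{u + 1} => StMod.OQ (StMod.fibCat π R.x₀))
    (hF : StMod.IsGenFam F) : StMod.IsGenFam fun i => (StMod.comapQ π).obj (F i) := by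
  haveI := R.aff₀
  rw [StMod.isGenFam_iff]
  intro M N v hv
  obtain ⟨QM⟩ := exists_model (π := π) h𝒳 (StMod.OQ 𝒳).property M.property C₀
  obtain ⟨QN⟩ := exists_model (π := π) h𝒳 (StMod.OQ 𝒳).property N.property C₀
  let D : Datum π (StMod.O 𝒳) M.obj :=
    ⟨h𝒳, h𝒵, (StMod.OQ 𝒳).property, M.property, R, C₀, isFinPres_O C₀.x₀.left, QM⟩
  let D' := D.change N.property QN
  obtain ⟨w, hw⟩ := D.exists_Fpost N.property QN v.hom
  have hFB : StMod.IsGenFam fun i => (StMod.comapQ (rigFst (BasedFunctor.id 𝒵) R.x₀)).obj (F i) :=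
    isGenFam_src (locEquiv_rigFst h𝒵 h𝒵 R.cover) invariant_rigFst _ hF
  have hflat : Flat (StMod.bmap 𝒵 (𝟙 R.x₀)) := by rw [StMod.bmap_id]; infer_instance
  let i₀ : D.Base.obj := D.bMk (𝟙 R.x₀)
  haveI : IsAffine (StMod.sch D.Base i₀) := R.aff₀
  have hw0 : (ObjectProperty.homMk w : D.FQ ⟶ D'.FQ) = 0 := by
    refine (StMod.isGenFam_iff _).1 hFB _ fun i φ => ?_
    obtain ⟨Φ, hΦ⟩ := D.exists_adjoint φ (F i).property
    refine hom_ext_cover (StMod.isQCoh_comap (F i).property).1 D'.isQCoh_F.1 (x₀ := i₀)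
      (fun z t => ⟨z, 𝟙 z, InducedCategory.homMk z.hom,
        by rw [StMod.bmap_id]; infer_instance, by rw [StMod.bmap_id]; infer_instance,
        ⟨t, by rw [StMod.bmap_id]; rfl⟩⟩) _ _ ?_
    refine hom_ext_top (StMod.isQCoh_comap (F i).property) _ _ fun s => ?_
    let t₀ : Γ(D.Q.K.obj (ov₀ (𝟙 R.x₀)), ⊤) := (D.comp₀ φ (𝟙 R.x₀)).app ⊤ s
    show (w.app i₀).app ⊤ t₀ = (0 : Γ(QN.K.obj (ov₀ (𝟙 R.x₀)), ⊤))
    apply (D'.iota_bij (𝟙 R.x₀) hflat).1
    rw [map_zero]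
    refine (hw (𝟙 R.x₀) t₀).trans (RHom.ext fun o ho e => ?_)
    rw [ev_rPost]
    show _ = (0 : Γ(N.obj.obj o.left, ⊤))
    haveI := isAffine_img (π := π) o.left ho
    rw [← smul_oneSec o.left e, ev_smul_arg, Scheme.Modules.Hom.app_smul]
    have hval := D.ev_section φ s o ho
    have hz : (v.hom.app o.left).app ⊤ (ev (D.Q.iota (ov₀ (𝟙 R.x₀)) t₀) o ho (oneSec o.left)) = 0 := by
      rw [hval, ← hΦ o ho]
      exact congrArg (fun m : StMod.Mod.comap π (F i).obj ⟶ N.obj =>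
        (m.app o.left).app ⊤ (comSec π (F i).obj o.left (pb (F i).obj o.hom ⊤ le_top s))) (hv i Φ)
    exact (congrArg (_ • ·) hz).trans (smul_zero _)
  have hzero : ∀ ψ : RHom π (StMod.O 𝒳) M.obj R.x₀, rPost v.hom R.x₀ ψ = 0 := fun ψ => by
    obtain ⟨t, rfl⟩ := (D.iota_bij (𝟙 R.x₀) hflat).2 ψ
    refine (hw (𝟙 R.x₀) t).symm.trans ?_
    have h1 : (w.app i₀).app ⊤ t = 0 :=
      congrArg (fun m : D.F ⟶ D'.F => (m.app i₀).app ⊤ t) (congrArg InducedCategory.Hom.hom hw0)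
    rw [h1, map_zero]
  refine InducedCategory.hom_ext (eq_zero_of_comap (π := π) h𝒳 h𝒵 R N.property.1 v.hom ?_)
  refine congrArg (fun m : (StMod.comapQ (StMod.fibFst π R.x₀)).obj M ⟶ (StMod.comapQ (StMod.fibFst π R.x₀)).obj N =>
    m.hom) ((StMod.isGenFam_iff _).1 hO ((StMod.comapQ (StMod.fibFst π R.x₀)).map v) fun _ χ₀ => ?_)
  let e := StMod.comapOIso (StMod.fibFst π R.x₀)
  rw [← cancel_epi e.hom, comp_zero, ← Category.assoc]
  exact ofHom_injective h𝒳 (StMod.OQ 𝒳).property N.property C₀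
    (((RHom.ext fun o ho s => rfl : ofHom ((e.hom ≫ χ₀) ≫ StMod.Mod.comapMap (StMod.fibFst π R.x₀) v.hom) =
      rPost v.hom R.x₀ (ofHom (e.hom ≫ χ₀)))).trans ((hzero _).trans (RHom.ext fun o ho s => rfl)))

end Groth.Agent.StPush
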