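import Groth.Agent.StPush.Core
import Groth.Agent.StGen.FinCover
import Groth.Agent.StGen.Glue
import Groth.Agent.StFib.Affine

/-!
Categories with a terminal object whose scheme is affine; fibres of affine morphisms are such.
-/

set_option autoImplicit false
set_option linter.style.haveILetI false
set_option linter.unusedSectionVars false
set_option backward.isDefEq.respectTransparency false
set_option backward.isDefEq.respectTransparency.types false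

universe u

open CategoryTheory CategoryTheory.Limits AlgebraicGeometry Opposite FibCat
open Groth.Agent.StDesc Groth.Agent.StGen Groth.Agent.StFib

noncomputable section

namespace Groth.Agent.StPush

variable {S : Scheme.{u}} {𝒲 : AlgSt.Cat S}

/-- An object with affine scheme receiving exactly one morphism from every object. -/
structure AffTerm (𝒲 : AlgSt.Cat S) where
  /-- the object -/
  o₀ : 𝒲.obj
  aff : IsAffine (StMod.sch 𝒲 o₀)
  exists_hom : ∀ z : 𝒲.obj, Nonempty (z ⟶ o₀)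
  uniq : ∀ (z : 𝒲.obj) (a b : z ⟶ o₀), a = b

theorem AffTerm.finCover (A : AffTerm 𝒲) : Nonempty (FinCover 𝒲) := by
  refine ⟨⟨A.o₀, A.o₀, 𝟙 _, 𝟙 _, A.aff, A.aff, fun z w => ?_, fun z a b w => ?_⟩⟩
  · obtain ⟨a⟩ := A.exists_hom z
    exact ⟨z, 𝟙 z, a, by rw [StMod.bmap_id]; infer_instance, by rw [StMod.bmap_id]; infer_instance,
      w, by rw [StMod.bmap_id]; rfl⟩
  · exact ⟨z, 𝟙 z, a, ⟨by rw [StMod.bmap_id]; infer_instance, by rw [StMod.bmap_id]; infer_instance,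
      w, by rw [StMod.bmap_id]; rfl⟩, by simp, by simp [A.uniq z a b]⟩

theorem AffTerm.isGenFam_OQ (A : AffTerm 𝒲) (h𝒲 : IsFibGrpd 𝒲.p) :
    StMod.IsGenFam fun _ : PUnit.{u + 1} => StMod.OQ 𝒲 := by
  haveI := A.aff
  rw [StMod.isGenFam_iff]
  intro M N v hv
  refine InducedCategory.hom_ext ?_
  refine hom_ext_cover M.property.1 N.property.1 (x₀ := A.o₀) (fun z t => ?_) _ _ ?_
  · obtain ⟨a⟩ := A.exists_hom z
    exact ⟨z, 𝟙 z, a, by rw [StMod.bmap_id]; infer_instance, by rw [StMod.bmap_id]; infer_instance,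
      ⟨t, by rw [StMod.bmap_id]; rfl⟩⟩
  refine hom_ext_top M.property _ _ fun s => ?_
  let h : Γ((StMod.O 𝒲).obj A.o₀, ⊤) →ₗ[Γ(StMod.sch 𝒲 A.o₀, ⊤)] Γ(M.obj.obj A.o₀, ⊤) :=
    { toFun := fun r => (show Γ(StMod.sch 𝒲 A.o₀, ⊤) from r) • s
      map_add' := fun a b => add_smul (show Γ(StMod.sch 𝒲 A.o₀, ⊤) from a) b s
      map_smul' := fun a b => mul_smul a (show Γ(StMod.sch 𝒲 A.o₀, ⊤) from b) s }
  obtain ⟨g, hg⟩ := exists_hom_of_top (StMod.OQ 𝒲).property (M.obj.obj A.o₀) h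
  obtain ⟨C⟩ := A.finCover
  let C' : FinCover 𝒲 :=
    ⟨A.o₀, A.o₀, 𝟙 _, 𝟙 _, A.aff, A.aff, fun z w => by
      obtain ⟨a⟩ := A.exists_hom z
      exact ⟨z, 𝟙 z, a, by rw [StMod.bmap_id]; infer_instance, by rw [StMod.bmap_id]; infer_instance,
        w, by rw [StMod.bmap_id]; rfl⟩, fun z a b w => ⟨z, 𝟙 z, a,
      ⟨by rw [StMod.bmap_id]; infer_instance, by rw [StMod.bmap_id]; infer_instance,
        w, by rw [StMod.bmap_id]; rfl⟩, by simp, by simp [A.uniq z a b]⟩⟩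
  obtain ⟨φ, hφ⟩ := exists_hom_of_cover h𝒲 (StMod.OQ 𝒲).property M.property C' g fun t w₁ w₂ h1 h2 => by
    have : w₁ = w₂ := ext_of_pb (StMod.OQ 𝒲).property.1 C'.p _ _ fun U r => by
      rw [h1]
      exact (h2 _ _ r).symm
    rw [this]
  have hs : (φ.app A.o₀).app ⊤ (oneSec A.o₀) = s := by
    rw [hφ, hg]
    show (1 : Γ(StMod.sch 𝒲 A.o₀, ⊤)) • s = s
    exact one_smul _ s
  have h0 := congrArg (fun m : StMod.O 𝒲 ⟶ N.obj => (m.app A.o₀).app ⊤ (oneSec A.o₀)) (hv PUnit.unit φ)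
  show (v.hom.app A.o₀).app ⊤ s = 0
  rw [← hs]
  exact h0

/-- The fibres of an affine morphism over affine objects. -/
theorem exists_affTerm {𝒳 𝒴 : AlgSt.Cat S} (h𝒴 : IsFibGrpd 𝒴.p) (f : 𝒳 ⥤ᵇ 𝒴)
    (hf : AlgSt.RepByAlgSpWith AlgSp.IsAffineMor f) (η : 𝒴.obj) (hη : IsAffine (StMod.sch 𝒴 η)) :
    Nonempty (AffTerm (StMod.fibCat f η)) := by
  obtain ⟨y, i₀, hi₀⟩ := StFib.exists_overFunctor h𝒴 η rfl
  obtain ⟨F, e, he, hP⟩ := hf (𝒴.p.obj η) y
  obtain ⟨W, i, fst, sq, hW⟩ := hP (Z := 𝒴.p.obj η) hη (𝟙 _)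
  haveI : IsIso fst := sq.isIso_fst_of_isIso
  let inv' := CategoryTheory.inv fst
  let a₀ : (AlgSt.ofSp F.obj).obj := ⟨W, fst.hom.app (op W) ⟨𝟙 W⟩⟩
  have hbij : ∀ T : Over S, Function.Bijective (fun g : T ⟶ W => F.obj.obj.map g.op a₀.sec) := fun T => by
    have hn : ∀ g : T ⟶ W, F.obj.obj.map g.op a₀.sec = fst.hom.app (op T) ⟨g⟩ := fun g => by
      refine ((NatTrans.naturality_apply fst.hom g.op (⟨𝟙 W⟩ : ULift (W ⟶ W))).symm).trans ?_
      exact congrArg (fst.hom.app (op T)) (ULift.ext _ _ (Category.comp_id g))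
    have hb : Function.Bijective (fst.hom.app (op T)) := by
      have : IsIso fst.hom := inferInstanceAs (IsIso ((sheafToPresheaf _ _).map fst))
      exact (isIso_iff_bijective _).1 inferInstance
    simp only [hn]
    exact hb.comp ⟨fun a b h => congrArg ULift.down h, fun a => ⟨a.down, rfl⟩⟩
  haveI := StFib.isEquivalence_of_isEquivOver he
  let o₀ := pairObj f η i₀ (e.obj a₀)
  have hterm : ∀ m : (fp y f).obj, ∃ k : m ⟶ e.obj a₀, ∀ k', k' = k := fun m => by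
    let a := e.toFunctor.objPreimage m
    let j : e.obj a ≅ m := e.toFunctor.objObjPreimageIso m
    obtain ⟨g, hg⟩ := (hbij a.base).2 a.sec
    refine ⟨j.inv ≫ e.map (⟨g, hg⟩ : a ⟶ a₀), fun k' => ?_⟩
    obtain ⟨q, hq⟩ := e.toFunctor.map_surjective (j.hom ≫ k')
    have : q = ⟨g, hg⟩ := Stk.EltObj.hom_ext ((hbij a.base).1 (q.map_sec.trans hg.symm))
    rw [← this, hq, Iso.inv_hom_id_assoc]
  have hobj : ∀ z : (StMod.fibCat f η).obj, ∃ (zM : (fp y f).obj) (e₁ : pairObj f η i₀ zM ⟶ z), IsIso e₁ := by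
    intro z
    obtain ⟨χ, hχ, hzM⟩ := exists_obj_of_pair f η i₀ hi₀ h𝒴 z
    let zM : (fp y f).obj := fpMk (F := y) (G := f) (Over.mk (StMod.baseOver f z.left z.hom)) z.left χ hχ
    let e₁ : pairObj f η i₀ zM ⟶ z := CostructuredArrow.homMk (𝟙 z.left)
      (show f.map (𝟙 z.left) ≫ z.hom = StGen.pairHom f η i₀ zM by
        rw [f.toFunctor.map_id]; exact (Category.id_comp _).trans hzM.symm)
    refine ⟨zM, e₁, ⟨CostructuredArrow.homMk (𝟙 z.left) (show f.map (𝟙 z.left) ≫ StGen.pairHom f η i₀ zM = z.hom by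
        rw [f.toFunctor.map_id]; exact (Category.id_comp _).trans hzM),
      CostructuredArrow.hom_ext _ _ (Category.id_comp _), CostructuredArrow.hom_ext _ _ (Category.id_comp _)⟩⟩
  refine ⟨⟨o₀, ?_, fun z => ?_, fun z a b => ?_⟩⟩
  · show IsAffine (𝒳.p.obj (e.obj a₀).obj.snd).left
    rw [← fp_base_eq (e.obj a₀), show (overCat (𝒴.p.obj η)).p.obj (e.obj a₀).obj.fst = W from e.w_obj a₀]
    exact hW
  · obtain ⟨zM, e₁, he₁⟩ := hobj z
    obtain ⟨k, -⟩ := hterm zM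
    exact ⟨CategoryTheory.inv e₁ ≫ pairMap f η i₀ k⟩
  · obtain ⟨zM, e₁, he₁⟩ := hobj z
    obtain ⟨aM, ha⟩ := exists_pairMap f η i₀ hi₀ h𝒴 (e₁ ≫ a)
    obtain ⟨bM, hb⟩ := exists_pairMap f η i₀ hi₀ h𝒴 (e₁ ≫ b)
    obtain ⟨k, hk⟩ := hterm zM
    rw [← cancel_epi e₁, ← ha, ← hb, hk aM, hk bM]

end Groth.Agent.StPush
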