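import Groth.Agent.StPush.Core
import Groth.Agent.StPush.PresExist
import Groth.Agent.StGen.Transfer2

/-!
The category of a composite over an object, seen over the category of the second morphism.
-/

set_option autoImplicit false
set_option linter.style.haveILetI false
set_option linter.unusedSectionVars false
set_option backward.isDefEq.respectTransparency false
set_option backward.isDefEq.respectTransparency.types false

universe u

open CategoryTheory CategoryTheory.Limits AlgebraicGeometry Opposite FibCat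
open Groth.Agent.StDesc Groth.Agent.StGen

noncomputable section

namespace Groth.Agent.StPush

variable {S : Scheme.{u}} {𝒳 𝒴 𝒵 : AlgSt.Cat S} (f : 𝒳 ⥤ᵇ 𝒴) (g : 𝒴 ⥤ᵇ 𝒵) (ξ : 𝒵.obj)

/-- The functor between the categories over an object induced by the first morphism of a composite. -/
def compPi : StMod.fibCat (BasedFunctor.comp f g) ξ ⥤ᵇ StMod.fibCat g ξ where
  toFunctor :=
    { obj := fun o => CostructuredArrow.mk (Y := f.obj o.left) o.hom
      map := fun {o o'} k => CostructuredArrow.homMk (f.map k.left) (CostructuredArrow.w k)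
      map_id := fun o => CostructuredArrow.hom_ext _ _ (f.toFunctor.map_id _)
      map_comp := fun k k' => CostructuredArrow.hom_ext _ _ (f.toFunctor.map_comp _ _) }
  w := CategoryTheory.Functor.ext (fun o => f.w_obj o.left) fun o o' k => by
    show 𝒴.p.map (f.map k.left) = _ ≫ 𝒳.p.map k.left ≫ _
    exact StFib.w_map f k.left

variable {f g ξ} (y : (StMod.fibCat g ξ).obj)

/-- An object over the image of an object of the category of the second morphism. -/
def compFib : StMod.fibCat f y.left ⥤ᵇ StMod.fibCat (compPi f g ξ) y where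
  toFunctor :=
    { obj := fun x => CostructuredArrow.mk
        (Y := (CostructuredArrow.mk (Y := x.left) (g.map x.hom ≫ y.hom) :
          (StMod.fibCat (BasedFunctor.comp f g) ξ).obj))
        (CostructuredArrow.homMk x.hom rfl)
      map := fun {x x'} k => CostructuredArrow.homMk (CostructuredArrow.homMk k.left (by
          show g.map (f.map k.left) ≫ g.map x'.hom ≫ y.hom = g.map x.hom ≫ y.hom
          rw [← Category.assoc, ← Functor.map_comp]
          exact congrArg (g.map · ≫ y.hom) (CostructuredArrow.w k)))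
        (CostructuredArrow.hom_ext _ _ (CostructuredArrow.w k))
      map_id := fun x => CostructuredArrow.hom_ext _ _ (CostructuredArrow.hom_ext _ _ rfl)
      map_comp := fun k k' => CostructuredArrow.hom_ext _ _ (CostructuredArrow.hom_ext _ _ rfl) }
  w := rfl

variable {y}

/-- The underlying object over `y.left`. -/
abbrev downObj (o : (StMod.fibCat (compPi f g ξ) y).obj) : (StMod.fibCat f y.left).obj :=
  CostructuredArrow.mk (Y := o.left.left) o.hom.left

/-- The underlying morphism over `y.left`. -/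
abbrev downMap {o o' : (StMod.fibCat (compPi f g ξ) y).obj} (k : o ⟶ o') : downObj o ⟶ downObj o' :=
  CostructuredArrow.homMk k.left.left (congrArg CommaMorphism.left (CostructuredArrow.w k))

/-- An object is the image of its underlying object. -/
def upIso (o : (StMod.fibCat (compPi f g ξ) y).obj) : (compFib y).obj (downObj o) ⟶ o :=
  CostructuredArrow.homMk (CostructuredArrow.homMk (𝟙 o.left.left) (by
    show g.map (f.map (𝟙 o.left.left)) ≫ o.left.hom = g.map o.hom.left ≫ y.hom
    rw [f.toFunctor.map_id, g.toFunctor.map_id]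
    exact (Category.id_comp _).trans (CostructuredArrow.w o.hom).symm))
    (CostructuredArrow.hom_ext _ _ (by
      show f.map (𝟙 o.left.left) ≫ o.hom.left = o.hom.left
      rw [f.toFunctor.map_id]
      exact Category.id_comp _))

theorem locEquiv_compFib (h𝒳 : IsFibGrpd 𝒳.p) : LocEquiv (compFib (f := f) y) := by
  have hsrc := isFibGrpd_fibCat f h𝒳 y.left
  have htgt := isFibGrpd_fibCat (compPi f g ξ) (isFibGrpd_fibCat (BasedFunctor.comp f g) h𝒳 ξ) y
  refine ⟨hsrc, htgt, fun z => ⟨⊤, (QuotSh.J _ S).top_mem _, fun V g' _ => ?_⟩,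
    fun o o' b hb => ⟨⊤, (QuotSh.J _ S).top_mem _, fun V g' _ => ?_⟩⟩
  · obtain ⟨z', φ, hφ⟩ := htgt.exists_lift g'
    refine ⟨downObj z', upIso z' ≫ φ, ?_⟩
    haveI := hφ
    haveI : (StMod.fibCat (compPi f g ξ) y).p.IsHomLift (𝟙 ((StMod.fibCat (compPi f g ξ) y).p.obj z'))
        (upIso z') :=
      IsHomLift.of_fac' _ _ _ rfl rfl (by
        show 𝒳.p.map (𝟙 z'.left.left) = eqToHom rfl ≫ 𝟙 (𝒳.p.obj z'.left.left) ≫ eqToHom rfl
        simp)
    exact IsHomLift.comp_lift_id_left' (StMod.fibCat (compPi f g ξ) y).p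
      ((StMod.fibCat (compPi f g ξ) y).p.obj z') (upIso z') g' φ
  · obtain ⟨o₀, φ, hφ⟩ := hsrc.exists_lift g'
    let m : o ⟶ o' := downMap b
    have hm : (compFib y).map m = b := CostructuredArrow.hom_ext _ _ (CostructuredArrow.hom_ext _ _ rfl)
    refine ⟨o₀, φ, φ ≫ m, hφ, ?_, by rw [Functor.map_comp, hm]⟩
    haveI : (StMod.fibCat (compPi f g ξ) y).p.IsHomLift (𝟙 ((StMod.fibCat f y.left).p.obj o)) ((compFib y).map m) :=
      hm.symm ▸ hb
    haveI : (StMod.fibCat f y.left).p.IsHomLift (𝟙 ((StMod.fibCat f y.left).p.obj o)) m :=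
      (BasedFunctor.isHomLift_iff (compFib y) _ m).1 inferInstance
    haveI := hφ
    exact IsHomLift.comp_lift_id_right' (StMod.fibCat f y.left).p g' φ ((StMod.fibCat f y.left).p.obj o) m

/-- Finite coverings transfer. -/
theorem finCover_compPi (C : FinCover (StMod.fibCat f y.left)) :
    Nonempty (FinCover (StMod.fibCat (compPi f g ξ) y)) := by
  let j := compFib (f := f) y
  have hback : ∀ {w : (StMod.fibCat f y.left).obj} {o : (StMod.fibCat (compPi f g ξ) y).obj}
      (a : w ⟶ downObj o), StMod.bmap (StMod.fibCat (compPi f g ξ) y) (j.map a ≫ upIso o) =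
        StMod.bmap (StMod.fibCat f y.left) a := by
    intro w o a
    show StMod.bmap 𝒳 (a.left ≫ 𝟙 _) = StMod.bmap 𝒳 a.left
    rw [Category.comp_id]
  refine ⟨⟨j.obj C.x₀, j.obj C.x₁, j.map C.p, j.map C.q, C.aff₀, C.aff₁, fun z w => ?_, fun z a b w => ?_⟩⟩
  · obtain ⟨v, c, d, h1, h2, h3⟩ := C.cover (downObj z) w
    exact ⟨j.obj v, j.map c ≫ upIso z, j.map d, by
      unfold IsNhd
      rw [hback]
      exact ⟨h1, h2, h3⟩⟩
  · obtain ⟨v, c, d, ⟨h1, h2, h3⟩, hp, hq⟩ := C.cover₂ (downObj z) (downMap a) (downMap b) w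
    refine ⟨j.obj v, j.map c ≫ upIso z, j.map d, ?_, ?_, ?_⟩
    · unfold IsNhd
      rw [hback]
      exact ⟨h1, h2, h3⟩
    · refine CostructuredArrow.hom_ext _ _ (CostructuredArrow.hom_ext _ _ ?_)
      show d.left ≫ C.p.left = (c.left ≫ 𝟙 _) ≫ a.left.left
      rw [Category.comp_id]
      exact congrArg CommaMorphism.left hp
    · refine CostructuredArrow.hom_ext _ _ (CostructuredArrow.hom_ext _ _ ?_)
      show d.left ≫ C.q.left = (c.left ≫ 𝟙 _) ≫ b.left.left
      rw [Category.comp_id]
      exact congrArg CommaMorphism.left hq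

/-- Generating families transfer to the category of the composite over an object. -/
theorem isGenFam_compPi (h𝒳 : IsFibGrpd 𝒳.p) {ι : Type*} (E : ι → StMod.QCoh 𝒳)
    (hgen : StMod.IsGenFam fun i => (StMod.comapQ (StMod.fibFst f y.left)).obj (E i)) :
    StMod.IsGenFam fun i => (StMod.comapQ (StMod.fibFst (compPi f g ξ) y)).obj
      ((StMod.comapQ (StMod.fibFst (BasedFunctor.comp f g) ξ)).obj (E i)) :=
  have hcomp : BasedFunctor.comp (BasedFunctor.comp (compFib (f := f) y) (StMod.fibFst (compPi f g ξ) y))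
      (StMod.fibFst (BasedFunctor.comp f g) ξ) = StMod.fibFst f y.left := rfl
  isGenFam_of_locEquiv (locEquiv_compFib h𝒳) _
    (fun i => (StMod.comapQ (StMod.fibFst f y.left)).obj (E i))
    (fun i => (StMod.comapCompIso (StMod.fibFst (compPi f g ξ) y) (compFib y) _).symm ≪≫
      (StMod.comapCompIso (StMod.fibFst (BasedFunctor.comp f g) ξ)
        (BasedFunctor.comp (compFib y) (StMod.fibFst (compPi f g ξ) y)) (E i).obj).symm ≪≫
      eqToIso (congrArg (fun F => StMod.Mod.comap F (E i).obj) hcomp)) hgen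

/-- Generation by the structure sheaf restricted to a category over an object. -/
theorem isGenFam_OQ {𝒰 𝒲 : AlgSt.Cat S} {π : 𝒰 ⥤ᵇ 𝒲}
    (h : StMod.IsGenFam fun _ : PUnit.{u + 1} => (StMod.comapQ π).obj (StMod.OQ 𝒲)) :
    StMod.IsGenFam fun _ : PUnit.{u + 1} => StMod.OQ 𝒰 := by
  rw [StMod.isGenFam_iff] at h ⊢
  intro M N u hu
  refine h u fun i φ => ?_
  let e := StMod.comapOIso π
  rw [← cancel_epi e.inv, comp_zero, ← Category.assoc]
  exact hu i (e.inv ≫ φ)

end Groth.Agent.StPush
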