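import Groth.Agent.FDesc.QuasiFlat
import Groth.Agent.CohDev.Coh
import Groth.Agent.Omega.Stalks
import Groth.Agent.QCohGen.StalkFun
import Mathlib.Algebra.Category.ModuleCat.Products
import Groth.Agent.KFlat.TensorLocFree
import Groth.Prelude.Def_FlatMod2

/-!
A finite epimorphism out of a class of modules detecting morphisms.
-/

set_option autoImplicit false
set_option linter.style.haveILetI false

universe u

open CategoryTheory Limits AlgebraicGeometry Opposite TopologicalSpace Abelian
open Groth.Agent Groth.Agent.PullStalk.Sky Groth.Agent.PullStalk.Exact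

noncomputable section

namespace Groth.Agent.StPush.FinEpi

variable {X : Scheme.{u}}

/-- The stalk of a coproduct is spanned by the summands. -/
theorem stalk_sigma_span {ι : Type u} (F : ι → X.Modules) (x : X) :
    ⨆ i, LinearMap.range (stalkLin (Sigma.ι F i) x) = ⊤ := by
  classical
  let L := QCohGen.stalkFun X x
  haveI : PreservesColimitsOfSize.{u, u} L := (Adjunction.ofIsLeftAdjoint L).leftAdjoint_preservesColimits
  let Z : ι → ModuleCat.{u} (X.presheaf.stalk x) := fun i => L.obj (F i)
  let e0 : L.obj (∐ F) ≅ ModuleCat.of _ (DirectSum ι fun i => Z i) :=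
    (PreservesCoproduct.iso L F) ≪≫ ModuleCat.coprodIsoDirectSum Z
  have hι : ∀ i, L.map (Sigma.ι F i) ≫ e0.hom = ModuleCat.ofHom (DirectSum.lof _ ι (fun i => Z i) i) := by
    intro i
    rw [Iso.trans_hom, ← Category.assoc, ← ι_comp_sigmaComparison, ← PreservesCoproduct.inv_hom,
      Category.assoc, Category.assoc, Iso.inv_hom_id_assoc]
    exact ModuleCat.ι_coprodIsoDirectSum_hom Z i
  let ee : ((∐ F).presheaf.stalk x) ≃ₗ[X.presheaf.stalk x] DirectSum ι fun i => Z i := e0.toLinearEquiv
  rw [eq_top_iff]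
  intro w _
  have key : ∀ d : DirectSum ι fun i => Z i,
      ee.symm d ∈ ⨆ i, LinearMap.range (stalkLin (Sigma.ι F i) x) := fun d => by
    induction d using DirectSum.induction_on with
    | zero => rw [map_zero]; exact zero_mem _
    | of i a =>
      refine Submodule.mem_iSup_of_mem i ⟨a, ?_⟩
      apply ee.injective
      rw [LinearEquiv.apply_symm_apply]
      exact congr($(hι i) a)
    | add a b ha hb => rw [map_add]; exact add_mem ha hb
  exact (ee.symm_apply_apply w) ▸ key (ee w)

/-- If the morphisms in `P` detect the vanishing of morphisms to quasi-coherent modules, finitely many of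
them give an epimorphism. -/
theorem exists_fin_epi [CompactSpace X] {G : X.Modules} (hG : Coh.IsCoh G)
    (P : ∀ E : X.Modules, (E ⟶ G) → Prop) (hP : ∀ E f, P E f → Coh.IsCoh E)
    (hdet : ∀ (Q : X.Modules) (u : G ⟶ Q), Coh.IsQCoh Q → (∀ E f, P E f → f ≫ u = 0) → u = 0) :
    ∃ (k : ℕ) (E : Fin k → X.Modules) (f : ∀ j, E j ⟶ G), (∀ j, P (E j) (f j)) ∧ Epi (Sigma.desc f) := by
  classical
  -- a small set of witnesses
  let Js : X → Type u := fun x => {m : G.presheaf.stalk x // ∃ E f, P E f ∧ m ∈ LinearMap.range (stalkLin f x)}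
  let J : Type u := Σ x, Js x
  choose Es fs hPs hmem using fun j : J => j.2.2
  let p : ∀ T : Finset J, (∐ fun j : T => Es j.1) ⟶ G := fun T => Sigma.desc fun j => fs j.1
  let pa : (∐ Es) ⟶ G := Sigma.desc fs
  have hepi : Epi pa := by
    haveI : ∀ j, (Es j).IsQuasicoherent := fun j => (hP _ _ (hPs j)).1
    haveI : (∐ Es).IsQuasicoherent := QCoh.isQuasicoherent_coproduct _
    have := hG.1
    have hq : Coh.IsQCoh (cokernel pa) := QCoh.isQuasicoherent_cokernel pa
    apply Preadditive.epi_of_cokernel_zero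
    refine hdet _ _ hq fun E f hf => ?_
    apply Scheme.Modules.hom_ext
    intro U
    refine ConcreteCategory.hom_ext _ _ fun (s : Γ(E, U)) => ?_
    refine TopCat.Presheaf.section_ext ⟨(cokernel pa).presheaf, (cokernel pa).isSheaf⟩ U _ _ fun y hy => ?_
    let m := stalkLin f y (germM E U y hy s)
    let j : J := ⟨y, m, E, f, hf, ⟨_, rfl⟩⟩
    obtain ⟨w, hw⟩ := hmem j
    have h0 : stalkLin (cokernel.π pa) y m = 0 := by
      have e : fs j ≫ cokernel.π pa = 0 := by
        rw [show fs j = Sigma.ι Es j ≫ pa from (Sigma.ι_desc _ _).symm, Category.assoc, cokernel.condition,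
          comp_zero]
      rw [show m = stalkLin (fs j) y w from hw.symm, ← Omega.Stalks.stalkLin_comp, e, Omega.Stalks.stalkLin_zero]
    show germM (cokernel pa) U y hy ((f ≫ cokernel.π pa).app U s) = germM (cokernel pa) U y hy 0
    refine (stalkLin_germ (f ≫ cokernel.π pa) U y hy s).symm.trans ?_
    rw [Omega.Stalks.stalkLin_comp]
    exact h0.trans (map_zero _).symm
  have hmemT : ∀ (T : Finset J) (j : J) (_ : j ∈ T) (y : X) (w : (Es j).presheaf.stalk y),
      stalkLin (fs j) y w ∈ LinearMap.range (stalkLin (p T) y) := by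
    intro T j hj y w
    refine ⟨stalkLin (Sigma.ι (fun j : T => Es j.1) ⟨j, hj⟩) y w, ?_⟩
    rw [← Omega.Stalks.stalkLin_comp, Sigma.ι_desc]
  have hmono : ∀ (T T' : Finset J), T ⊆ T' → ∀ y,
      LinearMap.range (stalkLin (p T) y) ≤ LinearMap.range (stalkLin (p T') y) := by
    intro T T' h y
    rintro _ ⟨w, rfl⟩
    let i : (∐ fun j : T => Es j.1) ⟶ ∐ fun j : T' => Es j.1 :=
      Sigma.desc fun j => Sigma.ι (fun j : T' => Es j.1) ⟨j.1, h j.2⟩
    have hi : i ≫ p T' = p T := Sigma.hom_ext _ _ fun j => by simp [i, p]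
    exact ⟨stalkLin i y w, by rw [← Omega.Stalks.stalkLin_comp, hi]⟩
  have hsum : ∀ (x : X) (m : G.presheaf.stalk x), ∃ T : Finset J, m ∈ LinearMap.range (stalkLin (p T) x) := by
    intro x m
    obtain ⟨w, rfl⟩ := stalk_surjective pa x m
    have hw : w ∈ ⨆ j, LinearMap.range (stalkLin (Sigma.ι Es j) x) := by rw [stalk_sigma_span]; trivial
    induction hw using Submodule.iSup_induction' with
    | mem j y hy =>
      obtain ⟨z, rfl⟩ := hy
      refine ⟨{j}, ?_⟩
      rw [← Omega.Stalks.stalkLin_comp, Sigma.ι_desc]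
      exact hmemT {j} j (Finset.mem_singleton_self j) x z
    | zero => exact ⟨∅, by rw [map_zero]; exact zero_mem _⟩
    | add a b _ _ ha hb =>
      obtain ⟨T, hT⟩ := ha
      obtain ⟨T', hT'⟩ := hb
      exact ⟨T ∪ T', by
        rw [map_add]
        exact add_mem (hmono _ _ Finset.subset_union_left x hT) (hmono _ _ Finset.subset_union_right x hT')⟩
  have hx : ∀ x : X, ∃ T : Finset J, Function.Surjective (stalkLin (p T) x) := by
    intro x
    haveI := FDesc.QuasiFlat.finite_stalk_of_isCoh G hG x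
    obtain ⟨t, ht⟩ := (Module.Finite.fg_top : (⊤ : Submodule (X.presheaf.stalk x) (G.presheaf.stalk x)).FG)
    choose T hT using fun m : t => hsum x m.1
    refine ⟨Finset.univ.biUnion T, LinearMap.range_eq_top.mp (top_le_iff.mp ?_)⟩
    rw [← ht, Submodule.span_le]
    intro m hm
    exact hmono _ _ (fun j hj => Finset.mem_biUnion.mpr ⟨⟨m, hm⟩, Finset.mem_univ _, hj⟩) x (hT ⟨m, hm⟩)
  choose S hS using hx
  have hcoh : ∀ T : Finset J, Coh.IsCoh (cokernel (p T)) := fun T =>
    haveI : ∀ j : T, (Es j.1).IsQuasicoherent := fun j => (hP _ _ (hPs j.1)).1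
    CohDev.isCoh_cokernel _ (QCoh.isQuasicoherent_coproduct fun j : T => Es j.1) hG
  have hiff : ∀ (T : Finset J) y, Function.Surjective (stalkLin (p T) y) ↔
      Subsingleton ((cokernel (p T)).presheaf.stalk y) := by
    intro T y
    let C := ShortComplex.mk (kernel.ι (cokernel.π (p T))) (cokernel.π (p T)) (kernel.condition _)
    have hC : C.ShortExact := { exact := ShortComplex.exact_of_f_is_kernel _ (kernelIsKernel _) }
    obtain ⟨-, hexact, hsurj⟩ := stalk_exact hC y
    constructor
    · intro hs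
      refine subsingleton_of_forall_eq 0 fun c => ?_
      obtain ⟨g, rfl⟩ := hsurj c
      obtain ⟨z, rfl⟩ := hs g
      rw [← Omega.Stalks.stalkLin_comp, cokernel.condition, Omega.Stalks.stalkLin_zero]
    · intro hs g
      obtain ⟨z, rfl⟩ := (hexact g).mp (Subsingleton.elim _ _)
      haveI : Epi (Abelian.factorThruImage (p T)) := inferInstance
      obtain ⟨w, rfl⟩ := stalk_surjective (Abelian.factorThruImage (p T)) y z
      exact ⟨w, by rw [← Omega.Stalks.stalkLin_comp, Abelian.image.fac]⟩
  let O' : X → X.Opens := fun x =>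
    ⟨(CohB1.support (cokernel (p (S x))))ᶜ, (CohDev.isClosed_support (hcoh (S x))).isOpen_compl⟩
  have hxO : ∀ x, x ∈ O' x := fun x =>
    fun hn => hn ((hiff (S x) x).mp (hS x))
  obtain ⟨t, ht⟩ := isCompact_univ.elim_finite_subcover (fun x : X => (O' x : Set X)) (fun x => (O' x).2)
    fun x _ => Set.mem_iUnion.mpr ⟨x, hxO x⟩
  let T := t.biUnion S
  let e := (Fintype.equivFin T).symm
  refine ⟨_, fun j => Es (e j).1, fun j => fs (e j).1, fun j => hPs _, ?_⟩
  haveI : Epi (p T) := by
    refine Omega.Stalks.epi_of_stalk fun y => ?_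
    obtain ⟨x, hxt, hyx⟩ := Set.mem_iUnion₂.mp (ht (Set.mem_univ y))
    have h1 : Function.Surjective (stalkLin (p (S x)) y) :=
      (hiff (S x) y).mpr (not_not.mp hyx)
    intro g
    exact hmono (S x) T (Finset.subset_biUnion_of_mem S hxt) y (h1 g)
  let w : (∐ fun j : T => Es j.1) ⟶ ∐ fun j => Es (e j).1 :=
    Sigma.desc fun i => eqToHom (by rw [Equiv.apply_symm_apply]) ≫ Sigma.ι (fun j => Es (e j).1) (e.symm i)
  refine @epi_of_epi_fac _ _ _ _ _ w _ (p T) inferInstance (Sigma.hom_ext _ _ fun i => ?_)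
  simp only [w, p, Sigma.ι_desc, Sigma.ι_desc_assoc, Category.assoc]
  have key : ∀ (i' : T) (h : i' = i), eqToHom (by rw [h] : Es i.1 = Es i'.1) ≫ fs i'.1 = fs i.1 := by
    rintro _ rfl; simp
  exact key _ (e.apply_symm_apply i)

end Groth.Agent.StPush.FinEpi
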