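import Groth.Agent.StPush.Core
import Groth.Agent.StGen.FinCover

/-!
Fully faithful functors between categories fibred in groupoids that are vertically essentially surjective.
-/

set_option autoImplicit false
set_option linter.style.haveILetI false
set_option linter.unusedSectionVars false
set_option backward.isDefEq.respectTransparency false
set_option backward.isDefEq.respectTransparency.types false

universe u

open CategoryTheory CategoryTheory.Limits AlgebraicGeometry Opposite FibCat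
open Groth.Agent.StDesc Groth.Agent.StGen

noncomputable section

namespace Groth.Agent.StPush

variable {S : Scheme.{u}} {𝒜 ℬ : AlgSt.Cat S}

/-- A fully faithful functor with every object vertically isomorphic to an image. -/
structure FullEquiv (θ : 𝒜 ⥤ᵇ ℬ) : Prop where
  fibA : IsFibGrpd 𝒜.p
  fibB : IsFibGrpd ℬ.p
  full : ∀ {o o' : 𝒜.obj} (b : θ.obj o ⟶ θ.obj o'), ∃ a : o ⟶ o', θ.map a = b
  faithful : ∀ {o o' : 𝒜.obj} (a a' : o ⟶ o'), θ.map a = θ.map a' → a = a'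
  surj : ∀ z : ℬ.obj, ∃ (o : 𝒜.obj) (φ : θ.obj o ⟶ z), StFib.Vert φ

variable {θ : 𝒜 ⥤ᵇ ℬ} (H : FullEquiv θ)

theorem FullEquiv.invariant (H : FullEquiv θ) (F : StMod.Mod 𝒜) : Invariant θ F := by
  intro x' x a b h U V ha hb s
  exact pb_congr F (H.faithful a b h) V ha s

theorem FullEquiv.locEquiv (H : FullEquiv θ) : LocEquiv θ := by
  refine ⟨H.fibA, H.fibB, fun z => ⟨⊤, (QuotSh.J _ S).top_mem _, fun V g' _ => ?_⟩,
    fun o o' b hb => ⟨⊤, (QuotSh.J _ S).top_mem _, fun V g' _ => ?_⟩⟩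
  · obtain ⟨z', φ, hφ⟩ := H.fibB.exists_lift g'
    obtain ⟨o, ψ, e, hψ⟩ := H.surj z'
    refine ⟨o, ψ ≫ φ, ?_⟩
    haveI := hφ
    haveI : ℬ.p.IsHomLift (𝟙 (ℬ.p.obj z')) ψ :=
      IsHomLift.of_fac' _ _ _ e rfl (by simpa using hψ)
    exact IsHomLift.comp_lift_id_left' ℬ.p (ℬ.p.obj z') ψ g' φ
  · obtain ⟨o₀, φ, hφ⟩ := H.fibA.exists_lift g'
    obtain ⟨m, hm⟩ := H.full b
    refine ⟨o₀, φ, φ ≫ m, hφ, ?_, by rw [Functor.map_comp, hm]⟩
    haveI : ℬ.p.IsHomLift (𝟙 (𝒜.p.obj o)) (θ.map m) := hm.symm ▸ hb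
    haveI : 𝒜.p.IsHomLift (𝟙 (𝒜.p.obj o)) m := (BasedFunctor.isHomLift_iff θ _ m).1 inferInstance
    haveI := hφ
    exact IsHomLift.comp_lift_id_right' 𝒜.p g' φ (𝒜.p.obj o) m

theorem FullEquiv.isAffine (H : FullEquiv θ) {o : 𝒜.obj} {z : ℬ.obj} {φ : θ.obj o ⟶ z} (hφ : StFib.Vert φ)
    (hz : IsAffine (StMod.sch ℬ z)) : IsAffine (StMod.sch 𝒜 o) := by
  obtain ⟨e, -⟩ := hφ
  exact (StMod.sch_obj_eq θ o) ▸ (show StMod.sch ℬ (θ.obj o) = StMod.sch ℬ z from congrArg Comma.left e).symm ▸ hz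

theorem FullEquiv.exists_finCover (H : FullEquiv θ) (C : FinCover ℬ) : Nonempty (FinCover 𝒜) := by
  obtain ⟨o₀, φ₀, h₀⟩ := H.surj C.x₀
  obtain ⟨o₁, φ₁, h₁⟩ := H.surj C.x₁
  haveI := StFib.Vert.isIso H.fibB h₀
  haveI := StFib.Vert.isIso H.fibB h₁
  obtain ⟨p', hp'⟩ := H.full (φ₁ ≫ C.p ≫ inv φ₀)
  obtain ⟨q', hq'⟩ := H.full (φ₁ ≫ C.q ≫ inv φ₀)
  refine ⟨⟨o₀, o₁, p', q', H.isAffine h₀ C.aff₀, H.isAffine h₁ C.aff₁, fun z w => ?_, fun z a b w => ?_⟩⟩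
  · obtain ⟨v, c, d, hc⟩ := C.cover (θ.obj z) (eqToHom (StMod.sch_obj_eq θ z).symm w)
    obtain ⟨z', c', k, hc', -⟩ := exists_lift_nhd θ H.fibA H.fibB c w hc
    obtain ⟨d', -⟩ := H.full (k ≫ d ≫ inv φ₀)
    exact ⟨z', c', d', hc'⟩
  · obtain ⟨v, c, d, hc, hp, hq⟩ := C.cover₂ (θ.obj z) (θ.map a ≫ φ₀) (θ.map b ≫ φ₀)
      (eqToHom (StMod.sch_obj_eq θ z).symm w)
    obtain ⟨z', c', k, hc', hk⟩ := exists_lift_nhd θ H.fibA H.fibB c w hc
    obtain ⟨d', hd⟩ := H.full (k ≫ d ≫ inv φ₁)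
    refine ⟨z', c', d', hc', H.faithful _ _ ?_, H.faithful _ _ ?_⟩
    · rw [Functor.map_comp, Functor.map_comp, hd, hp', ← hk]
      simp only [Category.assoc, IsIso.inv_hom_id_assoc, reassoc_of% hp, IsIso.hom_inv_id, Category.comp_id]
    · rw [Functor.map_comp, Functor.map_comp, hd, hq', ← hk]
      simp only [Category.assoc, IsIso.inv_hom_id_assoc, reassoc_of% hq, IsIso.hom_inv_id, Category.comp_id]

end Groth.Agent.StPush
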