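import Groth.Agent.StDesc.Sec
import Groth.Agent.LimTop.PullSec
import Groth.Prelude.Def_StMod6

/-!
The module on the category of a scheme attached to a quasi-coherent module on the scheme.
-/

set_option autoImplicit false
set_option linter.style.haveILetI false
set_option backward.isDefEq.respectTransparency false
set_option backward.isDefEq.respectTransparency.types false

universe u

open CategoryTheory CategoryTheory.Limits AlgebraicGeometry Opposite
open Groth.Agent.QCoh

noncomputable section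

namespace Groth.Agent.StPush.OfSch

variable {S : Scheme.{u}} {X : Over S} (M : X.left.Modules)

/-- The morphism to the scheme of an object. -/
abbrev toX (a : (AlgSt.ofSch X).obj) : StMod.sch (AlgSt.ofSch X) a ⟶ X.left := a.sec.down.left

theorem bmap_toX {b a : (AlgSt.ofSch X).obj} (φ : b ⟶ a) :
    StMod.bmap (AlgSt.ofSch X) φ ≫ toX a = toX b :=
  congrArg CommaMorphism.left (congrArg ULift.down φ.map_sec)

/-- The comparison of pullbacks along a morphism. -/
def comp {A B : Scheme.{u}} (g : B ⟶ A) {f : A ⟶ X.left} {f' : B ⟶ X.left} (e : g ≫ f = f') :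
    (Scheme.Modules.pullback g).obj ((Scheme.Modules.pullback f).obj M) ≅ (Scheme.Modules.pullback f').obj M :=
  (Scheme.Modules.pullbackComp g f).app M ≪≫ (Scheme.Modules.pullbackCongr e).app M

/-- The transition map. -/
def trans {A B : Scheme.{u}} (g : B ⟶ A) {f : A ⟶ X.left} {f' : B ⟶ X.left} (e : g ≫ f = f') :
    (Scheme.Modules.pullback f).obj M ⟶ (Scheme.Modules.pushforward g).obj ((Scheme.Modules.pullback f').obj M) :=
  (Scheme.Modules.pullbackPushforwardAdjunction g).homEquiv _ _ (comp M g e).hom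

theorem trans_unitSec {A B : Scheme.{u}} (g : B ⟶ A) {f : A ⟶ X.left} {f' : B ⟶ X.left} (e : g ≫ f = f')
    {U : X.left.Opens} (W : A.Opens) (h : W ≤ f ⁻¹ᵁ U) (h' : g ⁻¹ᵁ W ≤ f' ⁻¹ᵁ U) (m : Γ(M, U)) :
    (trans M g e).app W (LimTop.unitSec f M h m) = LimTop.unitSec f' M h' m := by
  subst e
  have h1 : (trans M g (f' := g ≫ f) rfl).app W (LimTop.unitSec f M h m) =
      (comp M g rfl).hom.app (g ⁻¹ᵁ W)
        (LimTop.unitSec g ((Scheme.Modules.pullback f).obj M) (le_refl (g ⁻¹ᵁ W)) (LimTop.unitSec f M h m)) := by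
    rw [trans, Adjunction.homEquiv_unit, LimTop.unitSec_apply g, res_self]
    rfl
  rw [h1]
  show (((Scheme.Modules.pullbackCongr (rfl : g ≫ f = g ≫ f)).hom.app M)).app _
    (((Scheme.Modules.pullbackComp g f).hom.app M).app _ _) = _
  rw [LimTop.unitSec_comp f M h g (le_refl (g ⁻¹ᵁ W)) m]
  rfl

theorem ext_unitSec {A : Scheme.{u}} (f : A ⟶ X.left) {P : A.Modules}
    (a b : (Scheme.Modules.pullback f).obj M ⟶ P)
    (h : ∀ (U : X.left.Opens) (m : Γ(M, U)),
      a.app _ (LimTop.unitSec f M (le_refl (f ⁻¹ᵁ U)) m) = b.app _ (LimTop.unitSec f M (le_refl (f ⁻¹ᵁ U)) m)) :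
    a = b := by
  apply ((Scheme.Modules.pullbackPushforwardAdjunction f).homEquiv _ _).injective
  rw [Adjunction.homEquiv_unit, Adjunction.homEquiv_unit]
  apply Scheme.Modules.hom_ext
  intro U
  refine ConcreteCategory.hom_ext _ _ fun (m : Γ(M, U)) => ?_
  have := h U m
  rw [LimTop.unitSec_apply, res_self] at this
  exact this

/-- The module. -/
def mod : StMod.Mod (AlgSt.ofSch X) where
  obj a := (Scheme.Modules.pullback (toX a)).obj M
  map {b a} φ g hg := trans M g (by rw [← hg]; exact bmap_toX φ)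
  map_id a := by
    refine ext_unitSec M (toX a) _ _ fun U m => ?_
    rw [Scheme.Modules.Hom.comp_app, ConcreteCategory.comp_apply]
    refine (congrArg (((Scheme.Modules.pushforwardId (StMod.sch (AlgSt.ofSch X) a)).hom.app _).app (toX a ⁻¹ᵁ U))
      (trans_unitSec M (𝟙 (StMod.sch (AlgSt.ofSch X) a)) (f := toX a) (Category.id_comp _) (toX a ⁻¹ᵁ U) le_rfl
        (le_rfl : (𝟙 (StMod.sch (AlgSt.ofSch X) a)) ⁻¹ᵁ (toX a ⁻¹ᵁ U) ≤ toX a ⁻¹ᵁ U) m)).trans ?_
    rfl
  map_comp {c b a} ψ φ h g hh hg := by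
    refine ext_unitSec M (toX a) _ _ fun U m => ?_
    have e1 : g ⁻¹ᵁ (toX a ⁻¹ᵁ U) ≤ toX b ⁻¹ᵁ U := by rw [← bmap_toX φ, ← hg]; exact le_rfl
    have e2 : h ⁻¹ᵁ (g ⁻¹ᵁ (toX a ⁻¹ᵁ U)) ≤ toX c ⁻¹ᵁ U := by
      rw [← bmap_toX ψ, ← bmap_toX φ, ← hg, ← hh]; exact le_rfl
    simp only [Scheme.Modules.Hom.comp_app, ConcreteCategory.comp_apply]
    rw [trans_unitSec M (h ≫ g) _ _ (le_refl _) e2 m, trans_unitSec M g _ _ (le_refl _) e1 m]
    refine Eq.trans ?_ (congrArg (((Scheme.Modules.pushforwardComp h g).hom.app _).app _)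
      (trans_unitSec M h _ _ e1 e2 m)).symm
    rfl

theorem isQCoh_mod (hM : M.IsQuasicoherent) : StMod.isQCoh (AlgSt.ofSch X) (mod M) := by
  refine ⟨fun b a φ g hg => ?_, fun a => ?_⟩
  · show IsIso (((Scheme.Modules.pullbackPushforwardAdjunction g).homEquiv _ _).symm (trans M g _))
    rw [trans, Equiv.symm_apply_apply]
    infer_instance
  · haveI := hM
    exact QCoh.isQuasicoherent_pullback (toX a) M

/-- Functoriality. -/
def map {N : X.left.Modules} (u : M ⟶ N) : mod M ⟶ mod N where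
  app a := (Scheme.Modules.pullback (toX a)).map u
  comm {b a} φ g hg := by
    refine ext_unitSec M (toX a) _ _ fun U m => ?_
    have e1 : g ⁻¹ᵁ (toX a ⁻¹ᵁ U) ≤ toX b ⁻¹ᵁ U := by rw [← bmap_toX φ, ← hg]; exact le_rfl
    simp only [Scheme.Modules.Hom.comp_app, ConcreteCategory.comp_apply]
    refine (congrArg (((Scheme.Modules.pushforward g).map ((Scheme.Modules.pullback (toX b)).map u)).app (toX a ⁻¹ᵁ U))
      (trans_unitSec M g (by rw [← hg]; exact bmap_toX φ) (toX a ⁻¹ᵁ U) le_rfl e1 m)).trans ?_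
    refine Eq.trans ?_ (congrArg ((trans N g (by rw [← hg]; exact bmap_toX φ)).app (toX a ⁻¹ᵁ U))
      (LimTop.unitSec_map (toX a) M (le_refl _) u m)).symm
    exact (LimTop.unitSec_map (toX b) M e1 u m).trans
      (trans_unitSec N g (by rw [← hg]; exact bmap_toX φ) (toX a ⁻¹ᵁ U) le_rfl e1 (u.app U m)).symm

end Groth.Agent.StPush.OfSch
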