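import Groth.Agent.StPush.FullEquiv

/-!
The category of a morphism over an object, seen over the category of a composite; its fibres are the
fibres of the diagonal of the second morphism.
-/

set_option autoImplicit false
set_option linter.style.haveILetI false
set_option linter.unusedSectionVars false
set_option backward.isDefEq.respectTransparency false
set_option backward.isDefEq.respectTransparency.types false

universe u

open CategoryTheory CategoryTheory.Limits AlgebraicGeometry Opposite FibCat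
open Groth.Agent.StDesc Groth.Agent.StGen

noncomputable section

namespace Groth.Agent.StPush

variable {S : Scheme.{u}} {𝒳 𝒴 𝒵 : AlgSt.Cat S} (f : 𝒳 ⥤ᵇ 𝒴) (g : 𝒴 ⥤ᵇ 𝒵) (y : 𝒴.obj)

/-- The functor `(x, α) ↦ (x, g α)`. -/
def overPi : StMod.fibCat f y ⥤ᵇ StMod.fibCat (BasedFunctor.comp f g) (g.obj y) where
  toFunctor :=
    { obj := fun o => CostructuredArrow.mk (Y := o.left) (g.map o.hom)
      map := fun {o o'} k => CostructuredArrow.homMk k.left (by
        show g.map (f.map k.left) ≫ g.map o'.hom = g.map o.hom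
        rw [← Functor.map_comp]
        exact congrArg g.map (CostructuredArrow.w k))
      map_id := fun o => CostructuredArrow.hom_ext _ _ rfl
      map_comp := fun k k' => CostructuredArrow.hom_ext _ _ rfl }
  w := rfl

variable {f g y} {x₀ : (StMod.fibCat (BasedFunctor.comp f g) (g.obj y)).obj} {y' : 𝒴.obj}
  (ψ : y' ⟶ y) (χ : g.obj (f.obj x₀.left) ≅ g.obj y')

/-- Data of a lift of the target of `x₀`. -/
structure EtaData : Prop where
  pχ : 𝒵.p.IsHomLift (𝟙 (𝒴.p.obj (f.obj x₀.left))) χ.hom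
  fac : χ.hom ≫ g.map ψ = x₀.hom

variable {ψ χ} (h : EtaData ψ χ)

/-- The object of the fibre product. -/
def EtaData.eta (h : EtaData ψ χ) : (fp g g).obj :=
  ⟨{ fst := f.obj x₀.left, snd := y', iso := χ }, h.pχ⟩

/-- The equation of an object over `x₀`. -/
theorem over_w (o : (StMod.fibCat (overPi f g y) x₀).obj) :
    g.map (f.map o.hom.left) ≫ x₀.hom = g.map o.left.hom :=
  CostructuredArrow.w o.hom

theorem EtaData.base (h : EtaData ψ χ) : ∃ e : 𝒴.p.obj y' = 𝒴.p.obj (f.obj x₀.left),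
    𝒵.p.map χ.hom = eqToHom ((g.w_obj (f.obj x₀.left)).trans (e.symm.trans (g.w_obj y').symm)) := by
  haveI := h.pχ
  have h1 : 𝒵.p.obj (g.obj (f.obj x₀.left)) = 𝒴.p.obj (f.obj x₀.left) :=
    IsHomLift.domain_eq 𝒵.p (𝟙 (𝒴.p.obj (f.obj x₀.left))) χ.hom
  have h2 : 𝒵.p.obj (g.obj y') = 𝒴.p.obj (f.obj x₀.left) :=
    IsHomLift.codomain_eq 𝒵.p (𝟙 (𝒴.p.obj (f.obj x₀.left))) χ.hom
  refine ⟨(g.w_obj y').symm.trans h2, ?_⟩
  rw [IsHomLift.fac' 𝒵.p (𝟙 (𝒴.p.obj (f.obj x₀.left))) χ.hom, Category.id_comp, eqToHom_trans]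

theorem EtaData.exists_snd (h : EtaData ψ χ) (h𝒴 : IsFibGrpd 𝒴.p) (o : (StMod.fibCat (overPi f g y) x₀).obj) :
    ∃ a : f.obj o.left.left ⟶ y', 𝒴.p.map a = 𝒴.p.map (f.map o.hom.left) ≫ eqToHom h.base.1.symm ∧
      a ≫ ψ = o.left.hom := by
  refine StFib.grpd_exists_fac h𝒴 ψ o.left.hom _ ?_
  obtain ⟨e, he⟩ := h.base
  have h1 := congrArg 𝒵.p.map (over_w o)
  rw [← h.fac] at h1
  erw [Functor.map_comp, Functor.map_comp, he, StFib.w_map g, StFib.w_map g, StFib.w_map g] at h1
  simp only [Category.assoc, eqToHom_trans_assoc, cancel_epi] at h1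
  simp only [Category.assoc]
  exact (cancel_mono (eqToHom _)).1 ((Category.assoc _ _ _).trans ((congrArg (_ ≫ ·) (Category.assoc _ _ _)).trans h1))

variable (h𝒴 : IsFibGrpd 𝒴.p) (h𝒵 : IsFibGrpd 𝒵.p)

/-- The second component. -/
def EtaData.snd (o : (StMod.fibCat (overPi f g y) x₀).obj) : f.obj o.left.left ⟶ y' :=
  (h.exists_snd h𝒴 o).choose

theorem EtaData.snd_p (o : (StMod.fibCat (overPi f g y) x₀).obj) :
    𝒴.p.map (h.snd h𝒴 o) = 𝒴.p.map (f.map o.hom.left) ≫ eqToHom h.base.1.symm :=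
  (h.exists_snd h𝒴 o).choose_spec.1

theorem EtaData.snd_fac (o : (StMod.fibCat (overPi f g y) x₀).obj) : h.snd h𝒴 o ≫ ψ = o.left.hom :=
  (h.exists_snd h𝒴 o).choose_spec.2

theorem EtaData.square (h𝒵 : IsFibGrpd 𝒵.p) (o : (StMod.fibCat (overPi f g y) x₀).obj) :
    g.map (f.map o.hom.left) ≫ χ.hom = 𝟙 _ ≫ g.map (h.snd h𝒴 o) := by
  rw [Category.id_comp]
  refine StFib.grpd_cancel h𝒵 (g.map ψ) ?_ ?_
  · refine (Category.assoc _ _ _).trans ((congrArg (_ ≫ ·) h.fac).trans ((over_w o).trans ?_))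
    rw [← Functor.map_comp, h.snd_fac]
  · obtain ⟨e, he⟩ := h.base
    rw [Functor.map_comp, he]
    erw [StFib.w_map g, StFib.w_map g]
    rw [h.snd_p]
    simp

/-- An object over `x₀` as an object over the diagonal. -/
def EtaData.obj (o : (StMod.fibCat (overPi f g y) x₀).obj) : (StMod.fibCat (diag g) h.eta).obj :=
  CostructuredArrow.mk (Y := f.obj o.left.left)
    (ObjectProperty.homMk { fst := f.map o.hom.left, snd := h.snd h𝒴 o, w := h.square h𝒴 h𝒵 o })

/-- The functor to the fibre of the diagonal. -/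
def EtaData.theta : StMod.fibCat (overPi f g y) x₀ ⥤ᵇ StMod.fibCat (diag g) h.eta where
  toFunctor :=
    { obj := h.obj h𝒴 h𝒵
      map := fun {o o'} m => CostructuredArrow.homMk (f.map m.left.left) (by
        have hk : m.left.left ≫ o'.hom.left = o.hom.left := congrArg CommaMorphism.left (CostructuredArrow.w m)
        have hα : f.map m.left.left ≫ o'.left.hom = o.left.hom := CostructuredArrow.w m.left
        apply ObjectProperty.hom_ext
        apply CategoricalPullback.hom_ext
        · show f.map m.left.left ≫ f.map o'.hom.left = f.map o.hom.left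
          rw [← Functor.map_comp, hk]
        · show f.map m.left.left ≫ h.snd h𝒴 o' = h.snd h𝒴 o
          refine StFib.grpd_cancel h𝒴 ψ ?_ ?_
          · rw [Category.assoc, h.snd_fac, h.snd_fac, hα]
          · rw [Functor.map_comp, h.snd_p, h.snd_p, ← Category.assoc, ← Functor.map_comp, ← Functor.map_comp, hk])
      map_id := fun o => CostructuredArrow.hom_ext _ _ (f.toFunctor.map_id _)
      map_comp := fun k k' => CostructuredArrow.hom_ext _ _ (f.toFunctor.map_comp _ _) }
  w := CategoryTheory.Functor.ext (fun o => f.w_obj o.left.left) fun o o' m => by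
    show 𝒴.p.map (f.map m.left.left) = _ ≫ 𝒳.p.map m.left.left ≫ _
    exact StFib.w_map f m.left.left

theorem EtaData.fullEquiv (h𝒳 : IsFibGrpd 𝒳.p) : FullEquiv (h.theta h𝒴 h𝒵) := by
  refine ⟨isFibGrpd_fibCat (overPi f g y) (isFibGrpd_fibCat f h𝒳 y) x₀, isFibGrpd_fibCat (diag g) h𝒴 h.eta,
    fun {o o'} b => ?_, fun {o o'} a a' ha => ?_, fun z => ?_⟩
  · let n : f.obj o.left.left ⟶ f.obj o'.left.left := b.left
    have hb := congrArg InducedCategory.Hom.hom (CostructuredArrow.w b)
    have h1 : n ≫ f.map o'.hom.left = f.map o.hom.left :=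
      congrArg CategoricalPullback.Hom.fst hb
    have h2 : n ≫ h.snd h𝒴 o' = h.snd h𝒴 o := congrArg CategoricalPullback.Hom.snd hb
    obtain ⟨m, hm, hmk⟩ := StFib.grpd_exists_fac h𝒳 o'.hom.left o.hom.left
      (eqToHom (f.w_obj o.left.left).symm ≫ 𝒴.p.map n ≫ eqToHom (f.w_obj o'.left.left)) (by
        have e := congrArg 𝒴.p.map h1
        erw [Functor.map_comp, StFib.w_map f, StFib.w_map f] at e
        rw [← cancel_epi (eqToHom (f.w_obj o.left.left)), ← cancel_mono (eqToHom (f.w_obj x₀.left).symm)]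
        simp only [Category.assoc, eqToHom_trans_assoc, eqToHom_refl, Category.id_comp] at e ⊢
        exact e)
    have hfm : f.map m = n := by
      refine StFib.grpd_cancel h𝒴 (f.map o'.hom.left) ?_ ?_
      · rw [h1, ← Functor.map_comp, hmk]
      · erw [StFib.w_map f m, hm]
        simp
    let m₁ : o.left ⟶ o'.left := CostructuredArrow.homMk m (by
      show f.map m ≫ o'.left.hom = o.left.hom
      rw [hfm, ← h.snd_fac h𝒴 o', ← Category.assoc, h2, h.snd_fac])
    exact ⟨CostructuredArrow.homMk m₁ (CostructuredArrow.hom_ext _ _ hmk), CostructuredArrow.hom_ext _ _ hfm⟩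
  · refine CostructuredArrow.hom_ext _ _ (CostructuredArrow.hom_ext _ _ ?_)
    have e : f.map a.left.left = f.map a'.left.left := congrArg CommaMorphism.left ha
    refine StFib.map_eq_map_of_p f _ _ e |> fun hp => StFib.grpd_cancel h𝒳 o'.hom.left ?_ hp
    exact (congrArg CommaMorphism.left (CostructuredArrow.w a)).trans
      (congrArg CommaMorphism.left (CostructuredArrow.w a')).symm
  · let w : 𝒴.obj := z.left
    let a₁ : w ⟶ f.obj x₀.left := z.hom.hom.fst
    let a₂ : w ⟶ y' := z.hom.hom.snd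
    have hsq : g.map a₁ ≫ χ.hom = 𝟙 (g.obj w) ≫ g.map a₂ := z.hom.hom.w
    rw [Category.id_comp] at hsq
    obtain ⟨x', e, k, hk⟩ := StFib.grpd_exists_lift h𝒳 x₀.left (𝒴.p.map a₁ ≫ eqToHom (f.w_obj x₀.left))
    have hfk : eqToHom ((f.w_obj x').trans e) ≫ 𝒴.p.map a₁ = 𝒴.p.map (f.map k) := by
      erw [StFib.w_map f k, hk]
      simp
    obtain ⟨i, hi, hik⟩ := StFib.grpd_exists_vert_fac h𝒴 a₁ (f.map k) _ hfk
    let α : f.obj x' ⟶ y := i.hom ≫ a₂ ≫ ψ
    let o : (StMod.fibCat (overPi f g y) x₀).obj := CostructuredArrow.mk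
      (Y := (CostructuredArrow.mk (Y := x') α : (StMod.fibCat f y).obj))
      (CostructuredArrow.homMk k (by
        show g.map (f.map k) ≫ x₀.hom = g.map (i.hom ≫ a₂ ≫ ψ)
        rw [← hik, Functor.map_comp, Functor.map_comp, Functor.map_comp, ← reassoc_of% hsq, ← h.fac]
        simp only [Category.assoc]))
    have hs : i.hom ≫ a₂ = h.snd h𝒴 o := by
      refine StFib.grpd_cancel h𝒴 ψ ?_ ?_
      · rw [Category.assoc, h.snd_fac]
        rfl
      · rw [h.snd_p]
        show _ = 𝒴.p.map (f.map k) ≫ _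
        rw [← hik, Functor.map_comp, Functor.map_comp, Category.assoc]
        congr 1
        obtain ⟨e', he'⟩ := h.base
        have h3 := congrArg 𝒵.p.map hsq
        erw [Functor.map_comp, StFib.w_map g, StFib.w_map g, he'] at h3
        simp only [Category.assoc, eqToHom_trans, eqToHom_trans_assoc, cancel_epi] at h3
        rw [← cancel_mono (eqToHom (g.w_obj y').symm), ← h3]
        simp
    refine ⟨o, CostructuredArrow.homMk i.hom ?_, hi⟩
    apply ObjectProperty.hom_ext
    apply CategoricalPullback.hom_ext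
    · exact hik
    · exact hs

end Groth.Agent.StPush
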