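import Groth.Agent.StPush.CohDesc
import Groth.Agent.AlgSpB.Points
import Groth.Prelude.Def_AlgSp4
import Groth.Prelude.Def_AlgSp3

/-!
Flat surjective morphisms of algebraic spaces give flat affine covers of affine schemes etale over the target.
-/

set_option autoImplicit false
set_option backward.isDefEq.respectTransparency false
set_option backward.isDefEq.respectTransparency.types false

universe u

open CategoryTheory CategoryTheory.Limits AlgebraicGeometry Opposite AlgSp

namespace Groth.Agent.StPush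

variable {S : Scheme.{u}}

theorem exists_flat_affine_chart (M M' : AlgSp.Space S) (g : M'.obj ⟶ M.obj) (hgf : AlgSp.LocP @Flat g)
    (hgs : AlgSp.IsSurjectiveMor g) (E : AlgSp.EtOver M.obj) (z : E.obj.left.left) :
    ∃ (W : Over S) (b₀ : W ⟶ E.obj.left) (e : (AlgSp.yon S).obj W ⟶ M'.obj), AlgSp.RepWith @Etale e ∧
      IsAffine W.left ∧ Flat b₀.left ∧ z ∈ Set.range b₀.left ∧ (AlgSp.yon S).map b₀ ≫ E.obj.hom = e ≫ g := by
  obtain ⟨U, c, hc, hcs⟩ := M'.property.atlas
  have hE := E.property
  let b₁ := hE.1.fst' (c ≫ g)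
  let q := hE.1.snd (c ≫ g)
  have sq := hE.1.isPullback (c ≫ g)
  have hq : RepWith @Etale ((yon S).map q) := (repWith_yon_map_iff _ q).2 (hE.2 _ _ _ sq)
  have ha : RepWith @Etale ((yon S).map q ≫ c) := (repWith_isMultiplicative _).comp_mem _ _ hq hc
  have hfac : ((yon S).map q ≫ c) ≫ g = (yon S).map b₁ ≫ E.obj.hom := by
    rw [Category.assoc, Functor.relativelyRepresentable.map_fst']
    exact sq.w.symm
  have hflat : Flat b₁.left := hgf _ _ b₁ ha hE hfac
  obtain ⟨x', hx'⟩ := hgs (Points.ofPt E.obj.hom z)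
  obtain ⟨u₀, hu₀⟩ := AlgSpB.surjective_ofPt hcs x'
  have e : Points.map E.obj.hom (Points.ofScheme _ z) = Points.map (c ≫ g) (Points.ofScheme _ u₀) := by
    rw [Points.map_ofPt, Points.map_ofPt, Category.id_comp, Category.id_comp, ← Points.map_ofPt, hu₀, hx']
  obtain ⟨p, hp, -⟩ := AlgSpB.exists_of_isPullback sq (Points.ofScheme _ z) (Points.ofScheme _ u₀) e
  let y := Points.toScheme _ p
  have hy : b₁.left y = z := by
    rw [← Functor.relativelyRepresentable.map_fst', ← Points.ofScheme_toScheme _ p, Points.map_ofPt,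
      Category.id_comp] at hp
    have h1 := congrArg (Points.toScheme _) hp
    rw [Points.toScheme_ofScheme] at h1
    refine Eq.trans ?_ h1
    change _ = b₁.left ((hE.1.pullback (c ≫ g)).left.fromSpecResidueField y (IsLocalRing.closedPoint _))
    rw [Scheme.fromSpecResidueField_apply]
  obtain ⟨_, ⟨V, hV, rfl⟩, hyV, -⟩ := (hE.1.pullback (c ≫ g)).left.isBasis_affineOpens.exists_subset_of_mem_open
    (Set.mem_univ y) isOpen_univ
  let VV : (hE.1.pullback (c ≫ g)).left.Opens := V
  haveI : IsAffine (VV : Scheme.{u}) := hV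
  let W : Over S := Over.mk (VV.ι ≫ (hE.1.pullback (c ≫ g)).hom)
  let j : W ⟶ hE.1.pullback (c ≫ g) := Over.homMk VV.ι rfl
  have hj : RepWith @Etale ((yon S).map j) := (repWith_yon_map_iff _ j).2 (show Etale VV.ι from inferInstance)
  refine ⟨W, j ≫ b₁, (yon S).map j ≫ (yon S).map q ≫ c, (repWith_isMultiplicative _).comp_mem _ _ hj ha, hV, ?_,
    ⟨⟨y, hyV⟩, hy⟩, ?_⟩
  · show Flat (VV.ι ≫ b₁.left)
    infer_instance
  · rw [Functor.map_comp, Category.assoc, ← hfac]
    simp only [Category.assoc]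

end Groth.Agent.StPush
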