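import Groth.Agent.StPush.CohAff

/-!
Cohomological affineness of a category with an affine morphism to a cohomologically affine one.
-/

set_option autoImplicit false
set_option linter.style.haveILetI false
set_option linter.unusedSectionVars false
set_option backward.isDefEq.respectTransparency false
set_option backward.isDefEq.respectTransparency.types false

universe u

open CategoryTheory CategoryTheory.Limits AlgebraicGeometry Opposite FibCat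
open Groth.Agent.QCoh Groth.Agent.StDesc Groth.Agent.StGen Groth.Agent.StFib

noncomputable section

namespace Groth.Agent.StPush

variable {S : Scheme.{u}} [IsAffine S] {𝒢 𝒳 : AlgSt.Cat S}

/-- Relative homomorphisms from the structure sheaf with a given value at a terminal object of the fibre. -/
theorem exists_rHom_value {𝒲 : AlgSt.Cat S} (π : 𝒲 ⥤ᵇ 𝒳) (M : StMod.Mod 𝒲) {x : 𝒳.obj}
    (A : AffTerm (StMod.fibCat π x)) (m : Γ(M.obj A.o₀.left, ⊤)) :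
    ∃ ψ : RHom π (StMod.O 𝒲) M x, ∀ o ho (k : o ⟶ A.o₀),
      ev ψ o ho (oneSec o.left) = pb M k.left ⊤ le_top m := by
  refine ⟨⟨fun o => AddMonoidHom.mk'
      (fun r => (show Γ(StMod.sch 𝒲 o.1.left, ⊤) from r) • pb M (Classical.choice (A.exists_hom o.1)).left ⊤ le_top m)
      fun r r' => add_smul (show Γ(StMod.sch 𝒲 o.1.left, ⊤) from r) r' _,
    fun o h r s => mul_smul r (show Γ(StMod.sch 𝒲 o.left, ⊤) from s) _,
    fun o' o c h' h s => ?_⟩, fun o ho k => ?_⟩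
  · let r : Γ(StMod.sch 𝒲 o.left, ⊤) := s
    let x₁ := pb M (Classical.choice (A.exists_hom o)).left ⊤ le_top m
    let x₂ := pb M (Classical.choice (A.exists_hom o')).left ⊤ le_top m
    have hx : pb M c.left ⊤ le_top x₁ = x₂ :=
      (pb_pb M c.left _ _ le_top le_top le_top m).trans
        (pb_congr M (congrArg CommaMorphism.left (A.uniq o' (c ≫ Classical.choice (A.exists_hom o)) _)) ⊤ le_top m)
    show (show Γ(StMod.sch 𝒲 o'.left, ⊤) from pb (StMod.O 𝒲) c.left ⊤ le_top s) • x₂ = pb M c.left ⊤ le_top (r • x₁)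
    rw [pb_smul, hx]
    refine congrArg (· • x₂) ?_
    have h1 : s = r • oneSec o.left := (smul_oneSec o.left s).symm
    have h2 : pb (StMod.O 𝒲) c.left ⊤ le_top (r • oneSec o.left) =
        (StMod.bmap 𝒲 c.left).appLE ⊤ ⊤ le_top r • oneSec o'.left := by
      rw [pb_smul, pb_oneSec]
    rw [h1, h2]
    exact smul_oneSec o'.left _
  · show (1 : Γ(StMod.sch 𝒲 o.left, ⊤)) • pb M (Classical.choice (A.exists_hom o)).left ⊤ le_top m = _
    rw [one_smul]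
    exact pb_congr M (congrArg CommaMorphism.left (A.uniq o _ k)) ⊤ le_top m

set_option maxHeartbeats 3200000 in
/-- An affine morphism to a cohomologically affine category gives a cohomologically affine one. -/
theorem isCohAffine_of_affine (h𝒢 : IsFibGrpd 𝒢.p) (h𝒳 : IsFibGrpd 𝒳.p) (i : 𝒢 ⥤ᵇ 𝒳)
    (hi : AlgSt.RepByAlgSpWith AlgSp.IsAffineMor i) (R : Pres 𝒳)
    (τ : 𝒳 ⥤ᵇ AlgSt.ofSch (Over.mk (𝟙 S))) (hτ : StMod.IsCohAffine τ)
    (σ : 𝒢 ⥤ᵇ AlgSt.ofSch (Over.mk (𝟙 S))) : StMod.IsCohAffine σ := by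
  intro F G u hu E hE t
  let η := StMod.etaOf E
  let 𝒲 := StMod.fibCat σ η
  let j := StMod.fibFst σ η
  let π : 𝒲 ⥤ᵇ 𝒳 := BasedFunctor.comp j i
  have h𝒲 : IsFibGrpd 𝒲.p := isFibGrpd_fibCat σ h𝒢 η
  haveI := R.aff₀
  haveI := R.aff₁
  obtain ⟨A⟩ := exists_affTerm_base h𝒢 h𝒳 i hi σ η hE R.x₀ R.aff₀
  obtain ⟨C₀⟩ := A.finCover
  let F' := (StMod.comapQ j).obj F
  let G' := (StMod.comapQ j).obj G
  let v : F'.obj ⟶ G'.obj := StMod.Mod.comapMap j u.hom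
  obtain ⟨QF⟩ := exists_model (π := π) h𝒲 (StMod.OQ 𝒲).property F'.property C₀
  obtain ⟨QG⟩ := exists_model (π := π) h𝒲 (StMod.OQ 𝒲).property G'.property C₀
  let D : Datum π (StMod.O 𝒲) F'.obj :=
    ⟨h𝒲, h𝒳, (StMod.OQ 𝒲).property, F'.property, R, C₀, isFinPres_O C₀.x₀.left, QF⟩
  let D' := D.change G'.property QG
  obtain ⟨w, hw⟩ := D.exists_Fpost G'.property QG v
  have hflat : Flat (StMod.bmap 𝒳 (𝟙 R.x₀)) := by rw [StMod.bmap_id]; infer_instance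
  let i₀ : D.Base.obj := D.bMk (𝟙 R.x₀)
  let i₁ : D.Base.obj := D.bMk R.q
  let ap : i₁ ⟶ i₀ := InducedCategory.homMk R.p
  let aq : i₁ ⟶ i₀ := InducedCategory.homMk R.q
  haveI : IsAffine (StMod.sch D.Base i₀) := R.aff₀
  -- the composition is surjective at the covering object
  have hsurj : Function.Surjective ((w.app i₀).app ⊤) := by
    intro τ₀
    let ψ₀ : RHom π (StMod.O 𝒲) G'.obj R.x₀ := QG.iota (ov₀ (𝟙 R.x₀)) τ₀
    obtain ⟨m, hm⟩ := hu A.o₀.left.left A.aff (ev ψ₀ A.o₀ A.aff (oneSec A.o₀.left))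
    obtain ⟨ψ₁, hψ₁⟩ := exists_rHom_value π F'.obj A m
    obtain ⟨s, hs⟩ := (D.iota_bij (𝟙 R.x₀) hflat).2 ψ₁
    refine ⟨s, (D'.iota_bij (𝟙 R.x₀) hflat).1 ?_⟩
    refine (hw (𝟙 R.x₀) s).trans ?_
    rw [hs]
    refine RHom.ext fun o ho e => ?_
    obtain ⟨k⟩ := A.exists_hom o
    rw [ev_rPost, ← smul_oneSec o.left e, ev_smul_arg, Scheme.Modules.Hom.app_smul, hψ₁ o ho k]
    refine Eq.trans ?_ (ev_smul_arg ψ₀ o ho _ (oneSec o.left)).symm
    refine congrArg (_ • ·) ?_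
    refine (pb_hom F'.obj v k.left ⊤ le_top m).trans ?_
    refine Eq.trans ?_ ((ev_natural ψ₀ k ho A.aff (oneSec A.o₀.left)).symm.trans
      (congrArg (ev ψ₀ o ho) (pb_oneSec k.left)))
    exact congrArg (pb G'.obj k.left ⊤ le_top) hm
  have hepi₀ : Epi (w.app i₀) := ⟨fun a b hab => hom_ext_top D'.isQCoh_F a b fun s => by
    obtain ⟨s', rfl⟩ := hsurj s
    exact congrArg (fun f => Scheme.Modules.Hom.app f ⊤ s') hab⟩
  -- descent
  let ρ := rigFst (BasedFunctor.id 𝒳) R.x₀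
  have L := locEquiv_rigFst (π := BasedFunctor.id 𝒳) h𝒳 h𝒳 R.cover
  obtain ⟨P, ⟨eP⟩⟩ := exists_descent L D.FQ (invariant_rigFst _)
  obtain ⟨P', ⟨eP'⟩⟩ := exists_descent L D'.FQ (invariant_rigFst _)
  obtain ⟨⟨hfull⟩, -⟩ := comapQ_full_faithful L
  obtain ⟨w', hw'⟩ := hfull (eP.inv ≫ (ObjectProperty.homMk w : D.FQ ⟶ D'.FQ) ≫ eP'.hom)
  let eF : D.F ≅ StMod.Mod.comap ρ P.obj := (ObjectProperty.ι _).mapIso eP
  let eG : D'.F ≅ StMod.Mod.comap ρ P'.obj := (ObjectProperty.ι _).mapIso eP'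
  have hw'' : eF.hom ≫ StMod.Mod.comapMap ρ w'.hom = w ≫ eG.hom := by
    have h1 : StMod.Mod.comapMap ρ w'.hom = eF.inv ≫ w ≫ eG.hom := congrArg (fun m : (StMod.comapQ ρ).obj P ⟶ (StMod.comapQ ρ).obj P' => m.hom) hw'
    rw [h1, Iso.hom_inv_id_assoc]
  have hepiX : Epi (w'.hom.app R.x₀) := by
    have h1 : (eF.hom.app i₀) ≫ (w'.hom.app R.x₀ : P.obj.obj R.x₀ ⟶ P'.obj.obj R.x₀) = w.app i₀ ≫ eG.hom.app i₀ :=
      congrArg (fun f => StMod.Mod.Hom.app f i₀) hw''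
    haveI := hepi₀
    haveI : IsIso (eG.hom.app i₀) := ⟨eG.inv.app i₀, congrArg (fun f => StMod.Mod.Hom.app f i₀) eG.hom_inv_id,
      congrArg (fun f => StMod.Mod.Hom.app f i₀) eG.inv_hom_id⟩
    haveI : Epi (eF.hom.app i₀ ≫ (w'.hom.app R.x₀ : P.obj.obj R.x₀ ⟶ P'.obj.obj R.x₀)) := by
      rw [h1]; exact epi_comp _ _
    exact epi_of_epi (eF.hom.app i₀) _
  have hw'surj : StMod.Mod.IsSurj w'.hom := fun ξ hξ => by
    haveI := epi_app_of_local w'.hom P.property.1 P'.property.1 (x := ξ) fun z => by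
      obtain ⟨y, a, b, hn⟩ := R.cover ξ z
      exact ⟨y, a, hn.1, hn.2.2, epi_app_of_hom w'.hom P.property.1 P'.property.1 b hepiX⟩
    haveI := hξ
    haveI := P.property.2 ξ
    haveI := P'.property.2 ξ
    exact app_surjective_of_epi (w'.hom.app ξ) (isAffineOpen_top _)
  -- the section to be lifted
  let ψ' : RHom π (StMod.O 𝒲) G'.obj R.x₀ :=
    ⟨fun o => AddMonoidHom.mk'
        (fun r => (show Γ(StMod.sch 𝒲 o.1.left, ⊤) from r) •
          (show Γ(G'.obj.obj o.1.left, ⊤) from t.1 o.1.left.left o.1.left.hom))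
        fun r r' => add_smul (show Γ(StMod.sch 𝒲 o.1.left, ⊤) from r) r' _,
      fun o h r s => mul_smul r (show Γ(StMod.sch 𝒲 o.left, ⊤) from s) _,
      fun o' o c h' h s => by
        let r : Γ(StMod.sch 𝒲 o.left, ⊤) := s
        let x₁ : Γ(G'.obj.obj o.left, ⊤) := t.1 o.left.left o.left.hom
        let x₂ : Γ(G'.obj.obj o'.left, ⊤) := t.1 o'.left.left o'.left.hom
        have hx : pb G'.obj c.left ⊤ le_top x₁ = x₂ := by
          refine (pb_comap_fibFst G.obj c.left ⊤ le_top x₁).trans ?_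
          refine Eq.trans ?_ ((t.2 c.left.left o.left.hom).trans
            (congrArg (t.1 o'.left.left) (CostructuredArrow.w c.left)))
          rw [pb_apply]
          exact res_self _ le_top _
        show (show Γ(StMod.sch 𝒲 o'.left, ⊤) from pb (StMod.O 𝒲) c.left ⊤ le_top s) • x₂ =
          pb G'.obj c.left ⊤ le_top (r • x₁)
        rw [pb_smul, hx]
        refine congrArg (· • x₂) ?_
        have h1 : s = r • oneSec o.left := (smul_oneSec o.left s).symm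
        have h2 : pb (StMod.O 𝒲) c.left ⊤ le_top (r • oneSec o.left) =
            (StMod.bmap 𝒲 c.left).appLE ⊤ ⊤ le_top r • oneSec o'.left := by
          rw [pb_smul, pb_oneSec]
        rw [h1, h2]
        exact smul_oneSec o'.left _⟩
  have hψ' : rPull R.p ψ' = rPull R.q ψ' := RHom.ext fun o ho s => rfl
  obtain ⟨τ', hτ'⟩ := (D'.iota_bij (𝟙 R.x₀) hflat).2 ψ'
  have hpair : pb D'.F ap (U := ⊤) ⊤ le_top τ' = pb D'.F aq (U := ⊤) ⊤ le_top τ' :=
    (D'.pb_eq_iff τ').2 (by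
      show rPull R.p (QG.iota (ov₀ (𝟙 R.x₀)) τ') = rPull R.q (QG.iota (ov₀ (𝟙 R.x₀)) τ')
      rw [show QG.iota (ov₀ (𝟙 R.x₀)) τ' = ψ' from hτ']
      exact hψ')
  let CB : FinCover D.Base :=
    ⟨i₀, i₁, ap, aq, R.aff₀, R.aff₁, fun z t => by
        exact ⟨z, 𝟙 z, InducedCategory.homMk z.hom, by rw [StMod.bmap_id]; infer_instance,
          by rw [StMod.bmap_id]; infer_instance, ⟨t, by rw [StMod.bmap_id]; rfl⟩⟩,
      fun z a b t => by
        obtain ⟨y, c, d, hn, hp, hq⟩ := R.cover₂ z.left a.hom b.hom t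
        exact ⟨D.bMk (c ≫ z.hom), InducedCategory.homMk c, InducedCategory.homMk d, hn,
          InducedCategory.hom_ext hp, InducedCategory.hom_ext hq⟩⟩
  obtain ⟨g₀, hg₀⟩ := exists_hom_of_top (StMod.OQ D.Base).property (D'.F.obj i₀)
    ({ toFun := fun r => (show Γ(StMod.sch D.Base i₀, ⊤) from r) • (show Γ(D'.F.obj i₀, ⊤) from τ')
       map_add' := fun r r' => add_smul (show Γ(StMod.sch D.Base i₀, ⊤) from r) r' _
       map_smul' := fun r r' => mul_smul r (show Γ(StMod.sch D.Base i₀, ⊤) from r') _ } :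
      Γ((StMod.O D.Base).obj i₀, ⊤) →ₗ[Γ(StMod.sch D.Base i₀, ⊤)] Γ(D'.F.obj i₀, ⊤))
  have hg₁ : g₀.app ⊤ (oneSec i₀) = τ' := (hg₀ _).trans (one_smul Γ(StMod.sch D.Base i₀, ⊤) _)
  obtain ⟨σ', hσ'⟩ := exists_hom_of_cover (isFibGrpd_rig h𝒳) (StMod.OQ D.Base).property D'.isQCoh_F CB g₀
    fun r w₁ w₂ h1 h2 => by
      have e1 : w₁.app ⊤ (oneSec i₁) = w₂.app ⊤ (oneSec i₁) := by
        have a1 := h1 (U := ⊤) ⊤ le_top (oneSec i₀)
        have a2 := h2 (U := ⊤) ⊤ le_top (oneSec i₀)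
        erw [pb_oneSec, hg₁] at a1 a2
        exact a1.trans (hpair.trans a2.symm)
      rw [← smul_oneSec i₁ r]
      erw [Scheme.Modules.Hom.app_smul, Scheme.Modules.Hom.app_smul, e1]
  obtain ⟨σ₀, hσ₀⟩ := hfull (ObjectProperty.homMk ((StMod.comapOIso ρ).hom ≫ σ' ≫ eG.hom) :
    (StMod.comapQ ρ).obj (StMod.OQ 𝒳) ⟶ (StMod.comapQ ρ).obj P')
  -- lifting through cohomological affineness
  let E₀ : AlgSp.EtOver ((AlgSp.yon S).obj (Over.mk (𝟙 S))) :=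
    AlgSp.EtOver.mk (𝟙 _) (AlgSp.repWith_id @Etale (Over.mk (𝟙 S)))
  let η₀ := StMod.etaOf E₀
  let t₀ : StMod.Mod.RelSect τ P'.obj η₀ :=
    ⟨fun ξ _ => (σ₀.hom.app ξ).app ⊤ (oneSec ξ), fun ξ' ξ φ α => by
      show P'.obj.mapTop φ ((σ₀.hom.app ξ).app ⊤ (oneSec ξ)) = (σ₀.hom.app ξ').app ⊤ (oneSec ξ')
      have := pb_hom (StMod.O 𝒳) σ₀.hom φ (U := ⊤) ⊤ le_top (oneSec ξ)
      rw [pb_oneSec] at this
      rw [pb_apply] at this
      exact ((this.trans (res_self _ le_top _)).symm)⟩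
  obtain ⟨sL, hsL⟩ := hτ w' hw'surj E₀ (inferInstanceAs (IsAffine S)) t₀
  let α₀ : τ.obj R.x₀ ⟶ η₀ := topHom (Over.mkIdTerminal.from _)
  let sP : Γ((StMod.Mod.comap ρ P.obj).obj i₀, ⊤) := sL.1 R.x₀ α₀
  let χ₀ : Γ(D.F.obj i₀, ⊤) := (eF.inv.app i₀).app ⊤ sP
  have hχ : pb D.F ap (U := ⊤) ⊤ le_top χ₀ = pb D.F aq (U := ⊤) ⊤ le_top χ₀ := by
    have key : ∀ a : i₁ ⟶ i₀, pb D.F a (U := ⊤) ⊤ le_top χ₀ =
        (eF.inv.app i₁).app ⊤ (show Γ((StMod.Mod.comap ρ P.obj).obj i₁, ⊤) from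
          sL.1 R.x₁ (topHom (Over.mkIdTerminal.from _))) := by
      intro a
      refine (pb_hom (StMod.Mod.comap ρ P.obj) eF.inv a (U := ⊤) ⊤ le_top sP).symm.trans ?_
      refine congrArg ((eF.inv.app i₁).app ⊤) ?_
      rw [pb_apply, comap_map_rigFst]
      refine Eq.trans (res_self _ le_top _) ((sL.2 a.hom α₀).trans (congrArg (sL.1 R.x₁) ?_))
      exact Stk.EltObj.hom_ext (Over.mkIdTerminal.hom_ext _ _)
    exact (key ap).trans (key aq).symm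
  have hwχ : (w.app i₀).app ⊤ χ₀ = τ' := by
    have e1 : (w'.hom.app R.x₀).app ⊤ (sL.1 R.x₀ α₀) = (σ₀.hom.app R.x₀).app ⊤ (oneSec R.x₀) :=
      congrArg (fun s => s.1 R.x₀ α₀) hsL
    have e2 : StMod.Mod.comapMap ρ σ₀.hom = (StMod.comapOIso ρ).hom ≫ σ' ≫ eG.hom :=
      congrArg (fun m : (StMod.comapQ ρ).obj (StMod.OQ 𝒳) ⟶ (StMod.comapQ ρ).obj P' => m.hom) hσ₀
    have e3 : (eG.hom.app i₀).app ⊤ ((w.app i₀).app ⊤ χ₀) = (w'.hom.app R.x₀).app ⊤ (sL.1 R.x₀ α₀) := by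
      have h1 : eF.inv ≫ w ≫ eG.hom = StMod.Mod.comapMap ρ w'.hom := by rw [← hw'', Iso.inv_hom_id_assoc]
      exact congrArg (fun f : StMod.Mod.comap ρ P.obj ⟶ StMod.Mod.comap ρ P'.obj => (f.app i₀).app ⊤ sP) h1
    have e4 : (σ₀.hom.app R.x₀).app ⊤ (oneSec R.x₀) = (eG.hom.app i₀).app ⊤ τ' := by
      refine (congrArg (fun f : StMod.Mod.comap ρ (StMod.O 𝒳) ⟶ StMod.Mod.comap ρ P'.obj =>
        (f.app i₀).app ⊤ (oneSec R.x₀)) e2).trans ?_
      show (eG.hom.app i₀).app ⊤ ((σ'.app i₀).app ⊤ (((StMod.comapOIso ρ).hom.app i₀).app ⊤ (oneSec R.x₀))) = _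
      refine congrArg ((eG.hom.app i₀).app ⊤) ?_
      rw [show σ'.app i₀ = g₀ from hσ']
      exact hg₁
    have hinj : Function.Injective ((eG.hom.app i₀).app ⊤) := fun a b hab => by
      have hh := congrArg (fun f : D'.F ⟶ D'.F => (f.app i₀).app ⊤) eG.hom_inv_id
      exact (congrArg (fun g => g a) hh).symm.trans ((congrArg ((eG.inv.app i₀).app ⊤) hab).trans
        (congrArg (fun g => g b) hh))
    exact hinj (e3.trans (e1.trans e4))
  let ψ₁ : RHom π (StMod.O 𝒲) F'.obj R.x₀ := QF.iota (ov₀ (𝟙 R.x₀)) χ₀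
  have hpost : rPost v R.x₀ ψ₁ = ψ' :=
    (hw (𝟙 R.x₀) χ₀).symm.trans ((congrArg (QG.iota (ov₀ (𝟙 R.x₀))) hwχ).trans hτ')
  obtain ⟨Φ, hΦ⟩ := D.exists_hom_of_rHom ψ₁ ((D.pb_eq_iff χ₀).1 hχ)
  let val : ∀ o : 𝒲.obj, Γ(F'.obj.obj o, ⊤) := fun o => (Φ.app o).app ⊤ (oneSec o)
  refine ⟨⟨fun ξ α => val (CostructuredArrow.mk (Y := ξ) α), fun ξ' ξ φ α => ?_⟩,
    StMod.Mod.RelSect.ext _ _ _ fun ξ α => ?_⟩
  · let c : CostructuredArrow.mk (Y := ξ') (σ.map φ ≫ α) ⟶ CostructuredArrow.mk (Y := ξ) α :=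
      CostructuredArrow.homMk φ rfl
    have h1 := pb_hom (StMod.O 𝒲) Φ (c : (show 𝒲.obj from CostructuredArrow.mk (Y := ξ') (σ.map φ ≫ α)) ⟶ _)
      (U := ⊤) ⊤ le_top (oneSec _)
    rw [pb_oneSec] at h1
    have h2 := h1.trans (pb_comap_fibFst F.obj c ⊤ le_top _)
    rw [pb_apply] at h2
    exact (h2.trans (res_self _ le_top _)).symm
  · let o : 𝒲.obj := CostructuredArrow.mk (Y := ξ) α
    let x₁ : Γ(G'.obj.obj o, ⊤) := t.1 ξ α
    show (v.app o).app ⊤ (val o) = x₁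
    refine ext_flat G'.property.1 _ _ fun z _ => ?_
    obtain ⟨y, a, b, hn⟩ := R.cover (π.obj o) (eqToHom (StMod.sch_obj_eq π o).symm z)
    obtain ⟨o', c, k, hc, -⟩ := exists_lift_nhd π h𝒲 h𝒳 a z hn
    obtain ⟨o'', c', hy, hn'⟩ := exists_affine_nhd h𝒲 c hc
    refine ⟨o'', c' ≫ c, hn'.1, hn'.2.2, ?_⟩
    let ov : (StMod.fibCat π R.x₀).obj := CostructuredArrow.mk (Y := o'') (π.map c' ≫ k ≫ b)
    have e1 : (v.app o'').app ⊤ (val o'') = (show Γ(G'.obj.obj o'', ⊤) from t.1 o''.left o''.hom) := by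
      have h1 : ev (rPost v R.x₀ ψ₁) ov hy (oneSec o'') = ev ψ' ov hy (oneSec o'') := by rw [hpost]
      rw [← hΦ] at h1
      refine Eq.trans h1 ?_
      exact one_smul Γ(StMod.sch 𝒲 o'', ⊤) (show Γ(G'.obj.obj o'', ⊤) from t.1 o''.left o''.hom)
    show pb G'.obj (c' ≫ c) (U := ⊤) ⊤ le_top _ = pb G'.obj (c' ≫ c) (U := ⊤) ⊤ le_top _
    refine Eq.trans ?_ (Eq.trans e1 ?_)
    · rw [← pb_hom F'.obj v, ← pb_hom (StMod.O 𝒲) Φ, pb_oneSec]
    · refine Eq.trans ?_ (pb_comap_fibFst G.obj (c' ≫ c) ⊤ le_top x₁).symm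
      refine ((t.2 (c' ≫ c).left α).trans (congrArg (t.1 o''.left) (CostructuredArrow.w (c' ≫ c)))).symm.trans ?_
      rw [pb_apply]
      exact (res_self _ le_top _).symm

end Groth.Agent.StPush
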