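import Groth.Agent.StGen.AffinePush
import Groth.Agent.QCoh.Qcqs
import Groth.Agent.QCoh.Pullback
import Groth.Agent.LimTop.PullSec
import Groth.Agent.ZClosLib.H0Spec

/-!
Quasi-coherent modules on the category over an object, given by a quasi-coherent module on its scheme.
-/

set_option autoImplicit false
set_option linter.style.haveILetI false
set_option linter.unusedSectionVars false
set_option backward.isDefEq.respectTransparency false
set_option backward.isDefEq.respectTransparency.types false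

universe u

open CategoryTheory CategoryTheory.Limits AlgebraicGeometry Opposite TopologicalSpace FibCat
open Groth.Agent.QCoh Groth.Agent.StDesc Groth.Agent.StGen
open scoped TensorProduct

noncomputable section

namespace Groth.Agent.StPush

/-- Every module over the functions of an affine scheme is the module of global sections of a
quasi-coherent module. -/
theorem exists_module_top (X : Scheme.{u}) [IsAffine X] (H : Type u) [AddCommGroup H] [Module Γ(X, ⊤) H] :
    ∃ T : X.Modules, T.IsQuasicoherent ∧ ∃ e : H →ₗ[Γ(X, ⊤)] Γ(T, ⊤), Function.Bijective e := by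
  let M : ModuleCat.{u} Γ(X, ⊤) := ModuleCat.of _ H
  let T₀ : (Spec Γ(X, ⊤)).Modules := tilde M
  let g := X.isoSpec.inv
  haveI : T₀.IsQuasicoherent := inferInstance
  refine ⟨(Scheme.Modules.pushforward g).obj T₀, QCoh.isQuasicoherent_pushforward g T₀,
    { toFun := fun m => (tilde.toOpen M ⊤).hom m
      map_add' := fun a b => map_add (tilde.toOpen M ⊤).hom a b
      map_smul' := fun r m => ?_ }, ?_⟩
  · refine ((map_smul (tilde.toOpen M ⊤).hom r m).trans (ZClosLib.H0Spec.smul_top T₀ _ _)).trans ?_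
    show _ = (show Γ(Spec Γ(X, ⊤), ⊤) from g.app ⊤ r) • (show Γ(T₀, ⊤) from (tilde.toOpen M ⊤).hom m)
    have e : g.app ⊤ = (Scheme.ΓSpecIso Γ(X, ⊤)).inv := by
      rw [← cancel_epi (Scheme.ΓSpecIso Γ(X, ⊤)).hom, Iso.hom_inv_id, ← Scheme.toSpecΓ_appTop]
      show X.isoSpec.hom.appTop ≫ g.appTop = _
      rw [← Scheme.Hom.comp_appTop, Iso.inv_hom_id]
      simp
    rw [e]
    rfl
  · exact @ConcreteCategory.bijective_of_isIso _ _ _ _ _ _ _ _ _ (tilde.isIso_toOpen_top (M := M))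

/-- Morphisms out of a pullback are determined on pulled back sections. -/
theorem pullback_hom_ext {X Y : Scheme.{u}} (f : X ⟶ Y) {T : Y.Modules} {Q : X.Modules}
    (m₁ m₂ : (Scheme.Modules.pullback f).obj T ⟶ Q)
    (h : ∀ (U : Y.Opens) (s : Γ(T, U)),
      m₁.app (f ⁻¹ᵁ U) (LimTop.unitSec f T le_rfl s) = m₂.app (f ⁻¹ᵁ U) (LimTop.unitSec f T le_rfl s)) :
    m₁ = m₂ := by
  apply ((Scheme.Modules.pullbackPushforwardAdjunction f).homEquiv _ _).injective
  rw [Adjunction.homEquiv_unit, Adjunction.homEquiv_unit]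
  apply Scheme.Modules.hom_ext
  intro U
  refine ConcreteCategory.hom_ext _ _ fun (s : Γ(T, U)) => ?_
  have h' := h U s
  have e1 : LimTop.unitSec f T (le_rfl : f ⁻¹ᵁ U ≤ _) s =
      ((Scheme.Modules.pullbackPushforwardAdjunction f).unit.app T).app U s := res_self _ le_rfl _
  rw [e1] at h'
  exact h'

/-- The morphism adjoint to a morphism, on pulled back sections. -/
theorem adjunct_app {X Y : Scheme.{u}} (f : X ⟶ Y) {T : Y.Modules} {Q : X.Modules}
    (t : T ⟶ (Scheme.Modules.pushforward f).obj Q) {U : Y.Opens} {W : X.Opens} (hW : W ≤ f ⁻¹ᵁ U) (s : Γ(T, U)) :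
    (((Scheme.Modules.pullbackPushforwardAdjunction f).homEquiv _ _).symm t).app W (LimTop.unitSec f T hW s) =
      res Q hW (show Γ(Q, f ⁻¹ᵁ U) from t.app U s) := by
  obtain ⟨v, rfl⟩ := ((Scheme.Modules.pullbackPushforwardAdjunction f).homEquiv _ _).surjective t
  rw [Equiv.symm_apply_apply, LimTop.unitSec_apply, app_res, Adjunction.homEquiv_unit]
  rfl

section Trans

variable {X'' X' X Y : Scheme.{u}} (T : Y.Modules)

/-- The comparison of pullbacks along composable morphisms, in pushforward form. -/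
def pullTrans {f : X ⟶ Y} {f' : X' ⟶ Y} {h : X' ⟶ X} (e : f' = h ≫ f) :
    (Scheme.Modules.pullback f).obj T ⟶ (Scheme.Modules.pushforward h).obj ((Scheme.Modules.pullback f').obj T) :=
  ((Scheme.Modules.pullbackPushforwardAdjunction f).homEquiv _ _).symm
    ((Scheme.Modules.pullbackPushforwardAdjunction f').unit.app T ≫
      (Scheme.Modules.pushforwardCongr e).hom.app _ ≫ (Scheme.Modules.pushforwardComp h f).inv.app _)

theorem pullTrans_app {f : X ⟶ Y} {f' : X' ⟶ Y} {h : X' ⟶ X} (e : f' = h ≫ f) {U : Y.Opens} {W : X.Opens}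
    (hW : W ≤ f ⁻¹ᵁ U) (s : Γ(T, U)) :
    (pullTrans T e).app W (LimTop.unitSec f T hW s) =
      LimTop.unitSec f' T (show h ⁻¹ᵁ W ≤ f' ⁻¹ᵁ U by rw [e]; exact h.preimage_mono hW) s := by
  subst e
  refine (adjunct_app f _ hW s).trans ?_
  rw [Scheme.Modules.Hom.comp_app, Scheme.Modules.Hom.comp_app, Scheme.Modules.pushforwardCongr_hom_app_app,
    Scheme.Modules.pushforwardComp_inv_app_app]
  exact res_res ((Scheme.Modules.pullback (h ≫ f)).obj T) (le_refl _) (h.preimage_mono hW) _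

theorem pullTrans_id {f : X ⟶ Y} (e : f = 𝟙 X ≫ f) :
    pullTrans T e ≫ (Scheme.Modules.pushforwardId X).hom.app _ = 𝟙 _ := by
  refine pullback_hom_ext f _ _ fun U s => ?_
  show (pullTrans T e).app _ (LimTop.unitSec f T le_rfl s) = LimTop.unitSec f T le_rfl s
  rw [pullTrans_app]
  rfl

theorem pullTrans_comp {f : X ⟶ Y} {f' : X' ⟶ Y} {f'' : X'' ⟶ Y} {h : X' ⟶ X} {k : X'' ⟶ X'}
    (e : f' = h ≫ f) (e' : f'' = k ≫ f') (e'' : f'' = (k ≫ h) ≫ f) :
    pullTrans T e'' = pullTrans T e ≫ (Scheme.Modules.pushforward h).map (pullTrans T e') ≫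
      (Scheme.Modules.pushforwardComp k h).hom.app _ := by
  refine pullback_hom_ext f _ _ fun U s => ?_
  show (pullTrans T e'').app _ (LimTop.unitSec f T le_rfl s) =
    (pullTrans T e').app _ ((pullTrans T e).app _ (LimTop.unitSec f T le_rfl s))
  rw [pullTrans_app, pullTrans_app, pullTrans_app]
  rfl

theorem res_pullTrans {f : X ⟶ Y} {f' : X' ⟶ Y} {h : X' ⟶ X} (e : f' = h ≫ f) {U : Y.Opens} {W : X.Opens}
    {V : X'.Opens} (hW : W ≤ f ⁻¹ᵁ U) (hV : V ≤ h ⁻¹ᵁ W) (hV' : V ≤ f' ⁻¹ᵁ U) (s : Γ(T, U)) :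
    res ((Scheme.Modules.pullback f').obj T) hV ((pullTrans T e).app W (LimTop.unitSec f T hW s)) =
      LimTop.unitSec f' T hV' s := by
  rw [pullTrans_app]
  exact LimTop.res_unitSec _ _ _ _ _

theorem bcRaw_pullTrans [T.IsQuasicoherent] {f : X ⟶ Y} {f' : X' ⟶ Y} {h : X' ⟶ X} (e : f' = h ≫ f)
    (hU : IsAffineOpen (⊤ : Y.Opens)) {W : X.Opens} {V : X'.Opens} (hle : V ≤ h ⁻¹ᵁ W) (hW : IsAffineOpen W)
    (hV : IsAffineOpen V) : BCRaw h (pullTrans T e) W V hle := by
  let A := Γ(Y, ⊤)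
  let B := Γ(X, W)
  let C := Γ(X', V)
  let P := (Scheme.Modules.pullback f).obj T
  let P' := (Scheme.Modules.pullback f').obj T
  have hB : W ≤ f ⁻¹ᵁ ⊤ := le_top
  have hC : V ≤ f' ⁻¹ᵁ ⊤ := le_top
  letI : Algebra A B := (f.appLE ⊤ W hB).hom.toAlgebra
  letI : Algebra B C := (h.appLE W V hle).hom.toAlgebra
  letI : Algebra A C := (f'.appLE ⊤ V hC).hom.toAlgebra
  haveI : IsScalarTower A B C := IsScalarTower.of_algebraMap_eq fun r =>
    (appLE_comp_apply _ _ e hB hle hC r).symm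
  letI : Module A Γ(P, W) := Module.compHom _ (f.appLE ⊤ W hB).hom
  haveI : IsScalarTower A B Γ(P, W) := IsScalarTower.of_algebraMap_smul fun _ _ => rfl
  letI : Module A Γ(P', V) := Module.compHom _ (f'.appLE ⊤ V hC).hom
  haveI : IsScalarTower A C Γ(P', V) := IsScalarTower.of_algebraMap_smul fun _ _ => rfl
  letI : Module B Γ(P', V) := Module.compHom _ (h.appLE W V hle).hom
  haveI : IsScalarTower B C Γ(P', V) := IsScalarTower.of_algebraMap_smul fun _ _ => rfl
  haveI : IsScalarTower A B Γ(P', V) := IsScalarTower.of_algebraMap_smul fun r m => by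
    show h.appLE W V hle (f.appLE ⊤ W hB r) • m = f'.appLE ⊤ V hC r • m
    rw [appLE_comp_apply _ _ e hB hle hC r]
  have hx : IsBaseChange B (LimTop.unitSecLin f T hB) := LimTop.isBaseChange_unitSec f T hB hU hW
  have hy : IsBaseChange C (LimTop.unitSecLin f' T hC) := LimTop.isBaseChange_unitSec f' T hC hU hV
  have hcomp : ((rawLin h (pullTrans T e) W V hle).restrictScalars A).comp (LimTop.unitSecLin f T hB) =
      LimTop.unitSecLin f' T hC :=
    LinearMap.ext fun s => res_pullTrans T e hB hle hC s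
  exact IsBaseChange.of_comp hx (hcomp ▸ hy)

end Trans

variable {S : Scheme.{u}} {𝒵 : AlgSt.Cat S} {x₀ : 𝒵.obj}

/-- The category of objects over `x₀`. -/
abbrev Over₀ (x₀ : 𝒵.obj) : AlgSt.Cat S := StMod.fibCat (BasedFunctor.id 𝒵) x₀

/-- The map of schemes to the scheme of `x₀`. -/
abbrev toBase (o : (Over₀ x₀).obj) : StMod.sch (Over₀ x₀) o ⟶ StMod.sch 𝒵 x₀ := StMod.bmap 𝒵 o.hom

theorem bmap_toBase {o' o : (Over₀ x₀).obj} (a : o' ⟶ o) :
    toBase o' = StMod.bmap (Over₀ x₀) a ≫ toBase o := by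
  have w : a.left ≫ o.hom = o'.hom := CostructuredArrow.w a
  show StMod.bmap 𝒵 o'.hom = StMod.bmap 𝒵 a.left ≫ StMod.bmap 𝒵 o.hom
  rw [← w]
  exact StMod.bmap_comp a.left o.hom

variable (T : (StMod.sch 𝒵 x₀).Modules)

/-- The quasi-coherent module on the objects over `x₀` given by a module on its scheme. -/
def pullMod : StMod.Mod (Over₀ x₀) where
  obj o := (Scheme.Modules.pullback (toBase o)).obj T
  map a _ hg := pullTrans T ((bmap_toBase a).trans (by rw [hg]))
  map_id o := pullTrans_id T _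
  map_comp {o'' o' o} c a {h g} hh hg := pullTrans_comp T _ _ _

theorem pb_pullMod {o' o : (Over₀ x₀).obj} (a : o' ⟶ o) {U : (StMod.sch 𝒵 x₀).Opens}
    {W : (StMod.sch (Over₀ x₀) o).Opens} (V : (StMod.sch (Over₀ x₀) o').Opens) (hW : W ≤ toBase o ⁻¹ᵁ U)
    (hV : V ≤ StMod.bmap (Over₀ x₀) a ⁻¹ᵁ W) (s : Γ(T, U)) :
    pb (pullMod T) a V hV (LimTop.unitSec (toBase o) T hW s) =
      LimTop.unitSec (toBase o') T (hV.trans (by rw [bmap_toBase a]; exact Scheme.Hom.preimage_mono _ hW)) s := by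
  exact res_pullTrans T ((bmap_toBase a).trans rfl) hW hV _ s

/-- Pulled back global sections. -/
def gen (o : (Over₀ x₀).obj) : Γ(T, ⊤) →+ Γ((pullMod T).obj o, ⊤) :=
  LimTop.unitSec (toBase o) T (U := ⊤) (W := ⊤) le_top

theorem gen_smul (o : (Over₀ x₀).obj) (r : Γ(StMod.sch 𝒵 x₀, ⊤)) (s : Γ(T, ⊤)) :
    gen T o (r • s) = (toBase o).appLE ⊤ ⊤ le_top r • gen T o s :=
  LimTop.unitSec_smul (toBase o) T le_top r s

theorem pb_gen {o' o : (Over₀ x₀).obj} (a : o' ⟶ o) (s : Γ(T, ⊤)) :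
    pb (pullMod T) a ⊤ le_top (gen T o s) = gen T o' s :=
  pb_pullMod T a ⊤ le_top le_top s

theorem isQCoh_pullMod [T.IsQuasicoherent] [IsAffine (StMod.sch 𝒵 x₀)] :
    StMod.isQCoh (Over₀ x₀) (pullMod T) := by
  refine isQCoh_of_bc _ fun {y x} a W V h hW hV => ?_
  exact bcRaw_pullTrans T ((bmap_toBase a).trans rfl) (isAffineOpen_top _) h hW hV

end Groth.Agent.StPush
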