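import Groth.Agent.StPush.SemiLift

/-!
# Averaging along a semilinear retraction
-/

set_option autoImplicit false
set_option linter.style.haveILetI false
set_option backward.isDefEq.respectTransparency false
set_option backward.isDefEq.respectTransparency.types false
set_option maxHeartbeats 800000

universe u

open CategoryTheory CategoryTheory.Limits AlgebraicGeometry FibCat Groth.Agent.StDesc

namespace Groth.Agent.StPush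

variable {S : Scheme.{u}} {𝒳 : AlgSt.Cat S} {M : StMod.Mod 𝒳}

theorem average_of (hM : StMod.isQCoh 𝒳 M) {x₀ x₁ x₂ : 𝒳.obj} (p q : x₁ ⟶ x₀) (π u v : x₂ ⟶ x₁)
    (h₀ : IsAffine (StMod.sch 𝒳 x₀)) (h₁ : IsAffine (StMod.sch 𝒳 x₁)) (h₂ : IsAffine (StMod.sch 𝒳 x₂))
    (eA : v ≫ p = π ≫ p) (eB : u ≫ p = π ≫ q) (eC : u ≫ q = v ≫ q)
    (γ₀ : Γ(StMod.sch 𝒳 x₁, ⊤) →+ Γ(StMod.sch 𝒳 x₀, ⊤))
    (γ₁ : Γ(StMod.sch 𝒳 x₂, ⊤) →+ Γ(StMod.sch 𝒳 x₁, ⊤))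
    (l₀ : ∀ r f, γ₀ ((StMod.bmap 𝒳 p).appTop r * f) = r * γ₀ f) (one₀ : γ₀ 1 = 1)
    (l₁ : ∀ r f, γ₁ ((StMod.bmap 𝒳 π).appTop r * f) = r * γ₁ f)
    (nu : ∀ f, γ₁ ((StMod.bmap 𝒳 u).appTop f) = (StMod.bmap 𝒳 q).appTop (γ₀ f))
    (nv : ∀ f, γ₁ ((StMod.bmap 𝒳 v).appTop f) = (StMod.bmap 𝒳 p).appTop (γ₀ f)) :
    ∃ γM : Γ(M.obj x₁, ⊤) →+ Γ(M.obj x₀, ⊤),
    (∀ f m, γM (f • pb M p (U := ⊤) ⊤ le_top m) = γ₀ f • m) ∧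
    (∀ m, γM (pb M p (U := ⊤) ⊤ le_top m) = m) ∧
    (∀ m, pb M p (U := ⊤) ⊤ le_top (γM (pb M q (U := ⊤) ⊤ le_top m)) =
      pb M q (U := ⊤) ⊤ le_top (γM (pb M q (U := ⊤) ⊤ le_top m))) := by
  obtain ⟨hl₀, hext₀⟩ := semiLift hM p h₁ h₀
  obtain ⟨γM, hγM⟩ := hl₀ γ₀ l₀
  obtain ⟨hl₁, -⟩ := semiLift hM π h₂ h₁
  obtain ⟨γM₁, hγM₁⟩ := hl₁ γ₁ l₁
  have key : ∀ (e : x₂ ⟶ x₁) (d : x₁ ⟶ x₀), e ≫ p = π ≫ d →
      (∀ f, γ₁ ((StMod.bmap 𝒳 e).appTop f) = (StMod.bmap 𝒳 d).appTop (γ₀ f)) →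
      (pb M d (U := ⊤) ⊤ le_top).comp γM = γM₁.comp (pb M e (U := ⊤) ⊤ le_top) := by
    intro e d hed hn
    refine hext₀ _ _ fun f m => ?_
    show pb M d (U := ⊤) ⊤ le_top (γM (f • _)) = γM₁ (pb M e (U := ⊤) ⊤ le_top (f • _))
    rw [hγM, pb_smul, pb_smul, appLE_top_eq_appTop, appLE_top_eq_appTop, ← hn,
      pb_pb M e p (U := ⊤) (V := ⊤) ⊤ le_top le_top le_top,
      pb_congr M hed ⊤ le_top, ← pb_pb M π d (U := ⊤) (V := ⊤) ⊤ le_top le_top le_top, hγM₁]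
  refine ⟨γM, hγM, fun m => ?_, fun m => ?_⟩
  · have h := hγM 1 m
    rw [one_smul, one₀, one_smul] at h
    exact h
  · have hu' := DFunLike.congr_fun (key u q eB nu) (pb M q (U := ⊤) ⊤ le_top m)
    have hv' := DFunLike.congr_fun (key v p eA nv) (pb M q (U := ⊤) ⊤ le_top m)
    refine hv'.trans (Eq.trans (congrArg γM₁ ?_) hu'.symm)
    rw [pb_pb M v q (U := ⊤) (V := ⊤) ⊤ le_top le_top le_top, pb_pb M u q (U := ⊤) (V := ⊤) ⊤ le_top le_top le_top]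
    exact (pb_congr M eC ⊤ le_top m).symm

end Groth.Agent.StPush
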