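import Groth.Agent.StPush.Adj
import Groth.Agent.StPush.AffTerm
import Groth.Agent.StPush.FullEquiv
import Groth.Agent.FlatFunSheaf.Basic
import Groth.Prelude.Def_StMod2

/-!
Cohomological affineness over an affine base is inherited along affine morphisms.
-/

set_option autoImplicit false
set_option linter.style.haveILetI false
set_option linter.unusedSectionVars false
set_option backward.isDefEq.respectTransparency false
set_option backward.isDefEq.respectTransparency.types false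

universe u

open CategoryTheory CategoryTheory.Limits AlgebraicGeometry Opposite FibCat
open Groth.Agent.QCoh Groth.Agent.StDesc Groth.Agent.StGen Groth.Agent.StFib

noncomputable section

namespace Groth.Agent.StPush

variable {S : Scheme.{u}}

section Transfer

variable {𝒜 ℬ : AlgSt.Cat S} {θ : 𝒜 ⥤ᵇ ℬ}

theorem bmap_map_eq (θ : 𝒜 ⥤ᵇ ℬ) {y x : 𝒜.obj} (a : y ⟶ x) :
    StMod.bmap ℬ (θ.map a) =
      eqToHom (StMod.sch_obj_eq θ y) ≫ StMod.bmap 𝒜 a ≫ eqToHom (StMod.sch_obj_eq θ x).symm := by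
  rw [StGen.bmap_eqToHom θ a, eqToHom_trans_assoc, eqToHom_refl, Category.id_comp]

theorem flat_map (θ : 𝒜 ⥤ᵇ ℬ) {y x : 𝒜.obj} (a : y ⟶ x) (h : Flat (StMod.bmap 𝒜 a)) :
    Flat (StMod.bmap ℬ (θ.map a)) := by
  rw [bmap_map_eq]; infer_instance

/-- The image of a neighbourhood followed by a vertical morphism. -/
theorem isNhd_image (θ : 𝒜 ⥤ᵇ ℬ) {o y : 𝒜.obj} {z : ℬ.obj} (φ : θ.obj o ⟶ z) [IsIso φ]
    {t : StMod.sch 𝒜 o} {w : StMod.sch ℬ z}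
    (ht : StMod.bmap ℬ φ (eqToHom (StMod.sch_obj_eq θ o).symm t) = w) {a : y ⟶ o} (h : IsNhd a t) :
    IsNhd (θ.map a ≫ φ) w := by
  obtain ⟨h1, h2, t', ht'⟩ := h
  have : IsIso (StMod.bmap ℬ φ) := ⟨StMod.bmap ℬ (inv φ),
    by rw [← StMod.bmap_comp, IsIso.hom_inv_id, StMod.bmap_id],
    by rw [← StMod.bmap_comp, IsIso.inv_hom_id, StMod.bmap_id]⟩
  refine ⟨?_, ?_, eqToHom (StMod.sch_obj_eq θ y).symm t', ?_⟩
  · rw [StMod.bmap_comp, bmap_map_eq]; infer_instance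
  · rw [StMod.bmap_comp, bmap_map_eq]; infer_instance
  · rw [← ht, ← ht', StMod.bmap_comp]
    show StMod.bmap ℬ φ ((eqToHom (StMod.sch_obj_eq θ y).symm ≫ StMod.bmap ℬ (θ.map a)) t') =
      StMod.bmap ℬ φ ((StMod.bmap 𝒜 a ≫ eqToHom (StMod.sch_obj_eq θ o).symm) t')
    rw [StGen.bmap_eqToHom θ a]

/-- Presentations are carried along equivalences. -/
theorem FullEquiv.exists_pres (H : FullEquiv θ) (R : Pres 𝒜) : Nonempty (Pres ℬ) := by
  have lift : ∀ (z : ℬ.obj) (w : StMod.sch ℬ z), ∃ (o : 𝒜.obj) (φ : θ.obj o ⟶ z) (t : StMod.sch 𝒜 o),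
      IsIso φ ∧ StMod.bmap ℬ φ (eqToHom (StMod.sch_obj_eq θ o).symm t) = w := fun z w => by
    obtain ⟨o, φ, hφ⟩ := H.surj z
    haveI := StFib.Vert.isIso H.fibB hφ
    refine ⟨o, φ, eqToHom (StMod.sch_obj_eq θ o) (StMod.bmap ℬ (inv φ) w), inferInstance, ?_⟩
    show StMod.bmap ℬ φ ((eqToHom (StMod.sch_obj_eq θ o) ≫ eqToHom (StMod.sch_obj_eq θ o).symm)
      (StMod.bmap ℬ (inv φ) w)) = w
    rw [eqToHom_trans, eqToHom_refl]
    show (StMod.bmap ℬ (inv φ) ≫ StMod.bmap ℬ φ) w = w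
    rw [← StMod.bmap_comp, IsIso.inv_hom_id, StMod.bmap_id]
    rfl
  refine ⟨{ x₀ := θ.obj R.x₀, x₁ := θ.obj R.x₁, p := θ.map R.p, q := θ.map R.q,
            aff₀ := (StMod.sch_obj_eq θ R.x₀).symm ▸ R.aff₀,
            aff₁ := (StMod.sch_obj_eq θ R.x₁).symm ▸ R.aff₁,
            flat_p := flat_map θ R.p R.flat_p, flat_q := flat_map θ R.q R.flat_q,
            cover := fun z w => ?_, cover₂ := fun z a b w => ?_, cover₃ := fun z d d' hp hq w => ?_ }⟩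
  · obtain ⟨o, φ, t, hφ, ht⟩ := lift z w
    obtain ⟨y, a, b, hn⟩ := R.cover o t
    exact ⟨θ.obj y, θ.map a ≫ φ, θ.map b, isNhd_image θ φ ht hn⟩
  · obtain ⟨o, φ, t, hφ, ht⟩ := lift z w
    obtain ⟨a₀, ha⟩ := H.full (φ ≫ a)
    obtain ⟨b₀, hb⟩ := H.full (φ ≫ b)
    obtain ⟨y, c, d, hn, hp, hq⟩ := R.cover₂ o a₀ b₀ t
    refine ⟨θ.obj y, θ.map c ≫ φ, θ.map d, isNhd_image θ φ ht hn, ?_, ?_⟩
    · rw [Category.assoc, ← ha, ← Functor.map_comp, hp, Functor.map_comp]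
    · rw [Category.assoc, ← hb, ← Functor.map_comp, hq, Functor.map_comp]
  · obtain ⟨o, φ, t, hφ, ht⟩ := lift z w
    obtain ⟨d₀, hd⟩ := H.full (φ ≫ d)
    obtain ⟨d₀', hd'⟩ := H.full (φ ≫ d')
    have e : ∀ (r : R.x₁ ⟶ R.x₀), d ≫ θ.map r = d' ≫ θ.map r → d₀ ≫ r = d₀' ≫ r := fun r hr =>
      H.faithful _ _ (by rw [Functor.map_comp, Functor.map_comp, hd, hd', Category.assoc, Category.assoc, hr])
    obtain ⟨y, c, x₂, hx₂, g, g', k, hn, h1, h2, h3, h4, h5⟩ := R.cover₃ o d₀ d₀' (e _ hp) (e _ hq) t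
    refine ⟨θ.obj y, θ.map c ≫ φ, θ.obj x₂, (StMod.sch_obj_eq θ x₂).symm ▸ hx₂, θ.map g, θ.map g', θ.map k,
      isNhd_image θ φ ht hn, ?_, ?_, flat_map θ g h3, ?_, ?_⟩
    · rw [← Functor.map_comp, h1, Functor.map_comp]
    · rw [← Functor.map_comp, h2, Functor.map_comp]
    · rw [Category.assoc, ← hd, ← Functor.map_comp, h4, Functor.map_comp]
    · rw [Category.assoc, ← hd', ← Functor.map_comp, h5, Functor.map_comp]

end Transfer

section Epi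

variable {𝒵 : AlgSt.Cat S} {G H : StMod.Mod 𝒵} (v : G ⟶ H) (hG : G.IsCartesian) (hH : H.IsCartesian)
include hG hH

theorem app_eq_pullback {y x : 𝒵.obj} (φ : y ⟶ x) :
    ∃ (eG : (Scheme.Modules.pullback (StMod.bmap 𝒵 φ)).obj (G.obj x) ≅ G.obj y)
      (eH : (Scheme.Modules.pullback (StMod.bmap 𝒵 φ)).obj (H.obj x) ≅ H.obj y),
      v.app y = eG.inv ≫ (Scheme.Modules.pullback (StMod.bmap 𝒵 φ)).map (v.app x) ≫ eH.hom := by
  obtain ⟨eG, hG'⟩ := exists_pb_eq hG φ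
  obtain ⟨eH, hH'⟩ := exists_pb_eq hH φ
  refine ⟨eG, eH, ext_of_pb hG φ _ _ fun U s => ?_⟩
  rw [pb_hom G v φ _ le_rfl s, hH' _ le_rfl, ← LimTop.unitSec_map (StMod.bmap 𝒵 φ) (G.obj x) le_rfl (v.app x) s,
    hG' _ le_rfl s]
  show _ = eH.hom.app _ (((Scheme.Modules.pullback (StMod.bmap 𝒵 φ)).map (v.app x)).app _
    ((eG.hom ≫ eG.inv).app _ (LimTop.unitSec (StMod.bmap 𝒵 φ) (G.obj x) le_rfl s)))
  rw [Iso.hom_inv_id]
  rfl

theorem epi_app_of_hom {y x : 𝒵.obj} (φ : y ⟶ x) (h : Epi (v.app x)) : Epi (v.app y) := by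
  obtain ⟨eG, eH, e⟩ := app_eq_pullback v hG hH φ
  haveI := (Scheme.Modules.pullbackPushforwardAdjunction (StMod.bmap 𝒵 φ)).leftAdjoint_preservesColimits
  rw [e]
  infer_instance

theorem epi_app_of_local {x : 𝒵.obj} (h : ∀ t : StMod.sch 𝒵 x, ∃ (y : 𝒵.obj) (φ : y ⟶ x),
    Flat (StMod.bmap 𝒵 φ) ∧ t ∈ Set.range (StMod.bmap 𝒵 φ) ∧ Epi (v.app y)) : Epi (v.app x) := by
  choose y φ hfl hr hepi using h
  haveI := hfl
  refine FlatFunSheaf.epi_of_pullback (fun t => StMod.bmap 𝒵 (φ t)) (fun t => ⟨t, hr t⟩) _ fun t => ?_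
  obtain ⟨eG, eH, e⟩ := app_eq_pullback v hG hH (φ t)
  haveI := hepi t
  have e' : (Scheme.Modules.pullback (StMod.bmap 𝒵 (φ t))).map (v.app x) = eG.hom ≫ v.app (y t) ≫ eH.inv := by
    rw [e]; simp
  rw [e']
  infer_instance

end Epi

section Top

instance (T : Over S) : Subsingleton (((AlgSp.yon S).obj (Over.mk (𝟙 S))).obj.obj (op T)) :=
  ⟨fun _ _ => ULift.ext _ _ (Over.mkIdTerminal.hom_ext _ _)⟩

/-- Morphisms of the category of the base are morphisms over the base. -/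
def topHom {a b : (AlgSt.ofSch (Over.mk (𝟙 S))).obj} (g : a.base ⟶ b.base) : a ⟶ b :=
  ⟨g, Subsingleton.elim _ _⟩

theorem fullEquiv_fibFst_ofSch {𝒳 : AlgSt.Cat S} (h𝒳 : IsFibGrpd 𝒳.p)
    (τ : 𝒳 ⥤ᵇ AlgSt.ofSch (Over.mk (𝟙 S))) (η₀ : (AlgSt.ofSch (Over.mk (𝟙 S))).obj) (hη₀ : η₀.base = Over.mk (𝟙 S)) :
    FullEquiv (StMod.fibFst τ η₀) := by
  have huniq : ∀ {a : (AlgSt.ofSch (Over.mk (𝟙 S))).obj} (f g : a ⟶ η₀), f = g := fun f g =>
    Stk.EltObj.hom_ext ((cancel_mono (eqToHom hη₀)).1 (Over.mkIdTerminal.hom_ext _ _))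
  refine ⟨isFibGrpd_fibCat τ h𝒳 _, h𝒳, fun {o o'} b => ⟨CostructuredArrow.homMk b (huniq _ _), rfl⟩,
    fun {o o'} a a' h => CostructuredArrow.hom_ext _ _ h, fun z => ?_⟩
  exact ⟨CostructuredArrow.mk (Y := z) (topHom (Over.mkIdTerminal.from _ ≫ eqToHom hη₀.symm)), 𝟙 z, rfl,
    𝒳.p.map_id z⟩

set_option maxHeartbeats 800000 in
/-- Fibres of an affine morphism restricted over an affine object of the base have terminal objects. -/
theorem exists_affTerm_base [IsAffine S] {𝒢 𝒳 : AlgSt.Cat S} (h𝒢 : IsFibGrpd 𝒢.p) (h𝒳 : IsFibGrpd 𝒳.p)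
    (i : 𝒢 ⥤ᵇ 𝒳) (hi : AlgSt.RepByAlgSpWith AlgSp.IsAffineMor i)
    (σ : 𝒢 ⥤ᵇ AlgSt.ofSch (Over.mk (𝟙 S))) (η : (AlgSt.ofSch (Over.mk (𝟙 S))).obj) (hη : IsAffine η.base.left)
    (x₀ : 𝒳.obj) (hx₀ : IsAffine (StMod.sch 𝒳 x₀)) :
    Nonempty (AffTerm (StMod.fibCat (BasedFunctor.comp (StMod.fibFst σ η) i) x₀)) := by
  obtain ⟨A⟩ := exists_affTerm h𝒳 i hi x₀ hx₀
  haveI := hη
  haveI : IsAffine (𝒢.p.obj A.o₀.left).left := A.aff
  let T : Over S := 𝒢.p.obj A.o₀.left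
  let B : Over S := η.base
  let P : Over S := Over.mk (pullback.fst T.hom B.hom ≫ T.hom)
  let pr₁ : P ⟶ T := Over.homMk (pullback.fst T.hom B.hom) rfl
  let pr₂ : P ⟶ B := Over.homMk (pullback.snd T.hom B.hom) pullback.condition.symm
  haveI : IsAffine P.left := inferInstanceAs (IsAffine (pullback T.hom B.hom))
  obtain ⟨g', e, m, hm⟩ := StFib.grpd_exists_lift h𝒢 A.o₀.left pr₁
  let bs : ∀ {z : 𝒢.obj}, (σ.obj z ⟶ η) → (𝒢.p.obj z ⟶ B) := fun {z} α => eqToHom (σ.w_obj z).symm ≫ α.hom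
  let α' : σ.obj g' ⟶ η := topHom (eqToHom ((σ.w_obj g').trans e) ≫ pr₂)
  let o₂ : (StMod.fibCat (BasedFunctor.comp (StMod.fibFst σ η) i) x₀).obj :=
    CostructuredArrow.mk (Y := CostructuredArrow.mk (Y := g') α') (i.map m ≫ A.o₀.hom)
  have hbs : ∀ {z : 𝒢.obj} (α β : σ.obj z ⟶ η), bs α = bs β → α = β := fun α β h =>
    Stk.EltObj.hom_ext ((cancel_epi _).1 h)
  have hbsα' : bs α' = eqToHom e ≫ pr₂ := by simp [bs, α', topHom]
  have hσ : ∀ {z z' : 𝒢.obj} (k : z' ⟶ z) (α : σ.obj z ⟶ η), bs (σ.map k ≫ α) = 𝒢.p.map k ≫ bs α := by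
    intro z z' k α
    have hk : (σ.map k).hom = eqToHom (σ.w_obj z') ≫ 𝒢.p.map k ≫ eqToHom (σ.w_obj z).symm := by
      have := Functor.congr_hom σ.w k
      exact this
    simp [bs, hk]
  refine ⟨⟨o₂, ?_, fun o => ?_, fun o a b => ?_⟩⟩
  · show IsAffine (𝒢.p.obj g').left
    rw [e]; infer_instance
  · obtain ⟨a⟩ := A.exists_hom (CostructuredArrow.mk (Y := o.left.left) o.hom)
    let gl : 𝒢.p.obj o.left.left ⟶ P := Over.homMk (pullback.lift (𝒢.p.map a.left).left (bs o.left.hom).left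
      (by rw [Over.w (𝒢.p.map a.left), Over.w (bs o.left.hom)]; rfl))
      (by
        show pullback.lift _ _ _ ≫ pullback.fst _ _ ≫ T.hom = _
        rw [pullback.lift_fst_assoc]
        exact Over.w (𝒢.p.map a.left))
    obtain ⟨k, hk, hkm⟩ := StFib.grpd_exists_fac h𝒢 m a.left (gl ≫ eqToHom e.symm) (by
      rw [hm, Category.assoc, eqToHom_trans_assoc, eqToHom_refl, Category.id_comp]
      exact Over.OverMorphism.ext (pullback.lift_fst _ _ _))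
    have hkα : σ.map k ≫ α' = o.left.hom := hbs _ _ (by
      rw [hσ, hbsα', hk, Category.assoc, eqToHom_trans_assoc, eqToHom_refl, Category.id_comp]
      exact Over.OverMorphism.ext (pullback.lift_snd _ _ _))
    refine ⟨CostructuredArrow.homMk (CostructuredArrow.homMk k hkα : o.left ⟶ o₂.left) ?_⟩
    show i.map k ≫ i.map m ≫ A.o₀.hom = o.hom
    rw [← Category.assoc, ← Functor.map_comp, hkm]
    exact CostructuredArrow.w a
  · have h1 : a.left.left ≫ m = b.left.left ≫ m := by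
      let mk : ∀ c : o ⟶ o₂, CostructuredArrow.mk (Y := o.left.left) o.hom ⟶ A.o₀ := fun c =>
        CostructuredArrow.homMk (c.left.left ≫ m) (by
          show i.map (c.left.left ≫ m) ≫ A.o₀.hom = o.hom
          rw [Functor.map_comp, Category.assoc]
          exact CostructuredArrow.w c)
      exact congrArg CommaMorphism.left (A.uniq _ (mk a) (mk b))
    have h2 : ∀ c : o ⟶ o₂, 𝒢.p.map c.left.left ≫ eqToHom e ≫ pr₂ = bs o.left.hom := fun c => by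
      rw [← hbsα', ← hσ]
      exact congrArg bs (CostructuredArrow.w c.left)
    refine CostructuredArrow.hom_ext _ _ (CostructuredArrow.hom_ext _ _ (StFib.grpd_cancel h𝒢 m h1 ?_))
    rw [← cancel_mono (eqToHom e)]
    have h3 := congrArg (fun c => (𝒢.p.map c).left) h1
    simp only [Functor.map_comp, hm, Over.comp_left] at h3
    apply Over.OverMorphism.ext
    apply pullback.hom_ext
    · simpa [pr₁] using h3
    · have := congrArg CommaMorphism.left ((h2 a).trans (h2 b).symm)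
      simpa [pr₂] using this

end Top

section Compat

variable {𝒳 𝒵 : AlgSt.Cat S} {π : 𝒳 ⥤ᵇ 𝒵} {E M : StMod.Mod 𝒳}

set_option maxHeartbeats 1600000 in
/-- A section over the covering object agrees on pairs iff its relative homomorphism does. -/
theorem Datum.pb_eq_iff (D : Datum π E M) (s₀ : Γ(D.Q.K.obj (ov₀ (𝟙 D.R.x₀)), ⊤)) :
    pb D.F (InducedCategory.homMk D.R.p : D.bMk D.R.q ⟶ D.bMk (𝟙 D.R.x₀)) (U := ⊤) ⊤ le_top s₀ =
        pb D.F (InducedCategory.homMk D.R.q : D.bMk D.R.q ⟶ D.bMk (𝟙 D.R.x₀)) (U := ⊤) ⊤ le_top s₀ ↔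
      rPull D.R.p (D.Q.iota (ov₀ (𝟙 D.R.x₀)) s₀) = rPull D.R.q (D.Q.iota (ov₀ (𝟙 D.R.x₀)) s₀) := by
  haveI := D.R.aff₀
  haveI := D.R.aff₁
  haveI : IsAffine (StMod.sch (Over₀ D.R.x₀) (ov₀ D.R.p)) := D.R.aff₁
  haveI : IsAffine (StMod.sch (Over₀ D.R.x₀) (ov₀ D.R.q)) := D.R.aff₁
  haveI : IsAffine (StMod.sch (Over₀ D.R.x₀) (ov₀ (𝟙 D.R.x₀))) := D.R.aff₀
  let tp : Γ(D.Q.K.obj (ov₀ D.R.p), ⊤) := pb D.Q.K (ovHom D.R.p (Category.comp_id D.R.p)) ⊤ le_top s₀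
  let tq : Γ(D.Q.K.obj (ov₀ D.R.q), ⊤) := pb D.Q.K (ovHom D.R.q (Category.comp_id D.R.q)) ⊤ le_top s₀
  have hp : pb D.F (InducedCategory.homMk D.R.p : D.bMk D.R.q ⟶ D.bMk (𝟙 D.R.x₀)) (U := ⊤) ⊤ le_top s₀ =
      D.th D.R.p D.R.q ⊤ tp :=
    (D.pb_F (InducedCategory.homMk D.R.p : D.bMk D.R.q ⟶ D.bMk (𝟙 D.R.x₀)) ⊤ le_top s₀).trans
      (D.th_congr D.R.p (b := 𝟙 D.R.x₀) D.R.q (a' := D.R.p ≫ 𝟙 _) (a'' := D.R.p) rfl (Category.comp_id D.R.p)
        (U := ⊤) ⊤ le_top s₀)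
  have hq : pb D.F (InducedCategory.homMk D.R.q : D.bMk D.R.q ⟶ D.bMk (𝟙 D.R.x₀)) (U := ⊤) ⊤ le_top s₀ = tq :=
    ((D.pb_F (InducedCategory.homMk D.R.q : D.bMk D.R.q ⟶ D.bMk (𝟙 D.R.x₀)) ⊤ le_top s₀).trans
      (D.th_congr D.R.q (b := 𝟙 D.R.x₀) D.R.q (a' := D.R.q ≫ 𝟙 _) (a'' := D.R.q) rfl (Category.comp_id D.R.q)
        (U := ⊤) ⊤ le_top s₀)).trans (D.th_id D.R.q ⊤ _)
  have ep : D.Q.iota (ov₀ D.R.q) (D.th D.R.p D.R.q ⊤ tp) = rPull D.R.p (D.Q.iota (ov₀ (𝟙 D.R.x₀)) s₀) :=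
    (D.iota_th (𝟙 D.R.x₁) (Category.id_comp _) (Category.id_comp _) tp).trans
      (D.Q.iota_pb (ovHom D.R.p (Category.comp_id D.R.p)) s₀)
  have eq' : D.Q.iota (ov₀ D.R.q) tq = rPull D.R.q (D.Q.iota (ov₀ (𝟙 D.R.x₀)) s₀) :=
    D.Q.iota_pb (ovHom D.R.q (Category.comp_id D.R.q)) s₀
  constructor
  · intro h
    exact ep.symm.trans ((congrArg (D.Q.iota (ov₀ D.R.q)) (hp.symm.trans (h.trans hq))).trans eq')
  · intro h
    exact hp.trans (((D.iota_bij D.R.q D.R.flat_q).1 (ep.trans (h.trans eq'.symm))).trans hq.symm)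

end Compat

end Groth.Agent.StPush
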