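import Groth.Agent.StPush.Module

/-!
Generating families over a composition: a family generating over a covering object is generating when the
structure sheaf is generating on the target.
-/

set_option autoImplicit false
set_option linter.style.haveILetI false
set_option linter.unusedSectionVars false
set_option backward.isDefEq.respectTransparency false
set_option backward.isDefEq.respectTransparency.types false

universe u

open CategoryTheory CategoryTheory.Limits AlgebraicGeometry Opposite FibCat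
open Groth.Agent.QCoh Groth.Agent.StDesc Groth.Agent.StGen

noncomputable section

namespace Groth.Agent.StPush

variable {S : Scheme.{u}} {𝒳 𝒵 : AlgSt.Cat S} {π : 𝒳 ⥤ᵇ 𝒵} {E M : StMod.Mod 𝒳}

/-- The unit section of the structure sheaf. -/
def oneSec {𝒲 : AlgSt.Cat S} (o : 𝒲.obj) : Γ((StMod.O 𝒲).obj o, ⊤) :=
  show Γ((StMod.O 𝒲).obj o, ⊤) from (1 : Γ(StMod.sch 𝒲 o, ⊤))

theorem pb_oneSec {𝒲 : AlgSt.Cat S} {o' o : 𝒲.obj} (a : o' ⟶ o) :
    pb (StMod.O 𝒲) a (U := ⊤) ⊤ le_top (oneSec o) = oneSec o' := by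
  rw [pb_apply]
  show (StMod.sch 𝒲 o').presheaf.map (homOfLE (le_top : (⊤ : (StMod.sch 𝒲 o').Opens) ≤
      StMod.bmap 𝒲 a ⁻¹ᵁ ⊤)).op ((StMod.bmap 𝒲 a).app ⊤ (1 : Γ(StMod.sch 𝒲 o, ⊤))) =
    (1 : Γ(StMod.sch 𝒲 o', ⊤))
  rw [map_one, map_one]

theorem smul_oneSec {𝒲 : AlgSt.Cat S} (o : 𝒲.obj) (s : Γ((StMod.O 𝒲).obj o, ⊤)) :
    (show Γ(StMod.sch 𝒲 o, ⊤) from s) • oneSec o = s :=
  mul_one (show Γ(StMod.sch 𝒲 o, ⊤) from s)

set_option maxHeartbeats 1600000 in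
/-- A morphism into the module of relative homomorphisms from the structure sheaf gives a compatible
relative homomorphism. -/
theorem Datum.rPull_section (D : Datum π E M) (χ : StMod.O D.Base ⟶ D.F) :
    rPull D.R.p (D.Q.iota (ov₀ (𝟙 D.R.x₀)) ((χ.app (D.bMk (𝟙 D.R.x₀))).app ⊤ (oneSec _))) =
      rPull D.R.q (D.Q.iota (ov₀ (𝟙 D.R.x₀)) ((χ.app (D.bMk (𝟙 D.R.x₀))).app ⊤ (oneSec _))) := by
  let i₀ : D.Base.obj := D.bMk (𝟙 D.R.x₀)
  let j : D.Base.obj := D.bMk D.R.q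
  let s₀ : Γ(D.Q.K.obj (ov₀ (𝟙 D.R.x₀)), ⊤) := (χ.app i₀).app ⊤ (oneSec i₀)
  have key : ∀ (a : j ⟶ i₀),
      D.th (a.hom ≫ 𝟙 _) D.R.q ⊤ (pb D.Q.K (ovHom a.hom rfl) ⊤ le_top s₀) = (χ.app j).app ⊤ (oneSec j) := by
    intro a
    refine (D.pb_F a ⊤ le_top s₀).symm.trans ?_
    rw [← pb_hom (StMod.O D.Base) χ a]
    exact congrArg _ (pb_oneSec a)
  have h1 := key (InducedCategory.homMk D.R.p)
  have h2 := key (InducedCategory.homMk D.R.q)
  have e := h1.trans h2.symm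
  erw [D.th_congr D.R.p D.R.q rfl (Category.comp_id D.R.p), D.th_congr D.R.q D.R.q rfl (Category.comp_id D.R.q),
    D.th_id] at e
  have h := congrArg (D.Q.iota (ov₀ D.R.q)) e
  rw [D.iota_th (𝟙 D.R.x₁) (Category.id_comp _) (Category.id_comp _), D.Q.iota_pb, D.Q.iota_pb] at h
  exact h

set_option maxHeartbeats 800000 in
/-- A compatible relative homomorphism comes from a morphism. -/
theorem exists_hom_of_compat (h𝒳 : IsFibGrpd 𝒳.p) (h𝒵 : IsFibGrpd 𝒵.p) (hE : StMod.isQCoh 𝒳 E)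
    (hM : StMod.isQCoh 𝒳 M) (R : Pres 𝒵) (C₀ : FinCover (StMod.fibCat π R.x₀)) (ψ : RHom π E M R.x₀)
    (hψ : rPull R.p ψ = rPull R.q ψ) :
    ∃ Φ : E ⟶ M, ofHom (StMod.Mod.comapMap (StMod.fibFst π R.x₀) Φ) = ψ := by
  obtain ⟨χ, rfl⟩ := exists_ofHom h𝒳 hE hM C₀ ψ
  obtain ⟨Φ, hΦ⟩ := exists_hom_of_fib h𝒳 h𝒵 R.cover hM χ fun y b b' => by
    apply Scheme.Modules.hom_ext
    intro U
    refine ConcreteCategory.hom_ext _ _ fun (s : Γ(E.obj y, U)) => ext_flat hM.1 _ _ fun t _ => ?_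
    obtain ⟨y₁, c₁, d, hn, hp, hq⟩ := R.cover₂ (π.obj y) b b' (eqToHom (StMod.sch_obj_eq π y).symm t)
    obtain ⟨y₂, c₂, k, hn₂, hk⟩ := exists_lift_nhd π h𝒳 h𝒵 c₁ t hn
    obtain ⟨y₃, c₃, hy₃, hn₃⟩ := exists_affine_nhd h𝒳 c₂ hn₂
    haveI := hy₃
    let k' : π.obj y₃ ⟶ y₁ := π.map c₃ ≫ k
    have hk' : k' ≫ c₁ = π.map (c₃ ≫ c₂) := by rw [Category.assoc, hk, Functor.map_comp]
    refine ⟨y₃, c₃ ≫ c₂, hn₃.1, hn₃.2.2, ?_⟩
    let G := StMod.Mod.comap (StMod.fibFst π R.x₀) E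
    have hpb : ∀ (β : π.obj y ⟶ R.x₀),
        pb M (c₃ ≫ c₂) (StMod.bmap 𝒳 (c₃ ≫ c₂) ⁻¹ᵁ U) le_rfl
            ((χ.app (CostructuredArrow.mk (Y := y) β)).app U s) =
          (χ.app (CostructuredArrow.mk (Y := y₃) (π.map (c₃ ≫ c₂) ≫ β))).app _
            (pb E (c₃ ≫ c₂) (StMod.bmap 𝒳 (c₃ ≫ c₂) ⁻¹ᵁ U) le_rfl s) := by
      intro β
      have := pb_hom G χ (CostructuredArrow.homMk (c₃ ≫ c₂) rfl :
        CostructuredArrow.mk (Y := y₃) (π.map (c₃ ≫ c₂) ≫ β) ⟶ CostructuredArrow.mk (Y := y) β)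
        (StMod.bmap 𝒳 (c₃ ≫ c₂) ⁻¹ᵁ U) le_rfl s
      rw [pb_comap_fibFst, pb_comap_fibFst] at this
      exact this.symm
    refine (hpb b).trans (Eq.trans ?_ (hpb b').symm)
    have e : ∀ (β : π.obj y₃ ⟶ R.x₀), (k' ≫ d) ≫ R.p = β ∨ (k' ≫ d) ≫ R.q = β →
        ∀ e' : Γ(E.obj y₃, ⊤), (χ.app (CostructuredArrow.mk (Y := y₃) β)).app ⊤ e' =
          ev (rPull R.p (ofHom χ)) (CostructuredArrow.mk (Y := y₃) (k' ≫ d)) hy₃ e' := by
      intro β hβ e'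
      rcases hβ with rfl | rfl
      · rfl
      · rw [hψ]; rfl
    have hb : (k' ≫ d) ≫ R.p = π.map (c₃ ≫ c₂) ≫ b := by
      rw [Category.assoc, hp, ← Category.assoc, hk']
    have hb' : (k' ≫ d) ≫ R.q = π.map (c₃ ≫ c₂) ≫ b' := by
      rw [Category.assoc, hq, ← Category.assoc, hk']
    let g₁ : G.obj (CostructuredArrow.mk (Y := y₃) (π.map (c₃ ≫ c₂) ≫ b)) ⟶ M.obj y₃ :=
      χ.app (CostructuredArrow.mk (Y := y₃) (π.map (c₃ ≫ c₂) ≫ b))
    let g₂ : G.obj (CostructuredArrow.mk (Y := y₃) (π.map (c₃ ≫ c₂) ≫ b)) ⟶ M.obj y₃ :=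
      χ.app (CostructuredArrow.mk (Y := y₃) (π.map (c₃ ≫ c₂) ≫ b'))
    haveI : IsAffine (StMod.sch (StMod.fibCat π R.x₀)
        (CostructuredArrow.mk (Y := y₃) (π.map (c₃ ≫ c₂) ≫ b))) := hy₃
    have hg : g₁ = g₂ := hom_ext_top (StMod.isQCoh_comap hE) g₁ g₂ fun e' =>
      (e _ (Or.inl hb) e').trans (e _ (Or.inr hb') e').symm
    exact congrArg (fun g => Scheme.Modules.Hom.app g _ _) hg
  exact ⟨Φ, congrArg ofHom hΦ⟩

theorem Datum.exists_hom_of_rHom (D : Datum π E M) (ψ : RHom π E M D.R.x₀)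
    (hψ : rPull D.R.p ψ = rPull D.R.q ψ) :
    ∃ Φ : E ⟶ M, ofHom (StMod.Mod.comapMap (StMod.fibFst π D.R.x₀) Φ) = ψ :=
  exists_hom_of_compat D.h𝒳 D.h𝒵 D.hE D.hM D.R D.C₀ ψ hψ

theorem ofHom_injective (h𝒳 : IsFibGrpd 𝒳.p) (hE : StMod.isQCoh 𝒳 E) (hM : StMod.isQCoh 𝒳 M) {w : 𝒵.obj}
    (C : FinCover (StMod.fibCat π w)) :
    Function.Injective (ofHom (π := π) (E := E) (M := M) (w := w)) := by
  intro χ χ' h
  haveI := C.aff₀
  refine hom_ext_cover (StMod.isQCoh_comap hE).1 (StMod.isQCoh_comap hM).1 C.cover χ χ' ?_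
  exact hom_ext_top (StMod.isQCoh_comap hE) _ _ fun s =>
    congrArg (fun φ => ev φ C.x₀ C.aff₀ s) h

/-- A morphism which vanishes over the covering object vanishes. -/
theorem eq_zero_of_comap (h𝒳 : IsFibGrpd 𝒳.p) (h𝒵 : IsFibGrpd 𝒵.p) (R : Pres 𝒵) {M N : StMod.Mod 𝒳}
    (hN : N.IsCartesian) (v : M ⟶ N) (hcomap : StMod.Mod.comapMap (StMod.fibFst π R.x₀) v = 0) : v = 0 := by
  refine StMod.Mod.hom_ext fun z => ?_
  apply Scheme.Modules.hom_ext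
  intro U
  refine ConcreteCategory.hom_ext _ _ fun (s : Γ(M.obj z, U)) => ext_flat hN _ _ fun t _ => ?_
  obtain ⟨y, a, b, hn⟩ := R.cover (π.obj z) (eqToHom (StMod.sch_obj_eq π z).symm t)
  obtain ⟨z', c, k, hc, -⟩ := exists_lift_nhd π h𝒳 h𝒵 a t hn
  refine ⟨z', c, hc.1, hc.2.2, ?_⟩
  rw [← pb_hom M v]
  have h0 : v.app z' = 0 :=
    congrArg (fun m => StMod.Mod.Hom.app m (CostructuredArrow.mk (Y := z') (k ≫ b))) hcomap
  rw [h0]
  exact (map_zero _).symm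

set_option maxHeartbeats 800000 in
/-- A family generating over the covering object is generating if the structure sheaf is generating on
the target. -/
theorem isGenFam_of_target (h𝒳 : IsFibGrpd 𝒳.p) (h𝒵 : IsFibGrpd 𝒵.p) (R : Pres 𝒵)
    (C₀ : FinCover (StMod.fibCat π R.x₀)) {ι : Type*} (E : ι → StMod.QCoh 𝒳) (hEfp : ∀ i, (E i).obj.IsFinPres)
    (hE : StMod.IsGenFam fun i => (StMod.comapQ (StMod.fibFst π R.x₀)).obj (E i))
    (hO : StMod.IsGenFam fun _ : PUnit.{u + 1} => StMod.OQ 𝒵) : StMod.IsGenFam E := by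
  haveI := R.aff₀
  rw [StMod.isGenFam_iff]
  intro M N v hv
  have hcomap : StMod.Mod.comapMap (StMod.fibFst π R.x₀) v.hom = 0 := by
    refine congrArg (fun m : (StMod.comapQ (StMod.fibFst π R.x₀)).obj M ⟶ (StMod.comapQ (StMod.fibFst π R.x₀)).obj N =>
      m.hom) ((StMod.isGenFam_iff _).1 hE ((StMod.comapQ (StMod.fibFst π R.x₀)).map v) fun i χ₀ => ?_)
    obtain ⟨QM⟩ := exists_model (π := π) h𝒳 (E i).property M.property C₀
    obtain ⟨QN⟩ := exists_model (π := π) h𝒳 (E i).property N.property C₀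
    let D : Datum π (E i).obj M.obj :=
      ⟨h𝒳, h𝒵, (E i).property, M.property, R, C₀, hEfp i C₀.x₀.left, QM⟩
    let D' := D.change N.property QN
    obtain ⟨w, hw⟩ := D.exists_Fpost N.property QN v.hom
    have hOB : StMod.IsGenFam fun _ : PUnit.{u + 1} => (StMod.comapQ (rigFst (BasedFunctor.id 𝒵) R.x₀)).obj
        (StMod.OQ 𝒵) :=
      isGenFam_src (locEquiv_rigFst h𝒵 h𝒵 R.cover) invariant_rigFst _ hO
    have hflat : Flat (StMod.bmap 𝒵 (𝟙 R.x₀)) := by rw [StMod.bmap_id]; infer_instance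
    have hw0 : (ObjectProperty.homMk w : D.FQ ⟶ D'.FQ) = 0 := by
      refine (StMod.isGenFam_iff _).1 hOB _ fun _ φ => ?_
      let e := StMod.comapOIso (rigFst (BasedFunctor.id 𝒵) R.x₀)
      have key : ∀ χ : StMod.O D.Base ⟶ D.F, χ ≫ w = 0 := fun χ => by
        obtain ⟨Φ, hΦ⟩ := D.exists_hom_of_rHom _ (D.rPull_section χ)
        have hzero : (w.app (D.bMk (𝟙 R.x₀))).app ⊤ ((χ.app (D.bMk (𝟙 R.x₀))).app ⊤ (oneSec _)) = 0 := by
          apply (D'.iota_bij (𝟙 R.x₀) hflat).1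
          rw [map_zero]
          refine (hw (𝟙 R.x₀) _).trans ?_
          rw [← hΦ]
          refine RHom.ext fun o ho s => ?_
          show (v.hom.app o.left).app ⊤ ((Φ.app o.left).app ⊤ s) = 0
          exact congrArg (fun m : (E i).obj ⟶ N.obj => (m.app o.left).app ⊤ s) (hv i Φ)
        refine hom_ext_cover (StMod.OQ D.Base).property.1 D'.isQCoh_F.1
          (x₀ := D.bMk (𝟙 R.x₀)) (fun z t => ⟨z, 𝟙 z, InducedCategory.homMk z.hom,
            by rw [StMod.bmap_id]; infer_instance, by rw [StMod.bmap_id]; infer_instance,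
            ⟨t, by rw [StMod.bmap_id]; rfl⟩⟩) _ _ ?_
        haveI : IsAffine (StMod.sch D.Base (D.bMk (𝟙 R.x₀))) := R.aff₀
        refine hom_ext_top (StMod.OQ D.Base).property _ _ fun s => ?_
        rw [← smul_oneSec _ s, Scheme.Modules.Hom.app_smul, Scheme.Modules.Hom.app_smul]
        refine congrArg _ ?_
        exact hzero
      refine (cancel_epi e.inv).1 ?_
      rw [comp_zero, ← Category.assoc]
      exact key (e.inv ≫ φ)
    have hzero : ∀ ψ : RHom π (E i).obj M.obj R.x₀, rPost v.hom R.x₀ ψ = 0 := fun ψ => by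
      obtain ⟨t, rfl⟩ := (D.iota_bij (𝟙 R.x₀) hflat).2 ψ
      refine (hw (𝟙 R.x₀) t).symm.trans ?_
      have h1 : (w.app (D.bMk (𝟙 R.x₀))).app ⊤ t = 0 :=
        congrArg (fun m : D.F ⟶ D'.F => (m.app (D.bMk (𝟙 R.x₀))).app ⊤ t) (congrArg InducedCategory.Hom.hom hw0)
      rw [h1, map_zero]
    refine ofHom_injective h𝒳 (E i).property N.property C₀ ?_
    refine Eq.trans (RHom.ext fun o ho s => ?_) (hzero (ofHom χ₀))|>.trans ?_
    · rfl
    · exact RHom.ext fun o ho s => rfl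
  exact InducedCategory.hom_ext (eq_zero_of_comap h𝒳 h𝒵 R N.property.1 v.hom hcomap)

end Groth.Agent.StPush
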