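import Groth.Agent.StGen.Glue

/-!
Morphisms of quasi-coherent modules on a category fibred in groupoids from a morphism on a covering object.
-/

set_option autoImplicit false
set_option linter.style.haveILetI false
set_option linter.unusedSectionVars false
set_option backward.isDefEq.respectTransparency false
set_option backward.isDefEq.respectTransparency.types false

universe u

open CategoryTheory CategoryTheory.Limits AlgebraicGeometry TopologicalSpace Opposite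
open Groth.Agent.QCoh Groth.Agent.StDesc Groth.Agent.StGen

noncomputable section

namespace Groth.Agent.StPush

variable {S : Scheme.{u}} {𝒵 : AlgSt.Cat S} {G H : StMod.Mod 𝒵}

/-- Descent of morphisms along a covering object, from compatibility on objects over pairs. -/
theorem exists_hom_of_pairs (h𝒵 : FibCat.IsFibGrpd 𝒵.p) (hG : StMod.isQCoh 𝒵 G) (hH : StMod.isQCoh 𝒵 H)
    {x₀ : 𝒵.obj} (hcover : ∀ (z : 𝒵.obj) (w : StMod.sch 𝒵 z),
      ∃ (y : 𝒵.obj) (a : y ⟶ z) (_ : y ⟶ x₀), IsNhd a w)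
    (g : G.obj x₀ ⟶ H.obj x₀)
    (hc : ∀ (z : 𝒵.obj) (b b' : z ⟶ x₀) (t : StMod.sch 𝒵 z),
      ∃ (y : 𝒵.obj) (c : y ⟶ z) (x₂ : 𝒵.obj) (e e' : x₂ ⟶ x₀) (d : y ⟶ x₂), IsNhd c t ∧
        d ≫ e = c ≫ b ∧ d ≫ e' = c ≫ b' ∧ ∀ w₁ w₂ : G.obj x₂ ⟶ H.obj x₂,
          (∀ {U : (StMod.sch 𝒵 x₀).Opens} (V : (StMod.sch 𝒵 x₂).Opens)
            (hV : V ≤ StMod.bmap 𝒵 e ⁻¹ᵁ U) (s : Γ(G.obj x₀, U)),
            w₁.app V (pb G e V hV s) = pb H e V hV (g.app U s)) →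
          (∀ {U : (StMod.sch 𝒵 x₀).Opens} (V : (StMod.sch 𝒵 x₂).Opens)
            (hV : V ≤ StMod.bmap 𝒵 e' ⁻¹ᵁ U) (s : Γ(G.obj x₀, U)),
            w₂.app V (pb G e' V hV s) = pb H e' V hV (g.app U s)) → w₁ = w₂) :
    ∃ φ : G ⟶ H, φ.app x₀ = g := by
  choose W hW using fun (y : 𝒵.obj) (b : y ⟶ x₀) => exists_pullHom hG.1 hH.1 b g
  have hcomp : ∀ {y' y : 𝒵.obj} (c : y' ⟶ y) (b : y ⟶ x₀) {U : (StMod.sch 𝒵 y).Opens}
      (V : (StMod.sch 𝒵 y').Opens) (hV : V ≤ StMod.bmap 𝒵 c ⁻¹ᵁ U) (t : Γ(G.obj y, U)),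
      (W y' (c ≫ b)).app V (pb G c V hV t) = pb H c V hV ((W y b).app U t) := by
    intro y' y c b
    obtain ⟨w, hw⟩ := exists_pullHom hG.1 hH.1 c (W y b)
    have : W y' (c ≫ b) = w := ext_of_pb hG.1 (c ≫ b) _ _ fun U s => by
      have hV : StMod.bmap 𝒵 (c ≫ b) ⁻¹ᵁ U ≤ StMod.bmap 𝒵 c ⁻¹ᵁ (StMod.bmap 𝒵 b ⁻¹ᵁ U) := by
        rw [StMod.bmap_comp]; exact le_rfl
      rw [hW y' (c ≫ b), ← pb_pb G c b _ le_rfl hV le_rfl, hw, hW y b, pb_pb H c b _ le_rfl hV le_rfl]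
    intro U V hV t
    rw [this]
    exact hw V hV t
  have hind : ∀ (y : 𝒵.obj) (b b' : y ⟶ x₀), W y b = W y b' := by
    intro y b b'
    apply Scheme.Modules.hom_ext
    intro U
    refine ConcreteCategory.hom_ext _ _ fun (t : Γ(G.obj y, U)) => ext_flat hH.1 _ _ fun z _ => ?_
    obtain ⟨y₁, k, x₂, e₂, e₂', d, ⟨hk1, -, hk3⟩, hdp, hdq, heq⟩ := hc y b b' z
    refine ⟨y₁, k, hk1, hk3, ?_⟩
    have e : W y₁ (k ≫ b) = W y₁ (k ≫ b') := by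
      rw [← hdp, ← hdq]
      refine ext_of_pb hG.1 d _ _ fun U' s' => ?_
      rw [hcomp, hcomp, heq _ _ (fun {U} => hW x₂ e₂ (U := U)) (fun {U} => hW x₂ e₂' (U := U))]
    rw [← hcomp k b, ← hcomp k b', e]
  have key : ∀ (z : 𝒵.obj) (U : (StMod.sch 𝒵 z).Opens) (s : Γ(G.obj z, U)),
      ∃ s' : Γ(H.obj z, U), ∀ (y : 𝒵.obj) (a : y ⟶ z) (b : y ⟶ x₀) (V : (StMod.sch 𝒵 y).Opens)
        (h : V ≤ StMod.bmap 𝒵 a ⁻¹ᵁ U), pb H a V h s' = (W y b).app V (pb G a V h s) := by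
    intro z U s
    have hcmp : ∀ {y y' : 𝒵.obj} (a : y ⟶ z) (a' : y' ⟶ z) (b : y ⟶ x₀) (b' : y' ⟶ x₀) {ζ : 𝒵.obj}
        (c : ζ ⟶ y) (c' : ζ ⟶ y') (_ : c ≫ a = c' ≫ a') (V : (StMod.sch 𝒵 y).Opens)
        (V' : (StMod.sch 𝒵 y').Opens) (h : V ≤ StMod.bmap 𝒵 a ⁻¹ᵁ U) (h' : V' ≤ StMod.bmap 𝒵 a' ⁻¹ᵁ U)
        (X : (StMod.sch 𝒵 ζ).Opens) (hX : X ≤ StMod.bmap 𝒵 c ⁻¹ᵁ V) (hX' : X ≤ StMod.bmap 𝒵 c' ⁻¹ᵁ V'),
        pb H c X hX ((W y b).app V (pb G a V h s)) = pb H c' X hX' ((W y' b').app V' (pb G a' V' h' s)) := by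
      intro y y' a a' b b' ζ c c' hca V V' h h' X hX hX'
      have h3 : X ≤ StMod.bmap 𝒵 (c ≫ a) ⁻¹ᵁ U := fun r hr => by
        show StMod.bmap 𝒵 (c ≫ a) r ∈ U
        rw [StMod.bmap_comp]
        exact h (hX hr)
      rw [← hcomp c b, ← hcomp c' b', hind ζ (c ≫ b) (c' ≫ b'), pb_pb G c a X h hX h3,
        pb_pb G c' a' X h' hX' (hca ▸ h3), pb_congr G hca]
    choose y a b hn using hcover z
    obtain ⟨s', hs'⟩ := exists_glue_flat h𝒵 hH (U := U) (κ := StMod.sch 𝒵 z) a (fun w => (hn w).1)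
      (fun w => (hn w).2.1) (fun w _ => ⟨w, (hn w).2.2⟩)
      (fun w => (W (y w) (b w)).app _ (pb G (a w) _ le_rfl s))
      (fun ζ j k c c' hcc X hX hX' => hcmp (a j) (a k) (b j) (b k) c c' hcc _ _ le_rfl le_rfl X hX hX')
    refine ⟨s', fun y' a' b' V h => ext_flat hH.1 _ _ fun q hq => ?_⟩
    let w₀ := StMod.bmap 𝒵 a' q
    obtain ⟨t₀, ht₀⟩ := (hn w₀).2.2
    haveI := (hn w₀).1
    obtain ⟨ζ, c, e, hc'⟩ := exists_lift_mor h𝒵 y' (pullback.fst (StMod.bmap 𝒵 a') (StMod.bmap 𝒵 (a w₀)))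
    obtain ⟨c₂, hc₂, hc₂b⟩ := exists_fac h𝒵 (a w₀) (c ≫ a') (e.hom ≫ pullback.snd _ _) (by
      rw [StMod.bmap_comp, hc', Category.assoc, Category.assoc, pullback.condition])
    obtain ⟨p, hp, -⟩ := Scheme.Pullback.exists_preimage_pullback (f := StMod.bmap 𝒵 a')
      (g := StMod.bmap 𝒵 (a w₀)) q t₀ ht₀.symm
    refine ⟨ζ, c, by rw [hc']; infer_instance, hp ▸ range_of_bmap c e _ hc' p, ?_⟩
    have h3 : StMod.bmap 𝒵 c ⁻¹ᵁ V ≤ StMod.bmap 𝒵 (c ≫ a') ⁻¹ᵁ U := fun r hr => by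
      show StMod.bmap 𝒵 (c ≫ a') r ∈ U
      rw [StMod.bmap_comp]
      exact h hr
    have h4 : StMod.bmap 𝒵 c ⁻¹ᵁ V ≤ StMod.bmap 𝒵 c₂ ⁻¹ᵁ (StMod.bmap 𝒵 (a w₀) ⁻¹ᵁ U) := fun r hr => by
      show StMod.bmap 𝒵 (a w₀) (StMod.bmap 𝒵 c₂ r) ∈ U
      have h2 : StMod.bmap 𝒵 (c ≫ a') r ∈ U := h3 hr
      rw [← hc₂, StMod.bmap_comp] at h2
      exact h2
    rw [hcmp a' (a w₀) b' (b w₀) c c₂ hc₂.symm V _ h le_rfl _ le_rfl h4, ← hs' w₀,
      pb_pb H c a' _ h le_rfl h3, pb_pb H c₂ (a w₀) _ le_rfl h4 (hc₂ ▸ h3), pb_congr H hc₂.symm]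
  choose f hf using key
  have huniq : ∀ (z : 𝒵.obj) (U : (StMod.sch 𝒵 z).Opens) (s : Γ(G.obj z, U)) (t : Γ(H.obj z, U)),
      (∀ (y : 𝒵.obj) (a : y ⟶ z) (b : y ⟶ x₀) (V : (StMod.sch 𝒵 y).Opens)
        (h : V ≤ StMod.bmap 𝒵 a ⁻¹ᵁ U), pb H a V h t = (W y b).app V (pb G a V h s)) → t = f z U s := by
    intro z U s t ht
    refine ext_flat hH.1 _ _ fun w _ => ?_
    obtain ⟨y, a, b, hn⟩ := hcover z w
    exact ⟨y, a, hn.1, hn.2.2, (ht y a b _ le_rfl).trans (hf z U s y a b _ le_rfl).symm⟩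
  let app : ∀ z : 𝒵.obj, G.obj z ⟶ H.obj z := fun z =>
    ⟨PresheafOfModules.homMk
      { app := fun U => AddCommGrpCat.ofHom
          (show Γ(G.obj z, U.unop) →+ Γ(H.obj z, U.unop) from
            AddMonoidHom.mk' (f z U.unop) fun p q => (huniq z _ _ _ fun y a b V h => by
              rw [map_add, map_add, map_add, hf z U.unop p y a b, hf z U.unop q y a b]).symm)
        naturality := fun {U V} i => by
          refine ConcreteCategory.hom_ext _ _ fun (s : Γ(G.obj z, U.unop)) => ?_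
          refine (huniq z V.unop (res (G.obj z) (leOfHom i.unop) s)
            (res (H.obj z) (leOfHom i.unop) (f z U.unop s)) fun y a b X h => ?_).symm
          rw [pb_res, pb_res, hf z U.unop s y a b] }
      (fun U r (s : Γ(G.obj z, U.unop)) => (huniq z U.unop ((show Γ(StMod.sch 𝒵 z, U.unop) from r) • s)
        ((show Γ(StMod.sch 𝒵 z, U.unop) from r) • f z U.unop s) fun y a b X h => by
          rw [pb_smul, pb_smul, hf z U.unop s y a b, Scheme.Modules.Hom.app_smul]).symm)⟩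
  let φ : G ⟶ H :=
    { app := app
      comm := fun {z' z} ψ g' hg => by
        subst hg
        apply Scheme.Modules.hom_ext
        intro U
        refine ConcreteCategory.hom_ext _ _ fun (s : Γ(G.obj z, U)) => ?_
        refine (huniq z' (StMod.bmap 𝒵 ψ ⁻¹ᵁ U) ((G.map ψ rfl).app U s) ((H.map ψ rfl).app U (f z U s))
          fun y a b X h => ?_).symm
        have h' : X ≤ StMod.bmap 𝒵 (a ≫ ψ) ⁻¹ᵁ U := by rw [StMod.bmap_comp]; exact h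
        have e : ∀ (K : StMod.Mod 𝒵) (t : Γ(K.obj z, U)),
            pb K a X h ((K.map ψ rfl).app U t) = pb K (a ≫ ψ) X h' t := fun K t => by
          refine Eq.trans ?_ (pb_pb K a ψ X (V := StMod.bmap 𝒵 ψ ⁻¹ᵁ U) le_rfl h h' t)
          exact congrArg (pb K a X h) (res_self _ le_rfl _).symm
        rw [e, e, hf z U s y (a ≫ ψ) b] }
  refine ⟨φ, ?_⟩
  have h1 : W x₀ (𝟙 x₀) = g := ext_of_pb hG.1 (𝟙 x₀) _ _ fun U s => by
    rw [hW, pb_id G le_rfl (by rw [StMod.bmap_id]; exact le_rfl), pb_id H le_rfl (by rw [StMod.bmap_id]; exact le_rfl),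
      app_res]
  apply Scheme.Modules.hom_ext
  intro U
  refine ConcreteCategory.hom_ext _ _ fun (s : Γ(G.obj x₀, U)) => ?_
  have hU := bmap_id_le U U (le_refl U)
  have := hf x₀ U s x₀ (𝟙 _) (𝟙 _) U hU
  rw [pb_id H hU le_rfl, pb_id G hU le_rfl, res_self, res_self, h1] at this
  exact this

/-- Morphisms are determined at a covering object. -/
theorem hom_ext_cover (hG : G.IsCartesian) (hH : H.IsCartesian) {x₀ : 𝒵.obj}
    (hcover : ∀ (z : 𝒵.obj) (w : StMod.sch 𝒵 z), ∃ (y : 𝒵.obj) (a : y ⟶ z) (_ : y ⟶ x₀), IsNhd a w)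
    (u v : G ⟶ H) (h : u.app x₀ = v.app x₀) : u = v := by
  refine StMod.Mod.hom_ext fun z => ?_
  apply Scheme.Modules.hom_ext
  intro U
  refine ConcreteCategory.hom_ext _ _ fun (s : Γ(G.obj z, U)) => ext_flat hH _ _ fun t _ => ?_
  obtain ⟨y, a, b, hn⟩ := hcover z t
  refine ⟨y, a, hn.1, hn.2.2, ?_⟩
  have e : u.app y = v.app y := ext_of_pb hG b _ _ fun U' s' => by rw [pb_hom G u, pb_hom G v, h]
  rw [← pb_hom G u, ← pb_hom G v, e]

end Groth.Agent.StPush
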