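import Groth.Prelude.Def_Hoch
import Groth.Prelude.Def_CoactBr

/-!
# The translation identity of a total integral
-/

set_option autoImplicit false
universe u

open TensorProduct

namespace Groth.Agent.StPush

variable {R A B : Type u} [CommRing R] [CommRing A] [HopfAlgebra R A] [CommRing B] [Algebra R B]
  [HopfRep.Comod R A B]

/-- `a₁ ⊗ a₂ ↦ α(a₁)₀ ⊗ S(α(a₁)₁) a₂`. -/
noncomputable def twist (α : A →ₗ[R] B) : A ⊗[R] A →ₗ[R] B ⊗[R] A :=
  (((LinearMap.mul' R A).comp ((HopfAlgebra.antipode R (A := A)).rTensor A)).lTensor B).comp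
    ((TensorProduct.assoc R B A A).toLinearMap.comp
      (((HopfRep.Comod.coact (k := R) (A := A)).comp α).rTensor A))

theorem twist_tmul (α : A →ₗ[R] B) (a c : A) :
    twist α (a ⊗ₜ c) = Algebra.TensorProduct.map (AlgHom.id R B) (HopfAlgebra.antipodeAlgHom R A)
      (HopfRep.Comod.coact (k := R) (A := A) (α a)) * ((1 : B) ⊗ₜ[R] c) := by
  show (((LinearMap.mul' R A).comp ((HopfAlgebra.antipode R (A := A)).rTensor A)).lTensor B)
    (TensorProduct.assoc R B A A (HopfRep.Comod.coact (k := R) (A := A) (α a) ⊗ₜ[R] c)) = _
  induction HopfRep.Comod.coact (k := R) (A := A) (α a) using TensorProduct.induction_on with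
  | zero => simp
  | add x y hx hy => simp only [add_tmul, map_add, hx, hy, add_mul]
  | tmul x y => simp

theorem twist_comul (α : A →ₗ[R] B) (hα : Hoch.IsComodHom A α) (a : A) :
    twist α (CoalgebraStruct.comul a) = α a ⊗ₜ[R] (1 : A) := by
  let μS : A ⊗[R] A →ₗ[R] A := (LinearMap.mul' R A).comp ((HopfAlgebra.antipode R (A := A)).rTensor A)
  have h1 : (HopfRep.Comod.coact (k := R) (A := A)).comp α = α.rTensor A ∘ₗ CoalgebraStruct.comul := hα
  have nat : ∀ t : (A ⊗[R] A) ⊗[R] A, μS.lTensor B (TensorProduct.assoc R B A A ((α.rTensor A).rTensor A t)) =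
      TensorProduct.map α μS (TensorProduct.assoc R A A A t) := fun t => by
    induction t using TensorProduct.induction_on with
    | zero => simp
    | add x y hx hy => simp only [map_add, hx, hy]
    | tmul x z => induction x using TensorProduct.induction_on with
      | zero => simp
      | add x y hx hy => simp only [add_tmul, map_add, hx, hy]
      | tmul x y => simp
  show μS.lTensor B (TensorProduct.assoc R B A A
    (((HopfRep.Comod.coact (k := R) (A := A)).comp α).rTensor A (CoalgebraStruct.comul a))) = _
  rw [h1, LinearMap.rTensor_comp, LinearMap.comp_apply, nat]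
  have h2 : TensorProduct.assoc R A A A ((CoalgebraStruct.comul (R := R)).rTensor A (CoalgebraStruct.comul a)) =
      (CoalgebraStruct.comul (R := R)).lTensor A (CoalgebraStruct.comul a) :=
    LinearMap.congr_fun (Coalgebra.coassoc (R := R) (A := A)) a
  have h3 : ∀ t : A ⊗[R] A, TensorProduct.map α μS ((CoalgebraStruct.comul (R := R)).lTensor A t) =
      α.rTensor A ((Algebra.linearMap R A).lTensor A ((CoalgebraStruct.counit (R := R) (A := A)).lTensor A t)) := fun t => by
    induction t using TensorProduct.induction_on with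
    | zero => simp
    | add x y hx hy => simp only [map_add, hx, hy]
    | tmul x y =>
      simp only [LinearMap.lTensor_tmul, TensorProduct.map_tmul, LinearMap.rTensor_tmul]
      rw [show μS (CoalgebraStruct.comul y) = Algebra.linearMap R A (CoalgebraStruct.counit y) from
        LinearMap.congr_fun (HopfAlgebra.mul_antipode_rTensor_comul (R := R) (A := A)) y]
  rw [h2, h3]
  rw [show (CoalgebraStruct.counit (R := R) (A := A)).lTensor A (CoalgebraStruct.comul a) = a ⊗ₜ[R] (1 : R) from
    Coalgebra.lTensor_counit_comul a]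
  simp

end Groth.Agent.StPush
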