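import Groth.Agent.StPush.PtEval
import Groth.Agent.StPush.TameAlg

/-!
# Integration along the group against a total integral
-/

set_option autoImplicit false
set_option backward.isDefEq.respectTransparency false
set_option backward.isDefEq.respectTransparency.types false
universe u

open CategoryTheory CategoryTheory.Limits AlgebraicGeometry MonoidalCategory CartesianMonoidalCategory Opposite CoactBr
open Groth.Agent.StPush.PtEval
open scoped TensorProduct MonObj

set_option linter.style.haveILetI false
set_option maxHeartbeats 800000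

attribute [local instance] CoactBr.braidedAlgSpecOf

namespace Groth.Agent.StPush.Integral

variable {R : Type u} [CommRing R] {A B : Type u} [CommRing A] [HopfAlgebra R A] [CommRing B] [Algebra R B]

theorem fn_algebraMap {C D : Type u} [CommRing C] [Algebra R C] [CommRing D] [Algebra R D]
    {W : Over (Spec (CommRingCat.of R))} (x : W ⟶ sp R C) (y : W ⟶ sp R D) (r : R) :
    fn x (algebraMap R C r) = fn y (algebraMap R D r) := by
  have h : x ≫ pt (Algebra.ofId R C) = y ≫ pt (Algebra.ofId R D) := by
    haveI : IsIso (sp R R).hom := show IsIso (Spec.map (CommRingCat.ofHom (RingHom.id R))) by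
      rw [CommRingCat.ofHom_id]; infer_instance
    exact Over.OverMorphism.ext ((cancel_mono (sp R R).hom).1 ((Over.w _).trans (Over.w _).symm))
  rw [show algebraMap R C r = Algebra.ofId R C r from rfl, show algebraMap R D r = Algebra.ofId R D r from rfl,
    ← fn_comp_pt, ← fn_comp_pt, h]

theorem exists_chart (W : Over (Spec (CommRingCat.of R))) [IsAffine W.left] :
    ∃ (K : Type u) (_ : CommRing K) (_ : Algebra R K) (e : W ⟶ sp R K), IsIso e := by
  let φ : CommRingCat.of R ⟶ Γ(W.left, ⊤) := (Scheme.ΓSpecIso (CommRingCat.of R)).inv ≫ W.hom.appTop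
  letI : Algebra R Γ(W.left, ⊤) := φ.hom.toAlgebra
  let e : W ⟶ sp R Γ(W.left, ⊤) := Over.homMk W.left.isoSpec.hom (by
    change W.left.toSpecΓ ≫ Spec.map φ = W.hom
    rw [Spec.map_comp, ← Scheme.toSpecΓ_naturality_assoc]
    simp)
  haveI : IsIso ((Over.forget _).map e) := show IsIso W.left.isoSpec.hom from inferInstance
  exact ⟨Γ(W.left, ⊤), inferInstance, inferInstance, e, isIso_of_reflects_iso e (Over.forget _)⟩

theorem fn_bijective {C : Type u} [CommRing C] [Algebra R C] {W : Over (Spec (CommRingCat.of R))} (x : W ⟶ sp R C)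
    [IsIso x] : Function.Bijective (fn x) :=
  haveI : IsIso x.left := inferInstanceAs (IsIso ((Over.forget _).map x))
  (ConcreteCategory.bijective_of_isIso ((Scheme.ΓSpecIso (CommRingCat.of C)).inv ≫ x.left.appTop))

/-- A function on the product with the group is a sum of products. -/
theorem exists_tensor (W : Over (Spec (CommRingCat.of R))) [IsAffine W.left] :
    ∃ (K : Type u) (_ : CommRing K) (_ : Algebra R K) (e : W ⟶ sp R K), IsIso e ∧
      Function.Bijective (fn (pr (fst (sp R A) W) (snd (sp R A) W ≫ e))) := by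
  obtain ⟨K, _, _, e, he⟩ := exists_chart W
  haveI := he
  haveI : IsIso (pr (fst (sp R A) W) (snd (sp R A) W ≫ e)) := by
    have : pr (fst (sp R A) W) (snd (sp R A) W ≫ e) = (sp R A ◁ e) ≫
        Functor.LaxMonoidal.μ (algSpec (CommRingCat.of R)) (op (.of R A)) (op (.of R K)) := by
      rw [pr]
      congr 1
    rw [this]
    infer_instance
  exact ⟨K, _, _, e, he, fn_bijective _⟩

theorem hom_ext_prod {W : Over (Spec (CommRingCat.of R))} [IsAffine W.left] {M : Type*} [AddCommGroup M]
    (f g : Γ((sp R A ⊗ W).left, ⊤) →+ M)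
    (h : ∀ a w, f (fn (fst (sp R A) W) a * (snd (sp R A) W).left.appTop w) =
      g (fn (fst (sp R A) W) a * (snd (sp R A) W).left.appTop w)) : f = g := by
  obtain ⟨K, _, _, e, -, hb⟩ := exists_tensor (A := A) W
  refine AddMonoidHom.ext fun z => ?_
  obtain ⟨t, rfl⟩ := hb.2 z
  induction t using TensorProduct.induction_on with
  | zero => rw [map_zero (fn _)]; exact (map_zero f).trans (map_zero g).symm
  | add p q hp hq => simp only [map_add, hp, hq]
  | tmul a k => rw [fn_pr_tmul, fn_comp]; exact h a _

theorem exists_integral (α : A →ₗ[R] B) {W : Over (Spec (CommRingCat.of R))} [IsAffine W.left] (x : W ⟶ sp R B) :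
    ∃ γ : Γ((sp R A ⊗ W).left, ⊤) →+ Γ(W.left, ⊤), ∀ a w,
      γ (fn (fst (sp R A) W) a * (snd (sp R A) W).left.appTop w) = fn x (α a) * w := by
  obtain ⟨K, _, _, e, he, hb⟩ := exists_tensor (A := A) W
  haveI := he
  let L : A ⊗[R] K →+ Γ(W.left, ⊤) := TensorProduct.liftAddHom
    (AddMonoidHom.mk' (fun a => (AddMonoidHom.mulLeft (fn x (α a))).comp (fn e).toAddMonoidHom)
      fun a a' => by ext k; simp [add_mul])
    fun r a k => by
      simp only [AddMonoidHom.mk'_apply, AddMonoidHom.comp_apply, AddMonoidHom.coe_mulLeft, map_smul]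
      show fn x (r • α a) * fn e k = fn x (α a) * fn e (r • k)
      rw [Algebra.smul_def, Algebra.smul_def, map_mul, map_mul, fn_algebraMap x e r]
      ring
  let E := RingEquiv.ofBijective (fn (pr (fst (sp R A) W) (snd (sp R A) W ≫ e))) hb
  refine ⟨L.comp E.symm.toAddMonoidHom, fun a w => ?_⟩
  obtain ⟨k, rfl⟩ := (fn_bijective e).2 w
  have h1 : fn (fst (sp R A) W) a * (snd (sp R A) W).left.appTop (fn e k) = E (a ⊗ₜ[R] k) :=
    (fn_pr_tmul (fst (sp R A) W) (snd (sp R A) W ≫ e) a k).symm
  rw [h1]
  show L (E.symm (E (a ⊗ₜ[R] k))) = _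
  rw [RingEquiv.symm_apply_apply]
  exact (TensorProduct.liftAddHom_tmul _ _ a k).trans rfl

/-- The integral along the group, with weight pulled back by `x`. -/
noncomputable def integral (α : A →ₗ[R] B) {W : Over (Spec (CommRingCat.of R))} [IsAffine W.left] (x : W ⟶ sp R B) :
    Γ((sp R A ⊗ W).left, ⊤) →+ Γ(W.left, ⊤) :=
  (exists_integral α x).choose

theorem integral_tmul (α : A →ₗ[R] B) {W : Over (Spec (CommRingCat.of R))} [IsAffine W.left] (x : W ⟶ sp R B) (a : A)
    (w : Γ(W.left, ⊤)) : integral α x (fn (fst (sp R A) W) a * (snd (sp R A) W).left.appTop w) = fn x (α a) * w :=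
  (exists_integral α x).choose_spec a w

theorem integral_mul_snd (α : A →ₗ[R] B) {W : Over (Spec (CommRingCat.of R))} [IsAffine W.left] (x : W ⟶ sp R B)
    (f : Γ((sp R A ⊗ W).left, ⊤)) (r : Γ(W.left, ⊤)) :
    integral α x ((snd (sp R A) W).left.appTop r * f) = r * integral α x f := by
  refine DFunLike.congr_fun (hom_ext_prod (A := A)
    ((integral α x).comp (AddMonoidHom.mulLeft ((snd (sp R A) W).left.appTop r)))
    ((AddMonoidHom.mulLeft r).comp (integral α x)) fun a w => ?_) f
  show integral α x (_ * (_ * _)) = r * integral α x _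
  rw [mul_left_comm, ← map_mul, integral_tmul, integral_tmul, mul_left_comm]

theorem integral_one (α : A →ₗ[R] B) (h1 : α 1 = 1) {W : Over (Spec (CommRingCat.of R))} [IsAffine W.left]
    (x : W ⟶ sp R B) : integral α x 1 = 1 := by
  have h := integral_tmul α x 1 1
  rw [map_one (fn _), h1, map_one (fn _), map_one, one_mul, one_mul] at h
  exact h

/-- Naturality. -/
theorem integral_whisker (α : A →ₗ[R] B) {W W' : Over (Spec (CommRingCat.of R))} [IsAffine W.left] [IsAffine W'.left]
    (φ : W' ⟶ W) (x : W ⟶ sp R B) (f : Γ((sp R A ⊗ W).left, ⊤)) :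
    integral α (φ ≫ x) ((sp R A ◁ φ).left.appTop f) = φ.left.appTop (integral α x f) := by
  refine DFunLike.congr_fun (hom_ext_prod (A := A)
    ((integral α (φ ≫ x)).comp (sp R A ◁ φ).left.appTop.hom.toAddMonoidHom)
    (φ.left.appTop.hom.toAddMonoidHom.comp (integral α x)) fun a w => ?_) f
  show integral α (φ ≫ x) ((sp R A ◁ φ).left.appTop (_ * _)) = φ.left.appTop (integral α x _)
  rw [map_mul (sp R A ◁ φ).left.appTop.hom, ← fn_comp, whiskerLeft_fst, integral_tmul, map_mul φ.left.appTop.hom,
    ← fn_comp]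
  have h2 : (sp R A ◁ φ).left.appTop ((snd (sp R A) W).left.appTop w) =
      (snd (sp R A) W').left.appTop (φ.left.appTop w) := by
    have := congrArg (fun q => q.left.appTop w) (whiskerLeft_snd (sp R A) φ)
    exact this
  rw [h2, integral_tmul]

variable [HopfRep.Comod R A B] [GLin.IsCoactAlg R A B]

/-- Invariance under translation. -/
theorem integral_translate (α : A →ₗ[R] B) (hα : Hoch.IsComodHom A α)
    {W W' : Over (Spec (CommRingCat.of R))} [IsAffine W.left] [IsAffine W'.left]
    (φ : W' ⟶ W) (k : W' ⟶ sp R A) (x : W ⟶ sp R B) (f : Γ((sp R A ⊗ W).left, ⊤)) :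
    integral α (lift k (φ ≫ x) ≫ (action R A B).act)
        ((lift (fst (sp R A) W' * (snd (sp R A) W' ≫ k)) (snd (sp R A) W' ≫ φ)).left.appTop f) =
      φ.left.appTop (integral α x f) := by
  let v : sp R A ⊗ W' ⟶ sp R A ⊗ W := lift (fst (sp R A) W' * (snd (sp R A) W' ≫ k)) (snd (sp R A) W' ≫ φ)
  let x' : W' ⟶ sp R B := lift k (φ ≫ x) ≫ (action R A B).act
  refine DFunLike.congr_fun (hom_ext_prod (A := A)
    ((integral α x').comp v.left.appTop.hom.toAddMonoidHom)
    (φ.left.appTop.hom.toAddMonoidHom.comp (integral α x)) fun a w => ?_) f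
  show integral α x' (v.left.appTop (_ * _)) = φ.left.appTop (integral α x _)
  rw [map_mul v.left.appTop.hom, ← fn_comp, lift_fst, integral_tmul, map_mul φ.left.appTop.hom, ← fn_comp, fn_mul]
  have h2 : v.left.appTop ((snd (sp R A) W).left.appTop w) =
      (snd (sp R A) W').left.appTop (φ.left.appTop w) :=
    congrArg (fun q : sp R A ⊗ W' ⟶ W => q.left.appTop w)
      (show v ≫ snd (sp R A) W = snd (sp R A) W' ≫ φ from lift_snd _ _)
  rw [h2]
  suffices H : ∀ t : A ⊗[R] A,
      integral α x' (fn (pr (fst (sp R A) W') (snd (sp R A) W' ≫ k)) t *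
          (snd (sp R A) W').left.appTop (φ.left.appTop w)) =
        fn (pr (φ ≫ x) k) (twist α t) * φ.left.appTop w by
    rw [H, twist_comul α hα, fn_pr_tmul, map_one, mul_one]
  intro t
  induction t using TensorProduct.induction_on with
  | zero =>
    rw [map_zero (fn _), map_zero (twist α), map_zero (fn _), zero_mul, zero_mul]
    exact map_zero _
  | add p q hp hq => simp only [map_add, add_mul, hp, hq]
  | tmul a c =>
    rw [fn_pr_tmul, twist_tmul, map_mul (fn _), fn_pr_tmul, map_one (fn _), one_mul, ← fn_act, fn_comp, mul_assoc, ← map_mul,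
      integral_tmul, mul_assoc]

end Groth.Agent.StPush.Integral
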