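import Groth.Agent.StPush.QuotCover
import Groth.Agent.StPush.AverageOf
import Groth.Agent.StPush.Integral

/-!
# Averaging on quotient stacks of tame actions
-/

set_option autoImplicit false
set_option linter.unusedVariables false
set_option linter.unusedSectionVars false
set_option linter.style.haveILetI false
set_option backward.isDefEq.respectTransparency false
set_option backward.isDefEq.respectTransparency.types false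
set_option maxHeartbeats 1600000

universe u

open CategoryTheory CategoryTheory.Limits AlgebraicGeometry Opposite MonoidalCategory CartesianMonoidalCategory
  MonObj GrpObj FibCat Groth.Agent.QCoh Groth.Agent.StGen Groth.Agent.StDesc Groth.Agent.StFib
open CoactBr (sp)
open Groth.Agent.StPush.Integral

noncomputable section

namespace Groth.Agent.StPush.GoodQuot

variable {R A B : Type u} [CommRing R] [CommRing A] [HopfAlgebra R A] [CommRing B] [Algebra R B]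
  [HopfRep.Comod R A B] [GLin.IsCoactAlg R A B] {C : Type u} [CommRing C] [Algebra R C]
  (Q : QuotCover.Setup (sp R A) (sp R B) (sp R C) (CoactBr.action R A B))
  (ηw : (AlgSt.ofSch (sp R C)).obj) (hw : IsAffine ηw.base.left)
  (α : A →ₗ[R] B) (hα : Hoch.IsComodHom A α) (h1 : α 1 = 1)

local notation "𝒬" => AlgSt.QuotSt Scheme.fppfPrecoverage (sp R A) (CoactBr.action R A B)
local notation "qq" => AlgSt.quotMap Scheme.fppfPrecoverage (sp R A) (CoactBr.action R A B)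

local notation "GG" => sp R A

instance isAffine_sp (D : Type u) [CommRing D] [Algebra R D] : IsAffine (sp R D).left :=
  inferInstanceAs (IsAffine (Spec (CommRingCat.of D)))

instance : IsAffineHom (sp R A).hom :=
  inferInstanceAs (IsAffineHom (Spec.map (CommRingCat.ofHom (algebraMap R A))))

theorem homPt_whisker {a a' : (AlgSt.ofSch (sp R B)).obj} {Z : Over (Spec (CommRingCat.of R))} (b : a.base ⟶ a'.base)
    (g : a.base ⟶ sp R A) (hg : lift g (b ≫ a'.sec.down) ≫ (CoactBr.action R A B).act = a.sec.down) (c : a'.base ⟶ Z) :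
    (QuotTriv.homPt (K := Scheme.fppfPrecoverage) a a' b g hg).top ≫ (sp R A ◁ c) =
      lift (fst _ a.base * (snd _ a.base ≫ g)) (snd _ a.base ≫ b ≫ c) := by
  rw [QuotTriv.homPt_top, lift_whiskerLeft, Category.assoc]

theorem whisker_homPt {a a' : (AlgSt.ofSch (sp R B)).obj} {Z : Over (Spec (CommRingCat.of R))} (b : a.base ⟶ a'.base)
    (g : a.base ⟶ sp R A) (hg : lift g (b ≫ a'.sec.down) ≫ (CoactBr.action R A B).act = a.sec.down) (c : Z ⟶ a.base) :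
    (sp R A ◁ c) ≫ (QuotTriv.homPt (K := Scheme.fppfPrecoverage) a a' b g hg).top =
      lift (fst _ Z * (snd _ Z ≫ c ≫ g)) (snd _ Z ≫ c ≫ b) := by
  rw [QuotTriv.homPt_top, comp_lift, MonObj.comp_mul, whiskerLeft_fst, whiskerLeft_snd_assoc, whiskerLeft_snd_assoc]

abbrev W₁ : Over (Spec (CommRingCat.of R)) := GG ⊗ Q.P ηw
abbrev π₀ : W₁ Q ηw ⟶ Q.P ηw := snd GG (Q.P ηw)
abbrev π₁ : GG ⊗ W₁ Q ηw ⟶ W₁ Q ηw := snd GG (W₁ Q ηw)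
abbrev kk : GG ⊗ W₁ Q ηw ⟶ GG := π₁ Q ηw ≫ fst GG (Q.P ηw)
abbrev ub : GG ⊗ W₁ Q ηw ⟶ W₁ Q ηw := GG ◁ Q.aP ηw
abbrev vb : GG ⊗ W₁ Q ηw ⟶ W₁ Q ηw := lift (fst GG (W₁ Q ηw) * kk Q ηw) (π₁ Q ηw ≫ π₀ Q ηw)
abbrev a₁ : (AlgSt.ofSch (sp R B)).obj := QuotTriv.pt (π₀ Q ηw ≫ Q.pX ηw)
abbrev a₂ : (AlgSt.ofSch (sp R B)).obj := QuotTriv.pt (π₁ Q ηw ≫ π₀ Q ηw ≫ Q.pX ηw)
abbrev u₂ : (𝒬).obj := (qq).obj (a₂ Q ηw)

theorem mv_cond : vb Q ηw ≫ π₀ Q ηw ≫ Q.pX ηw = π₁ Q ηw ≫ π₀ Q ηw ≫ Q.pX ηw := by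
  rw [lift_snd_assoc, Category.assoc]

def pp : u₂ Q ηw ⟶ Q.u₁ ηw := (qq).map (show a₂ Q ηw ⟶ a₁ Q ηw from ⟨π₁ Q ηw, rfl⟩)
def mv : u₂ Q ηw ⟶ Q.u₁ ηw :=
  (qq).map (show a₂ Q ηw ⟶ a₁ Q ηw from ⟨vb Q ηw, congrArg ULift.up (mv_cond Q ηw)⟩)

theorem hu : lift (kk Q ηw)⁻¹ (ub Q ηw ≫ π₀ Q ηw ≫ Q.pX ηw) ≫ (CoactBr.action R A B).act =
    π₁ Q ηw ≫ π₀ Q ηw ≫ Q.pX ηw := by
  refine QuotTriv.inv_spec _ ?_
  rw [whiskerLeft_snd_assoc, pullback.lift_snd, ← comp_lift_assoc]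
  congr 1

def mu : u₂ Q ηw ⟶ Q.u₁ ηw := QuotTriv.homPt (a₂ Q ηw) (a₁ Q ηw) (ub Q ηw) (kk Q ηw)⁻¹ (hu Q ηw)

theorem eA : mv Q ηw ≫ Q.mp ηw = pp Q ηw ≫ Q.mp ηw := by
  refine ((qq).map_comp _ _).symm.trans (Eq.trans ?_ ((qq).map_comp _ _))
  exact congrArg (qq).map (Stk.EltObj.hom_ext (lift_snd _ _))

theorem eB : mu Q ηw ≫ Q.mp ηw = pp Q ηw ≫ Q.mq ηw := by
  refine AlgSt.QuotObj.hom_ext ?_ ?_
  · exact whiskerLeft_snd _ _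
  · rw [AlgSt.QuotObj.comp_top, AlgSt.QuotObj.comp_top]
    refine (homPt_whisker (a := a₂ Q ηw) (a' := a₁ Q ηw) (ub Q ηw) (kk Q ηw)⁻¹ (hu Q ηw) (snd GG (Q.P ηw))).trans ?_
    refine Eq.trans ?_ (whisker_homPt (a := a₁ Q ηw) (a' := QuotTriv.pt (Q.pX ηw)) (Q.aP ηw)
      (fst GG (Q.P ηw))⁻¹ _ (π₁ Q ηw)).symm
    rw [whiskerLeft_snd, GrpObj.comp_inv (π₁ Q ηw)]

theorem eC : mu Q ηw ≫ Q.mq ηw = mv Q ηw ≫ Q.mq ηw := by
  have eb : ub Q ηw ≫ Q.aP ηw = vb Q ηw ≫ Q.aP ηw := by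
    apply pullback.hom_ext
    · simp only [Category.assoc, pullback.lift_fst, whiskerLeft_snd_assoc, lift_snd_assoc]
    · have e1 : ub Q ηw = lift (fst GG (W₁ Q ηw)) (π₁ Q ηw ≫ Q.aP ηw) := by
        apply CartesianMonoidalCategory.hom_ext <;> simp
      have e2 : π₁ Q ηw ≫ (GG ◁ Q.pX ηw) = lift (kk Q ηw) (π₁ Q ηw ≫ π₀ Q ηw ≫ Q.pX ηw) := by
        apply CartesianMonoidalCategory.hom_ext <;> simp
      rw [e1]
      simp only [Category.assoc, pullback.lift_snd, lift_whiskerLeft_assoc, QuotTriv.act_mul]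
      rw [← Category.assoc (π₁ Q ηw) (GG ◁ Q.pX ηw), e2]
  refine AlgSt.QuotObj.hom_ext ?_ ?_
  · exact eb
  · rw [AlgSt.QuotObj.comp_top, AlgSt.QuotObj.comp_top]
    refine (QuotTriv.homPt_comp (K := Scheme.fppfPrecoverage) (a := a₂ Q ηw) (a' := a₁ Q ηw)
      (a'' := QuotTriv.pt (Q.pX ηw)) (ub Q ηw) (Q.aP ηw) (kk Q ηw)⁻¹ (fst GG (Q.P ηw))⁻¹ (hu Q ηw) _).trans ?_
    refine Eq.trans ?_ (whisker_homPt (a := a₁ Q ηw) (a' := QuotTriv.pt (Q.pX ηw)) (Q.aP ηw)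
      (fst GG (Q.P ηw))⁻¹ _ (vb Q ηw)).symm
    rw [eb, GrpObj.comp_inv (ub Q ηw), GrpObj.comp_inv (vb Q ηw), whiskerLeft_fst, lift_fst, _root_.mul_inv_rev]

include hα in
theorem n₂ [IsAffine (Q.P ηw).left] [IsAffine (W₁ Q ηw).left] (f : Γ((GG ⊗ Q.P ηw).left, ⊤)) :
    integral (W := W₁ Q ηw) α (Q.aP ηw ≫ Q.pX ηw) ((vb Q ηw).left.appTop f) =
      (π₀ Q ηw).left.appTop (integral (W := Q.P ηw) α (Q.pX ηw) f) := by
  have h := integral_translate α hα (π₀ Q ηw) (fst GG (Q.P ηw)) (Q.pX ηw) f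
  have e : lift (fst GG (Q.P ηw)) (π₀ Q ηw ≫ Q.pX ηw) ≫ (CoactBr.action R A B).act = Q.aP ηw ≫ Q.pX ηw := by
    rw [pullback.lift_snd]
    congr 1
  rw [e] at h
  exact h

include hw hα h1 in
/-- Averaging: a natural retraction onto the invariant sections. -/
theorem exists_average : ∃ γ₀ : Γ(StMod.sch 𝒬 (Q.u₁ ηw), ⊤) →+ Γ(StMod.sch 𝒬 (Q.u₀ ηw), ⊤),
    ∀ M : StMod.QCoh 𝒬, ∃ γM : Γ(M.obj.obj (Q.u₁ ηw), ⊤) →+ Γ(M.obj.obj (Q.u₀ ηw), ⊤),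
    (∀ f m, γM (f • pb M.obj (Q.mp ηw) (U := ⊤) ⊤ le_top m) = γ₀ f • m) ∧
    (∀ m, γM (pb M.obj (Q.mp ηw) (U := ⊤) ⊤ le_top m) = m) ∧
    (∀ m, pb M.obj (Q.mp ηw) (U := ⊤) ⊤ le_top (γM (pb M.obj (Q.mq ηw) (U := ⊤) ⊤ le_top m)) =
      pb M.obj (Q.mq ηw) (U := ⊤) ⊤ le_top (γM (pb M.obj (Q.mq ηw) (U := ⊤) ⊤ le_top m))) := by
  haveI hP := Q.isAffine_P ηw hw
  haveI hW₁ : IsAffine (W₁ Q ηw).left := (Q.finCover ηw hw).aff₁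
  haveI hW₂ : IsAffine (GG ⊗ W₁ Q ηw).left := by
    haveI : IsAffineHom (pullback.snd (sp R A).hom (W₁ Q ηw).hom) := MorphismProperty.pullback_snd _ _ inferInstance
    exact isAffine_of_isAffineHom (pullback.snd (sp R A).hom (W₁ Q ηw).hom)
  exact ⟨integral (W := Q.P ηw) α (Q.pX ηw), fun M => average_of M.property (Q.mp ηw) (Q.mq ηw) (pp Q ηw) (mu Q ηw) (mv Q ηw) hP hW₁ hW₂
    (eA Q ηw) (eB Q ηw) (eC Q ηw)
    (integral (W := Q.P ηw) α (Q.pX ηw)) (integral (W := W₁ Q ηw) α (Q.aP ηw ≫ Q.pX ηw))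
    (fun r f => integral_mul_snd α (Q.pX ηw) f r) (integral_one α h1 _)
    (fun r f => integral_mul_snd α (Q.aP ηw ≫ Q.pX ηw) f r)
    (fun f => integral_whisker α (Q.aP ηw) (Q.pX ηw) f) (fun f => n₂ Q ηw α hα f)⟩

include hw in
/-- The sections of the pushforward are the invariant sections at the covering object. -/
theorem exists_relSect (M : StMod.QCoh 𝒬) (m : Γ(M.obj.obj (Q.u₀ ηw), ⊤))
    (hm : pb M.obj (Q.mp ηw) (U := ⊤) ⊤ le_top m = pb M.obj (Q.mq ηw) (U := ⊤) ⊤ le_top m) :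
    ∃ t : StMod.Mod.RelSect Q.ρ M.obj ηw, t.1 (Q.u₀ ηw) (Q.o₀ ηw).hom = m := by
  let C₀ := Q.finCover ηw hw
  let h : Γ((StMod.O 𝒬).obj C₀.x₀.left, ⊤) →ₗ[Γ(StMod.sch 𝒬 C₀.x₀.left, ⊤)] Γ(M.obj.obj C₀.x₀.left, ⊤) :=
    { toFun := fun r => (show Γ(StMod.sch 𝒬 (Q.u₀ ηw), ⊤) from r) • m
      map_add' := fun r r' => add_smul (show Γ(StMod.sch 𝒬 (Q.u₀ ηw), ⊤) from r) r' m
      map_smul' := fun r r' => mul_smul r (show Γ(StMod.sch 𝒬 (Q.u₀ ηw), ⊤) from r') m }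
  have hh1 : h (oneSec C₀.x₀.left) = m := one_smul Γ(StMod.sch 𝒬 (Q.u₀ ηw), ⊤) m
  obtain ⟨χ, hχ⟩ := exists_ofHom_top (E := StMod.O 𝒬) (M := M.obj) Q.h𝒳 (StMod.OQ 𝒬).property M.property C₀ h
    fun w₁ w₂ e₁ e₂ => by
      refine LinearMap.ext fun s => ?_
      have a₁ := e₁ (oneSec C₀.x₀.left)
      have a₂ := e₂ (oneSec C₀.x₀.left)
      rw [pb_oneSec, hh1] at a₁ a₂
      rw [← smul_oneSec C₀.x₁.left s, map_smul, map_smul, a₁, a₂]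
      exact congrArg (_ • ·) hm
  obtain ⟨t, ht⟩ := exists_secRHom (π := Q.ρ) Q.h𝒳 M.property C₀ (ofHom χ)
  refine ⟨t, ?_⟩
  refine (ev_secRHom Q.ρ M.obj t (Q.o₀ ηw) C₀.aff₀).symm.trans ?_
  rw [ht]
  exact (hχ _).trans hh1

include hw in
theorem relSect_ext (M : StMod.QCoh 𝒬) (t t' : StMod.Mod.RelSect Q.ρ M.obj ηw)
    (h : t.1 (Q.u₀ ηw) (Q.o₀ ηw).hom = t'.1 (Q.u₀ ηw) (Q.o₀ ηw).hom) : t = t' := by
  refine secRHom_injective Q.h𝒳 M.property ?_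
  refine rHom_ext_cover Q.h𝒳 (StMod.OQ 𝒬).property M.property (Q.o₀ ηw) (Q.finCover ηw hw).aff₀
    (Q.finCover ηw hw).cover _ _ fun s => ?_
  rw [← smul_oneSec (Q.o₀ ηw).left s, ev_smul_arg, ev_smul_arg]
  have e1 := ev_secRHom Q.ρ M.obj t (Q.o₀ ηw) (Q.finCover ηw hw).aff₀
  have e2 := ev_secRHom Q.ρ M.obj t' (Q.o₀ ηw) (Q.finCover ηw hw).aff₀
  exact congrArg (_ • ·) (Eq.trans e1 (Eq.trans h e2.symm))

theorem relSect_inv (M : StMod.QCoh 𝒬) (t : StMod.Mod.RelSect Q.ρ M.obj ηw) :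
    pb M.obj (Q.mp ηw) (U := ⊤) ⊤ le_top (t.1 (Q.u₀ ηw) (Q.o₀ ηw).hom) =
      pb M.obj (Q.mq ηw) (U := ⊤) ⊤ le_top (t.1 (Q.u₀ ηw) (Q.o₀ ηw).hom) := by
  have h : ∀ (e : Q.u₁ ηw ⟶ Q.u₀ ηw), Q.ρ.map e ≫ (Q.o₀ ηw).hom = (Q.o₁ ηw).hom →
      pb M.obj e (U := ⊤) ⊤ le_top (t.1 (Q.u₀ ηw) (Q.o₀ ηw).hom) = t.1 (Q.u₁ ηw) (Q.o₁ ηw).hom := fun e he => by
    rw [pb_apply]
    exact (res_self _ le_top _).trans ((t.2 e _).trans (congrArg (t.1 _) he))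
  exact (h _ rfl).trans (h _ (Q.q_eq ηw)).symm

include hw hα h1 in
/-- Surjectivity on sections of the pushforward. -/
theorem relSectMap_surjective {F G : StMod.QCoh 𝒬} (v : F ⟶ G) (hv : StMod.Mod.IsSurj v.hom) :
    Function.Surjective (StMod.Mod.relSectMap Q.ρ v.hom ηw) := by
  intro t
  obtain ⟨m, hm⟩ := hv (Q.u₀ ηw) (Q.isAffine_P ηw hw) (t.1 (Q.u₀ ηw) (Q.o₀ ηw).hom)
  obtain ⟨γ₀, hγ⟩ := exists_average Q ηw hw α hα h1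
  obtain ⟨γF, hF₁, hF₂, hF₃⟩ := hγ F
  obtain ⟨γG, hG₁, hG₂, hG₃⟩ := hγ G
  obtain ⟨s, hs⟩ := exists_relSect Q ηw hw F (γF (pb F.obj (Q.mq ηw) (U := ⊤) ⊤ le_top m)) (hF₃ m)
  refine ⟨s, relSect_ext Q ηw hw G _ _ ?_⟩
  show (v.hom.app (Q.u₀ ηw)).app ⊤ (s.1 (Q.u₀ ηw) (Q.o₀ ηw).hom) = _
  rw [hs]
  have nat : ((v.hom.app (Q.u₀ ηw)).app ⊤).hom.comp γF = γG.comp ((v.hom.app (Q.u₁ ηw)).app ⊤).hom := by
    refine (semiLift F.property (Q.mp ηw) (Q.finCover ηw hw).aff₁ (Q.isAffine_P ηw hw)).2 _ _ fun f x => ?_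
    show (v.hom.app (Q.u₀ ηw)).app ⊤ (γF (f • _)) = γG ((v.hom.app (Q.u₁ ηw)).app ⊤ (f • _))
    rw [hF₁, Scheme.Modules.Hom.app_smul, Scheme.Modules.Hom.app_smul, pb_hom, hG₁]
  refine (DFunLike.congr_fun nat _).trans ?_
  show γG ((v.hom.app (Q.u₁ ηw)).app ⊤ (pb F.obj (Q.mq ηw) (U := ⊤) ⊤ le_top m)) = _
  rw [pb_hom, hm, ← relSect_inv Q ηw G t, hG₂]

end Groth.Agent.StPush.GoodQuot

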