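import Groth.Agent.StGen.FlatBC

/-!
Homomorphisms of quasi-coherent modules relative to an object of the target of a morphism, as natural
families of semilinear maps on global sections over affine objects; their flat base change.
-/

set_option autoImplicit false
set_option linter.style.haveILetI false
set_option linter.unusedSectionVars false
set_option backward.isDefEq.respectTransparency false
set_option backward.isDefEq.respectTransparency.types false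

universe u

open CategoryTheory CategoryTheory.Limits AlgebraicGeometry Opposite FibCat
open Groth.Agent.QCoh Groth.Agent.StDesc Groth.Agent.StGen
open scoped TensorProduct

noncomputable section

namespace Groth.Agent.StPush

variable {S : Scheme.{u}} {𝒳 𝒵 : AlgSt.Cat S} (π : 𝒳 ⥤ᵇ 𝒵) (E M : StMod.Mod 𝒳)

/-- All families of additive maps on global sections over affine objects over `w`. -/
abbrev PreHom (w : 𝒵.obj) :=
  ∀ o : {o : (StMod.fibCat π w).obj // IsAffine (StMod.sch 𝒳 o.left)},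
    (Γ(E.obj o.1.left, ⊤) →+ Γ(M.obj o.1.left, ⊤))

instance (w : 𝒵.obj) : AddCommGroup (PreHom π E M w) := Pi.addCommGroup

/-- The semilinear natural families. -/
def rHomSub (w : 𝒵.obj) : AddSubgroup (PreHom π E M w) where
  carrier := {φ | (∀ o h (r : Γ(StMod.sch 𝒳 o.left, ⊤)) s, φ ⟨o, h⟩ (r • s) = r • φ ⟨o, h⟩ s) ∧
    ∀ ⦃o' o : (StMod.fibCat π w).obj⦄ (a : o' ⟶ o) h' h (s : Γ(E.obj o.left, ⊤)),
      φ ⟨o', h'⟩ (pb E a.left (U := ⊤) ⊤ le_top s) = pb M a.left (U := ⊤) ⊤ le_top (φ ⟨o, h⟩ s)}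
  zero_mem' := ⟨fun o h r s => (smul_zero r).symm, fun o' o a h' h s => (map_zero _).symm⟩
  add_mem' := fun {φ ψ} hφ hψ => ⟨fun o h r s => by
      show φ ⟨o, h⟩ (r • s) + ψ ⟨o, h⟩ (r • s) = r • (φ ⟨o, h⟩ s + ψ ⟨o, h⟩ s)
      rw [hφ.1, hψ.1, smul_add],
    fun o' o a h' h s => by
      show φ ⟨o', h'⟩ _ + ψ ⟨o', h'⟩ _ = pb M a.left ⊤ le_top (φ ⟨o, h⟩ s + ψ ⟨o, h⟩ s)
      rw [hφ.2 a h' h s, hψ.2 a h' h s, map_add]⟩
  neg_mem' := fun {φ} hφ => ⟨fun o h r s => by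
      show -(φ ⟨o, h⟩ (r • s)) = r • -(φ ⟨o, h⟩ s)
      rw [hφ.1, smul_neg],
    fun o' o a h' h s => by
      show -(φ ⟨o', h'⟩ _) = pb M a.left ⊤ le_top (-(φ ⟨o, h⟩ s))
      rw [hφ.2 a h' h s, map_neg]⟩

/-- Homomorphisms relative to an object of the target. -/
abbrev RHom (w : 𝒵.obj) := ↥(rHomSub π E M w)

variable {π E M}

/-- The value of a relative homomorphism. -/
abbrev ev {w : 𝒵.obj} (φ : RHom π E M w) (o : (StMod.fibCat π w).obj) (h : IsAffine (StMod.sch 𝒳 o.left)) :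
    Γ(E.obj o.left, ⊤) →+ Γ(M.obj o.left, ⊤) := φ.1 ⟨o, h⟩

theorem ev_smul_arg {w : 𝒵.obj} (φ : RHom π E M w) (o : (StMod.fibCat π w).obj) (h)
    (r : Γ(StMod.sch 𝒳 o.left, ⊤)) (s : Γ(E.obj o.left, ⊤)) :
    ev φ o h (r • s) = r • ev φ o h s := φ.2.1 o h r s

theorem ev_natural {w : 𝒵.obj} (φ : RHom π E M w) {o' o : (StMod.fibCat π w).obj} (a : o' ⟶ o) (h') (h) (s) :
    ev φ o' h' (pb E a.left (U := ⊤) ⊤ le_top s) = pb M a.left (U := ⊤) ⊤ le_top (ev φ o h s) :=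
  φ.2.2 a h' h s

theorem RHom.ext {w : 𝒵.obj} {φ ψ : RHom π E M w} (h : ∀ o ho s, ev φ o ho s = ev ψ o ho s) : φ = ψ :=
  Subtype.ext (funext fun o => AddMonoidHom.ext (h o.1 o.2))

instance (w : 𝒵.obj) : SMul Γ(StMod.sch 𝒵 w, ⊤) (RHom π E M w) :=
  ⟨fun r φ => ⟨fun o => AddMonoidHom.mk' (fun s => (str π o.1).appLE ⊤ ⊤ le_top r • ev φ o.1 o.2 s)
      fun a b => by rw [map_add, smul_add],
    fun o h c s => by
      show (str π o).appLE ⊤ ⊤ le_top r • ev φ o h (c • s) = c • (str π o).appLE ⊤ ⊤ le_top r • ev φ o h s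
      rw [ev_smul_arg, ← mul_smul, ← mul_smul]
      exact congrArg (· • _) (mul_comm _ _),
    fun o' o a h' h s => by
      show (str π o').appLE ⊤ ⊤ le_top r • ev φ o' h' (pb E a.left ⊤ le_top s) =
        pb M a.left ⊤ le_top ((str π o).appLE ⊤ ⊤ le_top r • ev φ o h s)
      rw [pb_smul, ev_natural φ a h' h]
      congr 1
      exact (appLE_str a r).symm⟩⟩

theorem ev_smul {w : 𝒵.obj} (r : Γ(StMod.sch 𝒵 w, ⊤)) (φ : RHom π E M w) (o) (h) (s) :
    ev (r • φ) o h s = (str π o).appLE ⊤ ⊤ le_top r • ev φ o h s := rfl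

theorem ev_add {w : 𝒵.obj} (φ ψ : RHom π E M w) (o) (h) (s) :
    ev (φ + ψ) o h s = ev φ o h s + ev ψ o h s := rfl

theorem ev_sub {w : 𝒵.obj} (φ ψ : RHom π E M w) (o) (h) (s) :
    ev (φ - ψ) o h s = ev φ o h s - ev ψ o h s := rfl

instance (w : 𝒵.obj) : Module Γ(StMod.sch 𝒵 w, ⊤) (RHom π E M w) where
  one_smul φ := RHom.ext fun o h s => by rw [ev_smul, map_one, one_smul]
  mul_smul r r' φ := RHom.ext fun o h s => by rw [ev_smul, ev_smul, ev_smul, map_mul, mul_smul]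
  smul_zero r := RHom.ext fun o h s => by
    rw [ev_smul]
    exact smul_zero _
  smul_add r φ ψ := RHom.ext fun o h s => by rw [ev_smul, ev_add, ev_add, ev_smul, ev_smul, smul_add]
  add_smul r r' φ := RHom.ext fun o h s => by rw [ev_smul, ev_add, ev_smul, ev_smul, map_add, add_smul]
  zero_smul φ := RHom.ext fun o h s => by
    rw [ev_smul, map_zero, zero_smul]
    rfl

/-- Restriction of relative homomorphisms. -/
def rPull {w' w : 𝒵.obj} (b : w' ⟶ w) : RHom π E M w →+ RHom π E M w' :=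
  AddMonoidHom.mk'
    (fun φ => ⟨fun o => ev φ ((fibMap π b).obj o.1) o.2, fun o h r s => ev_smul_arg φ ((fibMap π b).obj o) h r s,
      fun o' o a h' h s => ev_natural φ ((fibMap π b).map a) h' h s⟩)
    fun φ ψ => rfl

theorem ev_rPull {w' w : 𝒵.obj} (b : w' ⟶ w) (φ : RHom π E M w) (o) (h) (s) :
    ev (rPull b φ) o h s = ev φ ((fibMap π b).obj o) h s := rfl

theorem rPull_smul {w' w : 𝒵.obj} (b : w' ⟶ w) (r : Γ(StMod.sch 𝒵 w, ⊤)) (φ : RHom π E M w) :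
    rPull b (r • φ) = (StMod.bmap 𝒵 b).appLE ⊤ ⊤ le_top r • rPull b φ :=
  RHom.ext fun o h s => by
    rw [ev_rPull, ev_smul, ev_smul, ev_rPull]
    congr 1
    exact (appLE_comp_apply _ _ (str_fibMap π b o) le_top le_top le_top r).symm

theorem rPull_rPull {w'' w' w : 𝒵.obj} (c : w'' ⟶ w') (b : w' ⟶ w) (φ : RHom π E M w) :
    rPull c (rPull b φ) = rPull (c ≫ b) φ :=
  RHom.ext fun o h s => by
    rw [ev_rPull, ev_rPull, ev_rPull]
    have key : ∀ (o₁ o₂ : (StMod.fibCat π w).obj) (_ : o₁ = o₂) (h₁ : IsAffine (StMod.sch 𝒳 o₁.left))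
        (h₂ : IsAffine (StMod.sch 𝒳 o₂.left)) (s₁ : Γ(E.obj o₁.left, ⊤)) (s₂ : Γ(E.obj o₂.left, ⊤))
        (_ : HEq s₁ s₂), HEq (ev φ o₁ h₁ s₁) (ev φ o₂ h₂ s₂) := by
      rintro o₁ o₂ rfl h₁ h₂ s₁ s₂ hs
      rw [eq_of_heq hs]
    refine eq_of_heq (key _ _ ?_ _ _ _ _ HEq.rfl)
    show CostructuredArrow.mk (Y := o.left) ((o.hom ≫ c) ≫ b) = CostructuredArrow.mk (Y := o.left) (o.hom ≫ c ≫ b)
    rw [Category.assoc]

theorem pb_comap_fibFst {w : 𝒵.obj} (G : StMod.Mod 𝒳) {o' o : (StMod.fibCat π w).obj} (a : o' ⟶ o)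
    {U : (StMod.sch 𝒳 o.left).Opens} (V : (StMod.sch 𝒳 o'.left).Opens)
    (h : V ≤ StMod.bmap 𝒳 a.left ⁻¹ᵁ U) (s : Γ(G.obj o.left, U)) :
    pb (StMod.Mod.comap (StMod.fibFst π w) G) a V h s = pb G a.left V h s := by
  rw [pb_apply, StMod.Mod.comap_map]
  erw [StMod.castMap_rfl, StMod.pushforwardCongr_hom_app_self, Category.comp_id]
  rfl

/-- The relative homomorphism of a morphism of modules. -/
def ofHom {w : 𝒵.obj} (χ : StMod.Mod.comap (StMod.fibFst π w) E ⟶ StMod.Mod.comap (StMod.fibFst π w) M) :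
    RHom π E M w :=
  ⟨fun o => ((χ.app o.1).app ⊤).hom, fun o _ r s => Scheme.Modules.Hom.app_smul (χ.app o) r s,
    fun o' o a _ _ s => by
      have := pb_hom (StMod.Mod.comap (StMod.fibFst π w) E) χ a (U := ⊤) ⊤ le_top s
      rw [pb_comap_fibFst, pb_comap_fibFst] at this
      exact this⟩

theorem ev_ofHom {w : 𝒵.obj} (χ : StMod.Mod.comap (StMod.fibFst π w) E ⟶ StMod.Mod.comap (StMod.fibFst π w) M)
    (o) (h) (s) : ev (ofHom χ) o h s = (χ.app o).app ⊤ s := rfl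

/-- Composition of relative homomorphisms with a morphism. -/
def rPost {N : StMod.Mod 𝒳} (v : M ⟶ N) (w : 𝒵.obj) : RHom π E M w →+ RHom π E N w :=
  AddMonoidHom.mk'
    (fun φ => ⟨fun o => AddMonoidHom.mk' (fun s => (v.app o.1.left).app ⊤ (ev φ o.1 o.2 s))
        fun a b => by rw [map_add, map_add],
      fun o h r s => by
        show (v.app o.left).app ⊤ (ev φ o h (r • s)) = r • (v.app o.left).app ⊤ (ev φ o h s)
        rw [ev_smul_arg, Scheme.Modules.Hom.app_smul],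
      fun o' o a h' h s => by
        show (v.app o'.left).app ⊤ (ev φ o' h' (pb E a.left ⊤ le_top s)) =
          pb N a.left ⊤ le_top ((v.app o.left).app ⊤ (ev φ o h s))
        rw [ev_natural φ a h' h, pb_hom]⟩)
    fun φ ψ => RHom.ext fun o h s => by
      show (v.app o.left).app ⊤ (ev φ o h s + ev ψ o h s) =
        (v.app o.left).app ⊤ (ev φ o h s) + (v.app o.left).app ⊤ (ev ψ o h s)
      exact map_add _ _ _

theorem ev_rPost {N : StMod.Mod 𝒳} (v : M ⟶ N) {w : 𝒵.obj} (φ : RHom π E M w) (o) (h) (s) :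
    ev (rPost v w φ) o h s = (v.app o.left).app ⊤ (ev φ o h s) := rfl

theorem rPost_rPull {N : StMod.Mod 𝒳} (v : M ⟶ N) {w' w : 𝒵.obj} (b : w' ⟶ w) (φ : RHom π E M w) :
    rPost v w' (rPull b φ) = rPull b (rPost v w φ) := RHom.ext fun _ _ _ => rfl

theorem rPost_smul {N : StMod.Mod 𝒳} (v : M ⟶ N) {w : 𝒵.obj} (r : Γ(StMod.sch 𝒵 w, ⊤)) (φ : RHom π E M w) :
    rPost v w (r • φ) = r • rPost v w φ :=
  RHom.ext fun o h s => by
    rw [ev_rPost, ev_smul, ev_smul, ev_rPost, Scheme.Modules.Hom.app_smul]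

section Ext

variable (h𝒳 : IsFibGrpd 𝒳.p) (hE : StMod.isQCoh 𝒳 E) (hM : StMod.isQCoh 𝒳 M)
include h𝒳 hE hM

/-- Relative homomorphisms are determined at an object mapping locally from every object. -/
theorem rHom_ext_cover {w : 𝒵.obj} (o₀ : (StMod.fibCat π w).obj) (h₀ : IsAffine (StMod.sch 𝒳 o₀.left))
    (hcov : ∀ (o : (StMod.fibCat π w).obj) (t : StMod.sch (StMod.fibCat π w) o),
      ∃ (y : (StMod.fibCat π w).obj) (a : y ⟶ o) (_ : y ⟶ o₀), IsNhd a t)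
    (φ ψ : RHom π E M w) (h : ∀ s, ev φ o₀ h₀ s = ev ψ o₀ h₀ s) : φ = ψ := by
  refine RHom.ext fun o ho s => ?_
  refine ext_flat hM.1 (ξ := o.left) (U := ⊤) _ _ fun t _ => ?_
  obtain ⟨y, a, b, ha₁, -, ⟨t', ht'⟩⟩ := hcov o t
  obtain ⟨_, ⟨W, hW, rfl⟩, hw, -⟩ := (StMod.sch (StMod.fibCat π w) y).isBasis_affineOpens.exists_subset_of_mem_open
    (show t' ∈ ((⊤ : (StMod.sch (StMod.fibCat π w) y).Opens) : Set _) from trivial) isOpen_univ
  obtain ⟨y', c, e, hc⟩ := exists_lift_mor (isFibGrpd_fibCat π h𝒳 w) y (Scheme.Opens.ι W)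
  haveI : IsAffine (W : Scheme.{u}) := hW
  haveI hy' : IsAffine (StMod.sch 𝒳 y'.left) := show IsAffine (StMod.sch (StMod.fibCat π w) y') from .of_isIso e.hom
  haveI := h₀
  refine ⟨y'.left, (c ≫ a).left, ?_, ?_, ?_⟩
  · show Flat (StMod.bmap (StMod.fibCat π w) (c ≫ a))
    haveI := ha₁
    rw [StMod.bmap_comp, hc]
    infer_instance
  · obtain ⟨q, hq⟩ := range_of_bmap c e _ hc ⟨t', hw⟩
    refine ⟨q, ?_⟩
    show StMod.bmap (StMod.fibCat π w) (c ≫ a) q = t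
    rw [StMod.bmap_comp, Scheme.Hom.comp_apply, hq]
    exact ht'
  · have key : ∀ e : Γ(E.obj y'.left, ⊤), ev φ y' hy' e = ev ψ y' hy' e := fun e => by
      refine bc_induction (bc_of_qcoh hE (c ≫ b).left (h := le_top) (isAffineOpen_top _) (isAffineOpen_top _))
        (fun e => ev φ y' hy' e = ev ψ y' hy' e) ((map_zero (ev φ y' hy')).trans (map_zero (ev ψ y' hy')).symm)
        (fun e => ?_) (fun r e he => by rw [ev_smul_arg, ev_smul_arg, he])
        (fun e e' he he' => by rw [map_add, map_add, he, he']) e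
      rw [ev_natural φ (c ≫ b) hy' h₀, ev_natural ψ (c ≫ b) hy' h₀, h]
    show pb M (c ≫ a).left ⊤ le_top (ev φ o ho s) = pb M (c ≫ a).left ⊤ le_top (ev ψ o ho s)
    rw [← ev_natural φ (c ≫ a) hy' ho, ← ev_natural ψ (c ≫ a) hy' ho, key]

/-- The object covering objects of the category over an object covers after a change of the object. -/
theorem cover_pb {w' w : 𝒵.obj} (h𝒵 : IsFibGrpd 𝒵.p) (b : w' ⟶ w) (C : FinCover (StMod.fibCat π w))
    (P : PbObj π b C.x₀) (o : (StMod.fibCat π w').obj) (t : StMod.sch (StMod.fibCat π w') o) :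
    ∃ (y : (StMod.fibCat π w').obj) (a : y ⟶ o) (_ : y ⟶ P.obj), IsNhd a t := by
  obtain ⟨y, a, c, ha⟩ := C.cover ((fibMap π b).obj o) t
  let y' : (StMod.fibCat π w').obj := CostructuredArrow.mk (Y := y.left) (π.map a.left ≫ o.hom)
  let a' : y' ⟶ o := CostructuredArrow.homMk a.left rfl
  let c' : (fibMap π b).obj y' ⟶ C.x₀ := CostructuredArrow.homMk c.left (by
    show π.map c.left ≫ C.x₀.hom = (π.map a.left ≫ o.hom) ≫ b
    rw [Category.assoc]
    exact (CostructuredArrow.w c).trans (CostructuredArrow.w a).symm)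
  obtain ⟨d, -⟩ := P.exists_lift h𝒳 h𝒵 c'
  exact ⟨y', a', d, ha⟩

/-- Relative homomorphisms over an object with a finite covering form a small set. -/
theorem small_rHom {w : 𝒵.obj} (C : FinCover (StMod.fibCat π w)) : Small.{u} (RHom π E M w) :=
  small_of_injective (β := Γ(E.obj C.x₀.left, ⊤) → Γ(M.obj C.x₀.left, ⊤))
    (f := fun φ s => ev φ C.x₀ C.aff₀ s)
    fun φ ψ h => rHom_ext_cover h𝒳 hE hM C.x₀ C.aff₀ C.cover φ ψ (congrFun h)

/-- A relative homomorphism with values prescribed at the covering object exists if the two pullbacks agree. -/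
theorem exists_ofHom_top {w : 𝒵.obj} (C : FinCover (StMod.fibCat π w))
    (h : Γ(E.obj C.x₀.left, ⊤) →ₗ[Γ(StMod.sch 𝒳 C.x₀.left, ⊤)] Γ(M.obj C.x₀.left, ⊤))
    (hh : ∀ (w₁ w₂ : Γ(E.obj C.x₁.left, ⊤) →ₗ[Γ(StMod.sch 𝒳 C.x₁.left, ⊤)] Γ(M.obj C.x₁.left, ⊤)),
      (∀ e, w₁ (pb E C.p.left (U := ⊤) ⊤ le_top e) = pb M C.p.left (U := ⊤) ⊤ le_top (h e)) →
      (∀ e, w₂ (pb E C.q.left (U := ⊤) ⊤ le_top e) = pb M C.q.left (U := ⊤) ⊤ le_top (h e)) → w₁ = w₂) :
    ∃ χ : StMod.Mod.comap (StMod.fibFst π w) E ⟶ StMod.Mod.comap (StMod.fibFst π w) M,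
      ∀ s, ev (ofHom χ) C.x₀ C.aff₀ s = h s := by
  haveI := C.aff₀
  haveI := C.aff₁
  obtain ⟨g₀, hg₀⟩ := exists_hom_of_top (G := StMod.Mod.comap (StMod.fibFst π w) E)
    (StMod.isQCoh_comap hE) ((StMod.Mod.comap (StMod.fibFst π w) M).obj C.x₀) h
  obtain ⟨χ, hχ⟩ := exists_hom_of_cover (isFibGrpd_fibCat π h𝒳 w) (StMod.isQCoh_comap hE) (StMod.isQCoh_comap hM)
    C g₀ fun t v₁ v₂ h₁ h₂ => by
      let lin : ((StMod.Mod.comap (StMod.fibFst π w) E).obj C.x₁ ⟶ (StMod.Mod.comap (StMod.fibFst π w) M).obj C.x₁) →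
          Γ(E.obj C.x₁.left, ⊤) →ₗ[Γ(StMod.sch 𝒳 C.x₁.left, ⊤)] Γ(M.obj C.x₁.left, ⊤) := fun v =>
        { toFun := fun e => v.app ⊤ e
          map_add' := fun a c => map_add _ a c
          map_smul' := fun r e => Scheme.Modules.Hom.app_smul v r e }
      refine LinearMap.congr_fun (hh (lin v₁) (lin v₂) (fun e => ?_) (fun e => ?_)) t
      · have := h₁ (U := ⊤) ⊤ le_top e
        rw [pb_comap_fibFst, pb_comap_fibFst, hg₀] at this
        exact this
      · have := h₂ (U := ⊤) ⊤ le_top e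
        rw [pb_comap_fibFst, pb_comap_fibFst, hg₀] at this
        exact this
  refine ⟨χ, fun s => ?_⟩
  rw [ev_ofHom, hχ]
  exact hg₀ s

/-- Every relative homomorphism over an object with a finite covering comes from a morphism. -/
theorem exists_ofHom {w : 𝒵.obj} (C : FinCover (StMod.fibCat π w)) (φ : RHom π E M w) :
    ∃ χ : StMod.Mod.comap (StMod.fibFst π w) E ⟶ StMod.Mod.comap (StMod.fibFst π w) M, ofHom χ = φ := by
  haveI := C.aff₀
  haveI := C.aff₁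
  haveI : IsAffine (StMod.sch 𝒳 C.x₁.left) := C.aff₁
  haveI : IsAffine (StMod.sch 𝒳 C.x₀.left) := C.aff₀
  let L : ∀ (o : (StMod.fibCat π w).obj) (h : IsAffine (StMod.sch 𝒳 o.left)),
      Γ(E.obj o.left, ⊤) →ₗ[Γ(StMod.sch 𝒳 o.left, ⊤)] Γ(M.obj o.left, ⊤) := fun o h =>
    { toFun := ev φ o h
      map_add' := map_add _
      map_smul' := fun r e => ev_smul_arg φ o h r e }
  obtain ⟨χ, hχ⟩ := exists_ofHom_top h𝒳 hE hM C (L C.x₀ C.aff₀) fun w₁ w₂ h₁ h₂ => by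
    rw [linearMap_ext_pb hE C.p.left w₁ (L C.x₁ C.aff₁) fun e => (h₁ e).trans (ev_natural φ C.p C.aff₁ C.aff₀ e).symm,
      linearMap_ext_pb hE C.q.left w₂ (L C.x₁ C.aff₁) fun e => (h₂ e).trans (ev_natural φ C.q C.aff₁ C.aff₀ e).symm]
  exact ⟨χ, rHom_ext_cover h𝒳 hE hM C.x₀ C.aff₀ C.cover _ _ fun s => hχ s⟩

end Ext

end Groth.Agent.StPush
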