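import Groth.Agent.StPush.Affine
import Groth.Agent.StPush.HomFlat
import Mathlib.Algebra.Module.Shrink

/-!
The quasi-coherent module of relative homomorphisms on the objects over an affine object, and its comparison
with relative homomorphisms, which is bijective over flat objects.
-/

set_option autoImplicit false
set_option linter.style.haveILetI false
set_option linter.unusedSectionVars false
set_option backward.isDefEq.respectTransparency false
set_option backward.isDefEq.respectTransparency.types false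

universe u

open CategoryTheory CategoryTheory.Limits AlgebraicGeometry Opposite FibCat
open Groth.Agent.QCoh Groth.Agent.StDesc Groth.Agent.StGen
open scoped TensorProduct

noncomputable section

namespace Groth.Agent.StPush

variable {S : Scheme.{u}} {𝒳 𝒵 : AlgSt.Cat S}

/-- A quasi-coherent module whose global sections are the relative homomorphisms over an object. -/
structure Model (π : 𝒳 ⥤ᵇ 𝒵) (E M : StMod.Mod 𝒳) (x₀ : 𝒵.obj) where
  /-- the module -/
  T : (StMod.sch 𝒵 x₀).Modules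
  qcoh : T.IsQuasicoherent
  /-- the identification -/
  e : RHom π E M x₀ →+ Γ(T, ⊤)
  e_bij : Function.Bijective e
  e_smul : ∀ (r : Γ(StMod.sch 𝒵 x₀, ⊤)) φ, e (r • φ) = r • e φ

variable {π : 𝒳 ⥤ᵇ 𝒵} {E M : StMod.Mod 𝒳} {x₀ : 𝒵.obj}

theorem exists_model (h𝒳 : IsFibGrpd 𝒳.p) (hE : StMod.isQCoh 𝒳 E) (hM : StMod.isQCoh 𝒳 M)
    [IsAffine (StMod.sch 𝒵 x₀)] (C₀ : FinCover (StMod.fibCat π x₀)) : Nonempty (Model π E M x₀) := by
  haveI := small_rHom h𝒳 hE hM C₀
  obtain ⟨T, hT, e, he⟩ := exists_module_top (StMod.sch 𝒵 x₀) (Shrink.{u} (RHom π E M x₀))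
  let L := Shrink.linearEquiv Γ(StMod.sch 𝒵 x₀, ⊤) (RHom π E M x₀)
  exact ⟨⟨T, hT, (e.comp L.symm.toLinearMap).toAddMonoidHom, he.comp L.symm.bijective,
    fun r φ => map_smul (e.comp L.symm.toLinearMap) r φ⟩⟩

variable (Q : Model π E M x₀) [IsAffine (StMod.sch 𝒵 x₀)]

/-- The module on the objects over `x₀`. -/
abbrev Model.K : StMod.Mod (Over₀ x₀) := pullMod Q.T

theorem Model.isQCoh_K : StMod.isQCoh (Over₀ x₀) Q.K :=
  haveI := Q.qcoh
  isQCoh_pullMod Q.T

/-- The generating sections. -/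
def Model.g (o : (Over₀ x₀).obj) : RHom π E M x₀ →+ Γ(Q.K.obj o, ⊤) := (gen Q.T o).comp Q.e

theorem Model.g_smul (o : (Over₀ x₀).obj) (r : Γ(StMod.sch 𝒵 x₀, ⊤)) (φ : RHom π E M x₀) :
    Q.g o (r • φ) = (toBase o).appLE ⊤ ⊤ le_top r • Q.g o φ :=
  (congrArg (gen Q.T o) (Q.e_smul r φ)).trans (gen_smul Q.T o r _)

theorem Model.pb_g {o' o : (Over₀ x₀).obj} (a : o' ⟶ o) (φ : RHom π E M x₀) :
    pb Q.K a ⊤ le_top (Q.g o φ) = Q.g o' φ := pb_gen Q.T a _

/-- Induction from the generating sections. -/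
theorem Model.induction (o : (Over₀ x₀).obj) [IsAffine (StMod.sch 𝒵 o.left)] (P : Γ(Q.K.obj o, ⊤) → Prop)
    (h0 : P 0) (hg : ∀ φ, P (Q.g o φ))
    (hsmul : ∀ (r : Γ(StMod.sch (Over₀ x₀) o, ⊤)) t, P t → P (r • t))
    (hadd : ∀ a c, P a → P c → P (a + c)) (t : Γ(Q.K.obj o, ⊤)) : P t := by
  haveI := Q.qcoh
  haveI : IsAffine (StMod.sch (Over₀ x₀) o) := ‹IsAffine (StMod.sch 𝒵 o.left)›
  letI := ((toBase o).appLE ⊤ ⊤ le_top).hom.toAlgebra
  letI := LimTop.secModule (toBase o) Q.T (U := ⊤) (W := ⊤) le_top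
  haveI : IsScalarTower Γ(StMod.sch 𝒵 x₀, ⊤) Γ(StMod.sch (Over₀ x₀) o, ⊤)
      Γ((Scheme.Modules.pullback (toBase o)).obj Q.T, ⊤) := IsScalarTower.of_algebraMap_smul fun _ _ => rfl
  refine IsBaseChange.inductionOn
    (LimTop.isBaseChange_unitSec (toBase o) Q.T le_top (isAffineOpen_top _) (isAffineOpen_top _))
    t P h0 (fun s => ?_) hsmul hadd
  obtain ⟨φ, rfl⟩ := Q.e_bij.2 s
  exact hg φ

set_option maxHeartbeats 1600000 in
/-- The comparison with relative homomorphisms exists. -/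
theorem Model.exists_iota (o : (Over₀ x₀).obj) [IsAffine (StMod.sch 𝒵 o.left)] :
    ∃ j : Γ(Q.K.obj o, ⊤) →+ RHom π E M o.left,
      (∀ (r : Γ(StMod.sch 𝒵 o.left, ⊤)) t, j (r • t) = r • j t) ∧
        ∀ φ, j (Q.g o φ) = rPull o.hom φ := by
  haveI := Q.qcoh
  haveI : IsAffine (StMod.sch (Over₀ x₀) o) := ‹IsAffine (StMod.sch 𝒵 o.left)›
  let A := Γ(StMod.sch 𝒵 x₀, ⊤)
  let B := Γ(StMod.sch 𝒵 o.left, ⊤)
  let b : o.left ⟶ x₀ := o.hom
  letI : Algebra A B := ((StMod.bmap 𝒵 b).appLE ⊤ ⊤ le_top).hom.toAlgebra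
  letI : Module A Γ((Scheme.Modules.pullback (toBase o)).obj Q.T, ⊤) :=
    LimTop.secModule (toBase o) Q.T (U := ⊤) (W := ⊤) le_top
  haveI : IsScalarTower A B Γ((Scheme.Modules.pullback (toBase o)).obj Q.T, ⊤) :=
    IsScalarTower.of_algebraMap_smul fun _ _ => rfl
  letI : Module A (RHom π E M o.left) := Module.compHom _ ((StMod.bmap 𝒵 b).appLE ⊤ ⊤ le_top).hom
  haveI : IsScalarTower A B (RHom π E M o.left) := IsScalarTower.of_algebraMap_smul fun _ _ => rfl
  let ee : RHom π E M x₀ ≃+ Γ(Q.T, ⊤) := AddEquiv.ofBijective Q.e Q.e_bij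
  let f : Γ(Q.T, ⊤) →ₗ[A] RHom π E M o.left :=
    { toFun := fun s => rPull b (ee.symm s)
      map_add' := fun p q => by rw [map_add, map_add]
      map_smul' := fun r s => by
        obtain ⟨φ, rfl⟩ := ee.surjective s
        rw [AddEquiv.symm_apply_apply, show r • ee φ = ee (r • φ) from (Q.e_smul r φ).symm,
          AddEquiv.symm_apply_apply]
        exact rPull_smul b r φ }
  have hb : IsBaseChange B (LimTop.unitSecLin (toBase o) Q.T (U := ⊤) (W := ⊤) le_top) :=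
    LimTop.isBaseChange_unitSec (toBase o) Q.T le_top (isAffineOpen_top _) (isAffineOpen_top _)
  refine ⟨(hb.lift f).toAddMonoidHom, fun r t => (hb.lift f).map_smul r t, fun φ => ?_⟩
  refine (hb.lift_eq f (Q.e φ)).trans ?_
  exact congrArg (rPull b) (ee.symm_apply_apply φ)

/-- The comparison with relative homomorphisms. -/
def Model.iota (o : (Over₀ x₀).obj) [IsAffine (StMod.sch 𝒵 o.left)] :
    Γ(Q.K.obj o, ⊤) →+ RHom π E M o.left := (Q.exists_iota o).choose

theorem Model.iota_smul (o : (Over₀ x₀).obj) [IsAffine (StMod.sch 𝒵 o.left)]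
    (r : Γ(StMod.sch 𝒵 o.left, ⊤)) (t : Γ(Q.K.obj o, ⊤)) : Q.iota o (r • t) = r • Q.iota o t :=
  (Q.exists_iota o).choose_spec.1 r t

theorem Model.iota_g (o : (Over₀ x₀).obj) [IsAffine (StMod.sch 𝒵 o.left)] (φ : RHom π E M x₀) :
    Q.iota o (Q.g o φ) = rPull o.hom φ :=
  (Q.exists_iota o).choose_spec.2 φ

set_option maxHeartbeats 1600000 in
theorem Model.iota_pb {o' o : (Over₀ x₀).obj} [IsAffine (StMod.sch 𝒵 o'.left)] [IsAffine (StMod.sch 𝒵 o.left)]
    (a : o' ⟶ o) (t : Γ(Q.K.obj o, ⊤)) :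
    Q.iota o' (pb Q.K a ⊤ le_top t) = rPull a.left (Q.iota o t) := by
  refine Q.induction o (fun t => Q.iota o' (pb Q.K a ⊤ le_top t) = rPull a.left (Q.iota o t))
    (by simp only [map_zero]) (fun φ => ?_) (fun r t ht => ?_) (fun p q hp hq => by simp only [map_add, hp, hq]) t
  · rw [Q.pb_g, Q.iota_g, Q.iota_g]
    exact (congrArg (fun m => rPull m φ) (CostructuredArrow.w a).symm).trans (rPull_rPull a.left o.hom φ).symm
  · rw [pb_smul, Q.iota_smul o r t, rPull_smul, ← ht]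
    exact Q.iota_smul o' _ _

set_option maxHeartbeats 1600000 in
/-- Over a flat object the comparison is bijective. -/
theorem Model.iota_bijective (h𝒳 : IsFibGrpd 𝒳.p) (h𝒵 : IsFibGrpd 𝒵.p) (hE : StMod.isQCoh 𝒳 E)
    (hM : StMod.isQCoh 𝒳 M) (C₀ : FinCover (StMod.fibCat π x₀))
    (hEfp : SheafOfModules.IsFinitePresentation.{u}
      (R := (StMod.sch 𝒳 C₀.x₀.left).ringCatSheaf) (E.obj C₀.x₀.left))
    (o : (Over₀ x₀).obj) [IsAffine (StMod.sch 𝒵 o.left)] (hf : Flat (toBase o)) :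
    Function.Bijective (Q.iota o) := by
  let b : o.left ⟶ x₀ := o.hom
  haveI : Flat (StMod.bmap 𝒵 b) := hf
  let A := Γ(StMod.sch 𝒵 x₀, ⊤)
  let B := Γ(StMod.sch 𝒵 o.left, ⊤)
  letI : Algebra A B := ((StMod.bmap 𝒵 b).appLE ⊤ ⊤ le_top).hom.toAlgebra
  letI : Module A (RHom π E M o.left) := Module.compHom _ ((StMod.bmap 𝒵 b).appLE ⊤ ⊤ le_top).hom
  haveI : IsScalarTower A B (RHom π E M o.left) := IsScalarTower.of_algebraMap_smul fun _ _ => rfl
  letI : Module A Γ(Q.K.obj o, ⊤) := Module.compHom _ ((StMod.bmap 𝒵 b).appLE ⊤ ⊤ le_top).hom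
  letI : Module B Γ(Q.K.obj o, ⊤) := inferInstanceAs (Module Γ(StMod.sch (Over₀ x₀) o, ⊤) Γ(Q.K.obj o, ⊤))
  haveI : IsScalarTower A B Γ(Q.K.obj o, ⊤) := IsScalarTower.of_algebraMap_smul fun _ _ => rfl
  have hR : IsBaseChange B (rPullLin π E M b) := isBaseChange_rPull h𝒳 h𝒵 hE hM b C₀ hEfp
  let f : RHom π E M x₀ →ₗ[A] Γ(Q.K.obj o, ⊤) :=
    { toFun := Q.g o
      map_add' := map_add _
      map_smul' := Q.g_smul o }
  let j := hR.lift f
  have hj : ∀ φ, j (rPull b φ) = Q.g o φ := fun φ => hR.lift_eq f φ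
  refine Function.bijective_iff_has_inverse.2 ⟨j, fun t => ?_, fun ψ => ?_⟩
  · refine Q.induction o (fun t => j (Q.iota o t) = t) (by simp only [map_zero]) (fun φ => ?_)
      (fun r t ht => ?_) (fun p q hp hq => by simp only [map_add, hp, hq]) t
    · rw [Q.iota_g]
      exact hj φ
    · rw [Q.iota_smul o r t]
      exact (j.map_smul r _).trans (congrArg (r • ·) ht)
  · refine hR.inductionOn ψ (fun ψ => Q.iota o (j ψ) = ψ) (by simp only [map_zero]) (fun φ => ?_)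
      (fun r ψ hψ => ?_) (fun p q hp hq => by simp only [map_add, hp, hq])
    · show Q.iota o (j (rPull b φ)) = rPull b φ
      rw [hj]
      exact Q.iota_g o φ
    · rw [j.map_smul]
      exact (Q.iota_smul o r _).trans (congrArg (r • ·) hψ)

end Groth.Agent.StPush
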