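import Groth.Agent.StPush.Theta

/-!
The quasi-coherent module of relative homomorphisms on the objects with a chosen morphism to the covering
object, and its functoriality.
-/

set_option autoImplicit false
set_option linter.style.haveILetI false
set_option linter.unusedSectionVars false
set_option backward.isDefEq.respectTransparency false
set_option backward.isDefEq.respectTransparency.types false

universe u

open CategoryTheory CategoryTheory.Limits AlgebraicGeometry Opposite FibCat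
open Groth.Agent.QCoh Groth.Agent.StDesc Groth.Agent.StGen

noncomputable section

namespace Groth.Agent.StPush

variable {S : Scheme.{u}} {𝒳 𝒵 : AlgSt.Cat S} {π : 𝒳 ⥤ᵇ 𝒵} {E M N : StMod.Mod 𝒳} (D : Datum π E M)

/-- The objects with a chosen morphism to the covering object. -/
abbrev Datum.Base : AlgSt.Cat S := Rig (BasedFunctor.id 𝒵) D.R.x₀

/-- An object with a chosen morphism. -/
abbrev Datum.bMk {y : 𝒵.obj} (b : y ⟶ D.R.x₀) : D.Base.obj := CostructuredArrow.mk (Y := y) b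

/-- Base change is kept by composition with a morphism bijective on sections. -/
theorem bcRaw_comp_bijective {X' X : Scheme.{u}} {g : X' ⟶ X} {M₀ : X.Modules} {P P' : X'.Modules}
    {m : M₀ ⟶ (Scheme.Modules.pushforward g).obj P} {φ : P ⟶ P'} {W : X.Opens} {V : X'.Opens}
    {h : V ≤ g ⁻¹ᵁ W} (b : BCRaw g m W V h) (hφ : Function.Bijective (φ.app V)) :
    BCRaw g (m ≫ (Scheme.Modules.pushforward g).map φ) W V h := by
  letI := (g.appLE W V h).hom.toAlgebra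
  letI := Module.compHom Γ(P, V) (g.appLE W V h).hom
  letI := Module.compHom Γ(P', V) (g.appLE W V h).hom
  haveI : IsScalarTower Γ(X, W) Γ(X', V) Γ(P, V) := IsScalarTower.of_algebraMap_smul fun _ _ => rfl
  haveI : IsScalarTower Γ(X, W) Γ(X', V) Γ(P', V) := IsScalarTower.of_algebraMap_smul fun _ _ => rfl
  have hb : IsBaseChange Γ(X', V) (rawLin g m W V h) := b
  let e : Γ(P, V) ≃ₗ[Γ(X', V)] Γ(P', V) := LinearEquiv.ofBijective
    { toFun := φ.app V
      map_add' := map_add _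
      map_smul' := fun r s => Scheme.Modules.Hom.app_smul φ r s } hφ
  refine IsBaseChange.of_equiv (hb.equiv ≪≫ₗ e) fun s => ?_
  rw [LinearEquiv.trans_apply, IsBaseChange.equiv_tmul, one_smul]
  exact app_res φ h _

theorem ovHom_congr {y' y x₀ : 𝒵.obj} {c c' : y' ⟶ y} (e : c = c') {a : y ⟶ x₀} {a' : y' ⟶ x₀}
    (h : c ≫ a = a') : ovHom c h = ovHom c' (e ▸ h) := by subst e; rfl

/-- The comparison maps of the module. -/
def Datum.fmap {o' o : D.Base.obj} (a : o' ⟶ o) {g : StMod.sch D.Base o' ⟶ StMod.sch D.Base o}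
    (hg : StMod.bmap D.Base a = g) :
    D.Q.K.obj (ov₀ o.hom) ⟶ (Scheme.Modules.pushforward g).obj (D.Q.K.obj (ov₀ o'.hom)) :=
  D.Q.K.map (ovHom a.hom (rfl : a.hom ≫ o.hom = a.hom ≫ o.hom)) hg ≫
    (Scheme.Modules.pushforward g).map
      (D.theta.app (pairMk (a.hom ≫ o.hom) o'.hom) :
        D.Q.K.obj (ov₀ (a.hom ≫ o.hom)) ⟶ D.Q.K.obj (ov₀ o'.hom))

theorem Datum.th_congr {y' y : 𝒵.obj} (c : y' ⟶ y) {b : y ⟶ D.R.x₀} {a' a'' : y' ⟶ D.R.x₀} (b' : y' ⟶ D.R.x₀)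
    (h : c ≫ b = a') (h' : c ≫ b = a'') {U : (StMod.sch 𝒵 y).Opens} (V : (StMod.sch 𝒵 y').Opens)
    (hV : V ≤ StMod.bmap 𝒵 c ⁻¹ᵁ U) (s : Γ(D.Q.K.obj (ov₀ b), U)) :
    D.th a' b' V (pb D.Q.K (ovHom c h) V hV s) = D.th a'' b' V (pb D.Q.K (ovHom c h') V hV s) := by
  subst h h'; rfl

theorem Datum.fmap_app {o' o : D.Base.obj} (a : o' ⟶ o) {U : (StMod.sch D.Base o).Opens}
    (V : (StMod.sch D.Base o').Opens) (hV : V ≤ StMod.bmap D.Base a ⁻¹ᵁ U)
    (s : Γ(D.Q.K.obj (ov₀ o.hom), U)) :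
    res (D.Q.K.obj (ov₀ o'.hom)) hV ((D.fmap a rfl).app U s) =
      D.th (a.hom ≫ o.hom) o'.hom V (pb D.Q.K (ovHom a.hom rfl) V hV s) := by
  refine (app_res (D.theta.app (pairMk (a.hom ≫ o.hom) o'.hom) :
    D.Q.K.obj (ov₀ (a.hom ≫ o.hom)) ⟶ D.Q.K.obj (ov₀ o'.hom)) hV _).symm.trans ?_
  rfl

set_option maxHeartbeats 1600000 in
/-- The module of relative homomorphisms. -/
def Datum.F : StMod.Mod D.Base where
  obj o := D.Q.K.obj (ov₀ o.hom)
  map a _ hg := D.fmap a hg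
  map_id o := by
    apply Scheme.Modules.hom_ext
    intro U
    refine ConcreteCategory.hom_ext _ _ fun (s : Γ(D.Q.K.obj (ov₀ o.hom), U)) => ?_
    have key : ∀ {g : StMod.sch D.Base o ⟶ StMod.sch D.Base o} (hg : StMod.bmap D.Base (𝟙 o) = g)
        (hU : U ≤ g ⁻¹ᵁ U),
        res (D.Q.K.obj (ov₀ o.hom)) hU ((D.fmap (𝟙 o) hg).app U s) = s := by
      intro g hg hU
      subst hg
      rw [D.fmap_app, D.th_congr (InducedCategory.Hom.hom (𝟙 o)) o.hom rfl (Category.id_comp o.hom)]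
      erw [D.th_id]
      have e : ovHom (InducedCategory.Hom.hom (𝟙 o)) (Category.id_comp o.hom) = 𝟙 (ov₀ o.hom) :=
        CostructuredArrow.hom_ext _ _ rfl
      refine (pb_congr D.Q.K e U hU s).trans ((pb_id D.Q.K _ le_rfl s).trans ?_)
      exact res_self _ le_rfl _
    exact (res_self _ le_rfl _).symm.trans (key (StMod.bmap_id o) le_rfl)
  map_comp {o'' o' o} c a {h g} hh hg := by
    subst hh hg
    apply Scheme.Modules.hom_ext
    intro U
    refine ConcreteCategory.hom_ext _ _ fun (s : Γ(D.Q.K.obj (ov₀ o.hom), U)) => ?_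
    have key : ∀ {m : StMod.sch D.Base o'' ⟶ StMod.sch D.Base o} (hm : StMod.bmap D.Base (c ≫ a) = m)
        (hV : StMod.bmap D.Base c ⁻¹ᵁ (StMod.bmap D.Base a ⁻¹ᵁ U) ≤ m ⁻¹ᵁ U),
        res (D.Q.K.obj (ov₀ o''.hom)) hV ((D.fmap (c ≫ a) hm).app U s) =
          (D.fmap c rfl).app _ ((D.fmap a rfl).app U s) := by
      intro m hm hV
      subst hm
      rw [D.fmap_app]
      conv_rhs =>
        rw [← res_self (D.Q.K.obj (ov₀ o'.hom)) le_rfl ((D.fmap a rfl).app U s),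
          ← res_self (D.Q.K.obj (ov₀ o''.hom)) le_rfl ((D.fmap c rfl).app _ _)]
      rw [D.fmap_app, D.fmap_app, ← D.th_pb c.hom (a' := c.hom ≫ a.hom ≫ o.hom) (b' := c.hom ≫ o'.hom) rfl rfl,
        D.th_th]
      rw [D.th_congr (InducedCategory.Hom.hom (c ≫ a)) o''.hom rfl (Category.assoc c.hom a.hom o.hom)]
      congr 1
      refine (pb_congr D.Q.K (φ' := ovHom c.hom rfl ≫ ovHom a.hom rfl) (CostructuredArrow.hom_ext _ _ rfl) _ hV s).trans
        (pb_pb D.Q.K (ovHom c.hom rfl) (ovHom a.hom rfl) _ le_rfl le_rfl _ s).symm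
    exact (res_self _ le_rfl _).symm.trans (key _ le_rfl)

theorem Datum.pb_F {o' o : D.Base.obj} (a : o' ⟶ o) {U : (StMod.sch D.Base o).Opens}
    (V : (StMod.sch D.Base o').Opens) (hV : V ≤ StMod.bmap D.Base a ⁻¹ᵁ U) (s : Γ(D.F.obj o, U)) :
    pb D.F a V hV s = D.th (a.hom ≫ o.hom) o'.hom V (pb D.Q.K (ovHom a.hom rfl) V hV s) := by
  rw [pb_apply]
  exact D.fmap_app a V hV s

theorem Datum.th_bijective {y : 𝒵.obj} (a b : y ⟶ D.R.x₀) (V : (StMod.sch 𝒵 y).Opens) :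
    Function.Bijective (D.th a b V) :=
  Function.bijective_iff_has_inverse.2 ⟨D.th b a V, fun s => (D.th_th a b a V s).trans (D.th_id a V s),
    fun s => (D.th_th b a b V s).trans (D.th_id b V s)⟩

theorem Datum.isQCoh_F : StMod.isQCoh D.Base D.F := by
  refine isQCoh_of_bc _ fun {o' o} a W V h hW hV => ?_
  exact bcRaw_comp_bijective (bc_of_qcoh D.Q.isQCoh_K (ovHom a.hom (rfl : a.hom ≫ o.hom = a.hom ≫ o.hom)) h hW hV)
    (D.th_bijective (a.hom ≫ o.hom) o'.hom V)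

/-- The module as a quasi-coherent module. -/
abbrev Datum.FQ : StMod.QCoh D.Base := ⟨D.F, D.isQCoh_F⟩

/-- The datum of another target module. -/
abbrev Datum.change (hN : StMod.isQCoh 𝒳 N) (Q' : Model π E N D.R.x₀) : Datum π E N :=
  ⟨D.h𝒳, D.h𝒵, D.hE, hN, D.R, D.C₀, D.fp, Q'⟩

set_option maxHeartbeats 800000 in
/-- Composition with a morphism of target modules gives a morphism of the modules over `x₀`. -/
theorem Datum.exists_post (hN : StMod.isQCoh 𝒳 N) (Q' : Model π E N D.R.x₀) (v : M ⟶ N) :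
    ∃ w : D.Q.K ⟶ Q'.K, ∀ (o : (Over₀ D.R.x₀).obj) [IsAffine (StMod.sch 𝒵 o.left)]
      (t : Γ(D.Q.K.obj o, ⊤)), Q'.iota o ((w.app o).app ⊤ t) = rPost v o.left (D.Q.iota o t) := by
  let i₀ : (Over₀ D.R.x₀).obj := ov₀ (𝟙 D.R.x₀)
  haveI : IsAffine (StMod.sch (Over₀ D.R.x₀) i₀) := D.R.aff₀
  have hflat : Flat (StMod.bmap 𝒵 (𝟙 D.R.x₀)) := by rw [StMod.bmap_id]; infer_instance
  let e' : Γ(Q'.K.obj i₀, ⊤) ≃+ RHom π E N D.R.x₀ :=
    AddEquiv.ofBijective (Q'.iota i₀) ((D.change hN Q').iota_bij (𝟙 _) hflat)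
  let j : Γ(D.Q.K.obj i₀, ⊤) →ₗ[Γ(StMod.sch (Over₀ D.R.x₀) i₀, ⊤)] Γ(Q'.K.obj i₀, ⊤) :=
    { toFun := fun t => e'.symm (rPost v D.R.x₀ (D.Q.iota i₀ t))
      map_add' := fun t t' => by erw [map_add, map_add, map_add]
      map_smul' := fun r t => e'.injective (by
        show e' (e'.symm _) = Q'.iota i₀ _
        rw [AddEquiv.apply_symm_apply]
        erw [D.Q.iota_smul i₀ r t, rPost_smul, Q'.iota_smul i₀ r]
        exact congrArg (fun z : RHom π E N D.R.x₀ => (show Γ(StMod.sch 𝒵 D.R.x₀, ⊤) from r) • z)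
          (e'.apply_symm_apply _).symm) }
  obtain ⟨g, hg⟩ := exists_hom_of_top D.Q.isQCoh_K (Q'.K.obj i₀) j
  have hterm : ∀ (z : (Over₀ D.R.x₀).obj) (b b' : z ⟶ i₀), b = b' := fun z b b' =>
    CostructuredArrow.hom_ext _ _ ((Category.comp_id b.left).symm.trans
      ((CostructuredArrow.w b).trans ((CostructuredArrow.w b').symm.trans (Category.comp_id b'.left))))
  have hid : ∀ (z : (Over₀ D.R.x₀).obj) (w : StMod.sch (Over₀ D.R.x₀) z), IsNhd (𝟙 z) w := fun z w =>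
    ⟨by rw [StMod.bmap_id]; infer_instance, by rw [StMod.bmap_id]; infer_instance,
      ⟨w, by rw [StMod.bmap_id]; rfl⟩⟩
  obtain ⟨w, hw⟩ := exists_hom_of_pairs (isFibGrpd_fibCat _ D.h𝒵 D.R.x₀) D.Q.isQCoh_K Q'.isQCoh_K (x₀ := i₀)
    (fun z t => ⟨z, 𝟙 z, CostructuredArrow.homMk z.hom (Category.comp_id _), hid z t⟩) g
    fun z b b' t => ⟨z, 𝟙 z, i₀, 𝟙 i₀, 𝟙 i₀, b, hid z t,
      (Category.comp_id b).trans (Category.id_comp b).symm,
      (Category.comp_id b).trans ((hterm z b b').trans (Category.id_comp b').symm),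
      fun w₁ w₂ h₁ h₂ => ext_of_pb D.Q.isQCoh_K.1 (𝟙 i₀) w₁ w₂ fun U s =>
        (h₁ _ le_rfl s).trans (h₂ _ le_rfl s).symm⟩
  refine ⟨w, fun o ho t => ?_⟩
  haveI := ho
  refine D.Q.induction o (fun t => Q'.iota o ((w.app o).app ⊤ t) = rPost v o.left (D.Q.iota o t))
    (by simp only [map_zero]) (fun φ => ?_) (fun r t ht => ?_) (fun p q hp hq => by simp only [map_add, hp, hq]) t
  · let a : o ⟶ i₀ := CostructuredArrow.homMk o.hom (Category.comp_id _)
    rw [← D.Q.pb_g a φ, pb_hom D.Q.K w a, Q'.iota_pb, D.Q.iota_pb, rPost_rPull, hw]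
    refine congrArg (rPull a.left) ?_
    exact (congrArg (Q'.iota i₀) (hg _)).trans (e'.apply_symm_apply _)
  · let r' : Γ(StMod.sch 𝒵 o.left, ⊤) := r
    have h1 : (w.app o).app ⊤ (r • t) = r • (w.app o).app ⊤ t := Scheme.Modules.Hom.app_smul (w.app o) r t
    have h2 : Q'.iota o (r • (w.app o).app ⊤ t) = r' • Q'.iota o ((w.app o).app ⊤ t) := Q'.iota_smul o r' _
    have h3 : D.Q.iota o (r • t) = r' • D.Q.iota o t := D.Q.iota_smul o r' t
    exact (congrArg (Q'.iota o) h1).trans (h2.trans ((congrArg (fun z : RHom π E N o.left => r' • z) ht).trans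
      ((rPost_smul v r' _).symm.trans (congrArg (rPost v o.left) h3.symm))))

set_option maxHeartbeats 800000 in
/-- Composition with a morphism of target modules gives a morphism of the modules of relative homomorphisms. -/
theorem Datum.exists_Fpost (hN : StMod.isQCoh 𝒳 N) (Q' : Model π E N D.R.x₀) (v : M ⟶ N) :
    ∃ w : D.F ⟶ (D.change hN Q').F, ∀ {y : 𝒵.obj} (b : y ⟶ D.R.x₀) [IsAffine (StMod.sch 𝒵 y)]
      (t : Γ(D.Q.K.obj (ov₀ b), ⊤)),
        Q'.iota (ov₀ b) ((w.app (D.bMk b)).app ⊤ t) = rPost v y (D.Q.iota (ov₀ b) t) := by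
  let D' := D.change hN Q'
  obtain ⟨w, hw⟩ := D.exists_post hN Q' v
  let A := StMod.fibFst (StMod.fibFst (BasedFunctor.id 𝒵) D.R.x₀) D.R.x₀
  let B := pairSnd D.R.x₀
  have hθ : D.theta ≫ StMod.Mod.comapMap B w = StMod.Mod.comapMap A w ≫ D'.theta := by
    refine hom_ext_cover (StMod.isQCoh_comap D.Q.isQCoh_K).1 (StMod.isQCoh_comap Q'.isQCoh_K).1
      D.cover_pair _ _ ?_
    haveI : IsAffine (StMod.sch (Pair D.R.x₀) (pairMk D.R.p D.R.q)) := D.R.aff₁
    refine hom_ext_top (G := D.KA) (StMod.isQCoh_comap D.Q.isQCoh_K) _ _ fun t => ?_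
    show (w.app (ov₀ D.R.q)).app ⊤ (D.th D.R.p D.R.q ⊤ t) = D'.th D.R.p D.R.q ⊤ ((w.app (ov₀ D.R.p)).app ⊤ t)
    apply (D'.iota_bij D.R.q D.R.flat_q).1
    refine (hw (ov₀ D.R.q) _).trans (Eq.trans ?_ (D'.iota_th (𝟙 D.R.x₁) (Category.id_comp _) (Category.id_comp _) _).symm)
    refine (congrArg (rPost v D.R.x₁) (D.iota_th (𝟙 D.R.x₁) (Category.id_comp _) (Category.id_comp _) t)).trans ?_
    exact (hw (ov₀ D.R.p) t).symm
  have hth : ∀ {y : 𝒵.obj} (a b : y ⟶ D.R.x₀) (V : (StMod.sch 𝒵 y).Opens) (s : Γ(D.Q.K.obj (ov₀ a), V)),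
      (w.app (ov₀ b)).app V (D.th a b V s) = D'.th a b V ((w.app (ov₀ a)).app V s) := fun a b V s =>
    congrArg (fun m : D.KA ⟶ D'.KB => (m.app (pairMk a b)).app V s) hθ
  refine ⟨{ app := fun o => w.app (ov₀ o.hom), comm := fun {o' o} a g hg => ?_ },
    fun {y} b hy t => hw (ov₀ b) t⟩
  subst hg
  apply Scheme.Modules.hom_ext
  intro U
  refine ConcreteCategory.hom_ext _ _ fun (s : Γ(D.Q.K.obj (ov₀ o.hom), U)) => ?_
  show (w.app (ov₀ o'.hom)).app _ ((D.fmap a rfl).app U s) = (D'.fmap a rfl).app U ((w.app (ov₀ o.hom)).app U s)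
  rw [← res_self (D.Q.K.obj (ov₀ o'.hom)) le_rfl ((D.fmap a rfl).app U s),
    ← res_self (Q'.K.obj (ov₀ o'.hom)) le_rfl ((D'.fmap a rfl).app U _)]
  refine (congrArg ((w.app (ov₀ o'.hom)).app _) (D.fmap_app a _ le_rfl s)).trans
    (Eq.trans ?_ (D'.fmap_app a _ le_rfl _).symm)
  rw [hth]
  exact congrArg (D'.th _ _ _) (pb_hom D.Q.K w (ovHom a.hom rfl) _ le_rfl s)

end Groth.Agent.StPush
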