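import Groth.Prelude.Def_CoactBr

/-!
# Points of affine schemes over an affine base as ring homomorphisms
-/

set_option autoImplicit false
set_option backward.isDefEq.respectTransparency false
set_option backward.isDefEq.respectTransparency.types false
universe u

open CategoryTheory AlgebraicGeometry MonoidalCategory CartesianMonoidalCategory Opposite CoactBr
open scoped TensorProduct MonObj

attribute [local instance] CoactBr.braidedAlgSpecOf

namespace Groth.Agent.StPush.PtEval

variable {R : Type u} [CommRing R]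

/-- The ring homomorphism of a point. -/
noncomputable def fn {C : Type u} [CommRing C] [Algebra R C] {W : Over (Spec (CommRingCat.of R))} (x : W ⟶ sp R C) :
    C →+* Γ(W.left, ⊤) :=
  ((Scheme.ΓSpecIso (CommRingCat.of C)).inv ≫ x.left.appTop).hom

theorem fn_comp {C : Type u} [CommRing C] [Algebra R C] {W W' : Over (Spec (CommRingCat.of R))} (k : W' ⟶ W)
    (x : W ⟶ sp R C) (c : C) : fn (k ≫ x) c = k.left.appTop (fn x c) := rfl

theorem fn_comp_pt {C D : Type u} [CommRing C] [Algebra R C] [CommRing D] [Algebra R D]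
    {W : Over (Spec (CommRingCat.of R))} (x : W ⟶ sp R D) (φ : C →ₐ[R] D) (c : C) :
    fn (x ≫ pt φ) c = fn x (φ c) := by
  have h : (Scheme.ΓSpecIso (CommRingCat.of C)).inv ≫ (pt φ).left.appTop =
      CommRingCat.ofHom φ.toRingHom ≫ (Scheme.ΓSpecIso (CommRingCat.of D)).inv := by
    rw [pt_left]
    exact (Scheme.ΓSpecIso_inv_naturality _).symm
  exact congrArg x.left.appTop.hom (congrArg (fun q => q.hom c) h)

variable {C D : Type u} [CommRing C] [Algebra R C] [CommRing D] [Algebra R D]

/-- The pair of two points. -/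
noncomputable def pr {W : Over (Spec (CommRingCat.of R))} (g : W ⟶ sp R C) (h : W ⟶ sp R D) : W ⟶ sp R (C ⊗[R] D) :=
  lift g h ≫ Functor.LaxMonoidal.μ (algSpec (CommRingCat.of R)) (op (.of R C)) (op (.of R D))

theorem μ_pt (φ : C →ₐ[R] C ⊗[R] D) (hφ : φ = Algebra.TensorProduct.includeLeft) :
    Functor.LaxMonoidal.μ (algSpec (CommRingCat.of R)) (op (.of R C)) (op (.of R D)) ≫ pt φ = fst (sp R C) (sp R D) := by
  subst hφ
  exact Functor.Monoidal.μ_fst (algSpec (CommRingCat.of R)) (op (.of R C)) (op (.of R D))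

theorem μ_pt' (φ : D →ₐ[R] C ⊗[R] D) (hφ : φ = Algebra.TensorProduct.includeRight) :
    Functor.LaxMonoidal.μ (algSpec (CommRingCat.of R)) (op (.of R C)) (op (.of R D)) ≫ pt φ = snd (sp R C) (sp R D) := by
  subst hφ
  exact Functor.Monoidal.μ_snd (algSpec (CommRingCat.of R)) (op (.of R C)) (op (.of R D))

theorem pr_left {W : Over (Spec (CommRingCat.of R))} (g : W ⟶ sp R C) (h : W ⟶ sp R D) :
    pr g h ≫ pt Algebra.TensorProduct.includeLeft = g := by
  rw [pr, Category.assoc, μ_pt _ rfl, lift_fst]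

theorem pr_right {W : Over (Spec (CommRingCat.of R))} (g : W ⟶ sp R C) (h : W ⟶ sp R D) :
    pr g h ≫ pt Algebra.TensorProduct.includeRight = h := by
  rw [pr, Category.assoc, μ_pt' _ rfl, lift_snd]

theorem fn_pr_tmul {W : Over (Spec (CommRingCat.of R))} (g : W ⟶ sp R C) (h : W ⟶ sp R D) (c : C) (d : D) :
    fn (pr g h) (c ⊗ₜ[R] d) = fn g c * fn h d := by
  rw [show c ⊗ₜ[R] d = Algebra.TensorProduct.includeLeft (S := R) c * Algebra.TensorProduct.includeRight d by simp,
    map_mul, ← fn_comp_pt, ← fn_comp_pt, pr_left, pr_right]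

variable {A : Type u} [CommRing A] [HopfAlgebra R A]

theorem mul_eq {W : Over (Spec (CommRingCat.of R))} (g h : W ⟶ sp R A) :
    g * h = pr g h ≫ pt (Bialgebra.comulAlgHom R A) := by
  have e : pt (Algebra.TensorProduct.includeLeft : A →ₐ[R] A ⊗[R] A) * pt Algebra.TensorProduct.includeRight =
      pt (Bialgebra.comulAlgHom R A) := by
    rw [pt_mul_pt]
    congr 1
    have : Algebra.TensorProduct.lift (Algebra.TensorProduct.includeLeft : A →ₐ[R] A ⊗[R] A)
        Algebra.TensorProduct.includeRight (fun _ _ => .all _ _) = AlgHom.id R _ :=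
      Algebra.TensorProduct.ext' fun a b => by simp
    rw [this, AlgHom.id_comp]
  rw [← e, MonObj.comp_mul, pr_left, pr_right]

theorem inv_eq {W : Over (Spec (CommRingCat.of R))} (g : W ⟶ sp R A) :
    g⁻¹ = g ≫ pt (HopfAlgebra.antipodeAlgHom R A) := by
  have e : (pt (AlgHom.id R A))⁻¹ = pt (HopfAlgebra.antipodeAlgHom R A) := by rw [pt_inv, AlgHom.id_comp]
  rw [← e, GrpObj.comp_inv, pt_id, Category.comp_id]

theorem fn_mul {W : Over (Spec (CommRingCat.of R))} (g h : W ⟶ sp R A) (a : A) :
    fn (g * h) a = fn (pr g h) (CoalgebraStruct.comul a) := by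
  rw [mul_eq, fn_comp_pt]; rfl

variable {B : Type u} [CommRing B] [Algebra R B] [HopfRep.Comod R A B] [GLin.IsCoactAlg R A B]

theorem fn_act {W : Over (Spec (CommRingCat.of R))} (g : W ⟶ sp R A) (x : W ⟶ sp R B) (b : B) :
    fn (lift g x ≫ (action R A B).act) b = fn (pr x g)
      (Algebra.TensorProduct.map (AlgHom.id R B) (HopfAlgebra.antipodeAlgHom R A)
        (HopfRep.Comod.coact (k := R) (A := A) b)) := by
  rw [lift_action_act]
  show fn (lift x g⁻¹ ≫ Functor.LaxMonoidal.μ (algSpec (CommRingCat.of R)) (op (.of R B)) (op (.of R A)) ≫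
    pt (GLin.coactAlgHom R A B)) b = _
  rw [← Category.assoc, fn_comp_pt]
  show fn (pr x g⁻¹) (HopfRep.Comod.coact (k := R) (A := A) b) = _
  induction HopfRep.Comod.coact (k := R) (A := A) b using TensorProduct.induction_on with
  | zero => simp
  | add p q hp hq => simp only [map_add, hp, hq]
  | tmul p q => simp [fn_pr_tmul, inv_eq, fn_comp_pt]

end Groth.Agent.StPush.PtEval
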