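import Groth.Agent.StFib.QuotTrivCart
import Groth.Agent.StFib.QuotDesc
import Groth.Agent.StPush.CohDesc

/-!
# The torsor covering of the fibres of a map from a quotient stack
-/

set_option autoImplicit false
set_option linter.unusedVariables false
set_option linter.style.haveILetI false
set_option backward.isDefEq.respectTransparency false
set_option backward.isDefEq.respectTransparency.types false
set_option maxHeartbeats 800000

universe u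

open CategoryTheory CategoryTheory.Limits AlgebraicGeometry Opposite MonoidalCategory CartesianMonoidalCategory
  MonObj GrpObj FibCat Groth.Agent.StGen Groth.Agent.StFib

noncomputable section

namespace Groth.Agent.StPush.QuotCover

variable {S : Scheme.{u}} {G X Y : Over S} [GrpObj G] {aX : AlgGrp.Action G X}

/-- The setting: a map from the quotient stack over a map of `X`. -/
structure Setup (G X Y : Over S) [GrpObj G] (aX : AlgGrp.Action G X) where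
  qY : X ⟶ Y
  ρ : AlgSt.QuotSt Scheme.fppfPrecoverage G aX ⥤ᵇ AlgSt.ofSch Y
  hρ : BasedFunctor.comp (AlgSt.quotMap Scheme.fppfPrecoverage G aX) ρ = AlgSt.ofSpMap ((AlgSp.yon S).map qY)
  h𝒳 : IsFibGrpd (AlgSt.QuotSt Scheme.fppfPrecoverage G aX).p
  inv : aX.act ≫ qY = snd G X ≫ qY

variable (Q : Setup G X Y aX)

local notation "qq" => AlgSt.quotMap Scheme.fppfPrecoverage G aX

theorem Setup.hobj (a : (AlgSt.ofSch X).obj) :
    Q.ρ.obj ((qq).obj a) = (AlgSt.ofSpMap ((AlgSp.yon S).map Q.qY)).obj a :=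
  congrArg (fun F => F.obj a) Q.hρ

theorem Setup.hom_ext {ηw : (AlgSt.ofSch Y).obj} (ξ : (AlgSt.QuotSt Scheme.fppfPrecoverage G aX).obj)
    (α α' : Q.ρ.obj ξ ⟶ ηw) (e : StMod.baseOver Q.ρ ξ α = StMod.baseOver Q.ρ ξ α') : α = α' := by
  simp only [StMod.baseOver] at e
  exact Stk.EltObj.hom_ext ((cancel_epi (eqToHom _)).1 e)

theorem Setup.exists_over {ηw : (AlgSt.ofSch Y).obj} (a : (AlgSt.ofSch X).obj) (b : a.base ⟶ ηw.base)
    (hb : b ≫ ηw.sec.down = a.sec.down ≫ Q.qY) :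
    ∃ α : Q.ρ.obj ((qq).obj a) ⟶ ηw, StMod.baseOver Q.ρ ((qq).obj a) α = b := by
  let β : (AlgSt.ofSpMap ((AlgSp.yon S).map Q.qY)).obj a ⟶ ηw := ⟨b, congrArg ULift.up hb⟩
  refine ⟨eqToHom (Q.hobj a) ≫ β, ?_⟩
  simp only [StMod.baseOver, Functor.map_comp, eqToHom_map, eqToHom_trans_assoc]
  exact Category.id_comp b

theorem Setup.cond {ηw : (AlgSt.ofSch Y).obj} (a : (AlgSt.ofSch X).obj) (α : Q.ρ.obj ((qq).obj a) ⟶ ηw) :
    StMod.baseOver Q.ρ ((qq).obj a) α ≫ ηw.sec.down = a.sec.down ≫ Q.qY := by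
  have e := (eqToHom (Q.hobj a).symm ≫ α).map_sec
  have hb : StMod.baseOver Q.ρ ((qq).obj a) α = (eqToHom (Q.hobj a).symm ≫ α).hom := by
    change _ = (Stk.EltObj.forget _).map (eqToHom (Q.hobj a).symm ≫ α)
    simp only [StMod.baseOver, Functor.map_comp, eqToHom_map]
  rw [hb]
  exact congrArg ULift.down e

variable (ηw : (AlgSt.ofSch Y).obj)

abbrev Setup.P : Over S := pullback ηw.sec.down Q.qY
abbrev Setup.pB : Q.P ηw ⟶ ηw.base := pullback.fst ηw.sec.down Q.qY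
abbrev Setup.pX : Q.P ηw ⟶ X := pullback.snd ηw.sec.down Q.qY

/-- The translated point. -/
abbrev Setup.aP : G ⊗ Q.P ηw ⟶ Q.P ηw :=
  pullback.lift (snd G _ ≫ Q.pB ηw) ((G ◁ Q.pX ηw) ≫ aX.act) (by
    rw [Category.assoc, pullback.condition, Category.assoc, Q.inv, whiskerLeft_snd_assoc])

abbrev Setup.u₀ : (AlgSt.QuotSt Scheme.fppfPrecoverage G aX).obj := (qq).obj (QuotTriv.pt (Q.pX ηw))

theorem Setup.exists_α₀ : ∃ α : Q.ρ.obj (Q.u₀ ηw) ⟶ ηw, StMod.baseOver Q.ρ (Q.u₀ ηw) α = Q.pB ηw :=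
  Q.exists_over (QuotTriv.pt (Q.pX ηw)) (Q.pB ηw) pullback.condition

/-- The covering object. -/
def Setup.o₀ : (StMod.fibCat Q.ρ ηw).obj := CostructuredArrow.mk (Y := Q.u₀ ηw) (Q.exists_α₀ ηw).choose

abbrev Setup.u₁ : (AlgSt.QuotSt Scheme.fppfPrecoverage G aX).obj :=
  (qq).obj (QuotTriv.pt (snd G (Q.P ηw) ≫ Q.pX ηw))

/-- The first projection of the pair object. -/
abbrev Setup.mp : Q.u₁ ηw ⟶ Q.u₀ ηw :=
  (qq).map (show (QuotTriv.pt (snd G (Q.P ηw) ≫ Q.pX ηw) : (AlgSt.ofSch X).obj) ⟶ QuotTriv.pt (Q.pX ηw) from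
    ⟨snd G (Q.P ηw), rfl⟩)

/-- The second projection of the pair object. -/
abbrev Setup.mq : Q.u₁ ηw ⟶ Q.u₀ ηw :=
  QuotTriv.homPt (QuotTriv.pt (snd G (Q.P ηw) ≫ Q.pX ηw)) (QuotTriv.pt (Q.pX ηw)) (Q.aP ηw) (fst G (Q.P ηw))⁻¹
    (by
      refine QuotTriv.inv_spec aX ?_
      show lift (fst G (Q.P ηw)) (snd G (Q.P ηw) ≫ Q.pX ηw) ≫ aX.act = Q.aP ηw ≫ Q.pX ηw
      rw [pullback.lift_snd]
      refine congrArg (· ≫ aX.act) ?_
      apply CartesianMonoidalCategory.hom_ext <;> simp)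

/-- The pair object. -/
def Setup.o₁ : (StMod.fibCat Q.ρ ηw).obj :=
  CostructuredArrow.mk (Y := Q.u₁ ηw) (Q.ρ.map (Q.mp ηw) ≫ (Q.o₀ ηw).hom)

theorem Setup.base₀ : StMod.baseOver Q.ρ (Q.u₀ ηw) (Q.o₀ ηw).hom = Q.pB ηw := (Q.exists_α₀ ηw).choose_spec

theorem Setup.baseOver_map {z z' : (AlgSt.QuotSt Scheme.fppfPrecoverage G aX).obj} (φ : z' ⟶ z)
    (α : Q.ρ.obj z ⟶ ηw) : StMod.baseOver Q.ρ z' (Q.ρ.map φ ≫ α) = φ.base ≫ StMod.baseOver Q.ρ z α :=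
  (StMod.map_comp_baseOver Q.ρ φ α).symm

theorem Setup.q_eq : Q.ρ.map (Q.mq ηw) ≫ (Q.o₀ ηw).hom = (Q.o₁ ηw).hom := Q.hom_ext _ _ _ (by
  show _ = StMod.baseOver Q.ρ (Q.u₁ ηw) (Q.ρ.map (Q.mp ηw) ≫ (Q.o₀ ηw).hom)
  rw [Q.baseOver_map, Q.baseOver_map, Q.base₀]
  show Q.aP ηw ≫ Q.pB ηw = snd G (Q.P ηw) ≫ Q.pB ηw
  rw [pullback.lift_fst])

def Setup.hp : Q.o₁ ηw ⟶ Q.o₀ ηw := CostructuredArrow.homMk (Q.mp ηw) rfl
def Setup.hq : Q.o₁ ηw ⟶ Q.o₀ ηw := CostructuredArrow.homMk (Q.mq ηw) (Q.q_eq ηw)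

/-- Every object of the fibre is, locally, pulled back from the covering object. -/
theorem Setup.exists_nhd_triv (z : (StMod.fibCat Q.ρ ηw).obj) (t : StMod.sch (StMod.fibCat Q.ρ ηw) z) :
    ∃ (a : (AlgSt.ofSch X).obj) (o : (StMod.fibCat Q.ρ ηw).obj) (c : o ⟶ z) (_ : o ⟶ Q.o₀ ηw),
      IsNhd c t ∧ o.left = (qq).obj a := by
  obtain ⟨R, hR, hsec⟩ := QuotTriv.exists_sieve_secs z.left
  obtain ⟨V, g, y, ν, hg, hl, hn⟩ := StGen.exists_nhd (𝒵 := StMod.fibCat Q.ρ ηw) (isFibGrpd_fibCat Q.ρ Q.h𝒳 ηw) (z := z) hR t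
  obtain ⟨s, hs⟩ := hsec g hg
  let a : (AlgSt.ofSch X).obj := QuotTriv.pt (s ≫ z.left.φ)
  let φ := QuotTriv.homTriv (K := Scheme.fppfPrecoverage) a z.left g s hs rfl
  let α := Q.ρ.map φ ≫ z.hom
  obtain ⟨l, hl₁, hl₂⟩ := (IsPullback.of_hasPullback ηw.sec.down Q.qY).exists_lift
    (StMod.baseOver Q.ρ ((qq).obj a) α) (s ≫ z.left.φ) (Q.cond a α)
  let m : a ⟶ QuotTriv.pt (Q.pX ηw) := ⟨l, congrArg ULift.up hl₂⟩
  let o : (StMod.fibCat Q.ρ ηw).obj := CostructuredArrow.mk (Y := (qq).obj a) α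
  let c : o ⟶ z := CostructuredArrow.homMk φ rfl
  refine ⟨a, o, c, CostructuredArrow.homMk ((qq).map m) ?_, ?_, rfl⟩
  · refine Q.hom_ext _ _ _ ?_
    refine (Q.baseOver_map _ _ _).trans ?_
    show l ≫ StMod.baseOver Q.ρ (Q.u₀ ηw) (Q.o₀ ηw).hom = StMod.baseOver Q.ρ ((qq).obj a) α
    rw [Q.base₀]
    exact hl₁
  · obtain ⟨ey, hν⟩ : ∃ ey : (StMod.fibCat Q.ρ ηw).p.obj y = V,
        (StMod.fibCat Q.ρ ηw).p.map ν = eqToHom ey ≫ g :=
      ⟨IsHomLift.domain_eq (StMod.fibCat Q.ρ ηw).p g ν,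
        (IsHomLift.fac' (StMod.fibCat Q.ρ ηw).p g ν).trans (by simp)⟩
    refine exists_isNhd_of_p (a' := c) (a := ν) ey.symm rfl ?_ t (by simpa using hn)
    show g = eqToHom ey.symm ≫ (StMod.fibCat Q.ρ ηw).p.map ν ≫ eqToHom _
    rw [hν, Category.assoc, eqToHom_trans_assoc, eqToHom_refl, Category.id_comp]
    simp

theorem Setup.exists_nhd_pair (z : (StMod.fibCat Q.ρ ηw).obj) (a b : z ⟶ Q.o₀ ηw)
    (t : StMod.sch (StMod.fibCat Q.ρ ηw) z) :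
    ∃ (y : (StMod.fibCat Q.ρ ηw).obj) (c : y ⟶ z) (d : y ⟶ Q.o₁ ηw),
      IsNhd c t ∧ d ≫ Q.hp ηw = c ≫ a ∧ d ≫ Q.hq ηw = c ≫ b := by
  obtain ⟨x, o, c, -, hn, ho⟩ := Q.exists_nhd_triv ηw z t
  obtain ⟨ol, or', oh⟩ := o
  change ol = (qq).obj x at ho
  subst ho
  let fa : (qq).obj x ⟶ (qq).obj (QuotTriv.pt (Q.pX ηw)) := (c ≫ a).left
  let fb : (qq).obj x ⟶ (qq).obj (QuotTriv.pt (Q.pX ηw)) := (c ≫ b).left
  obtain ⟨ga, hga, hta⟩ := QuotTriv.exists_pt fa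
  obtain ⟨gb, hgb, htb⟩ := QuotTriv.exists_pt fb
  let k : x.base ⟶ G := gb⁻¹ * ga
  let l : x.base ⟶ G ⊗ Q.P ηw := lift k fa.base
  have hfib : fa.base ≫ Q.pB ηw = fb.base ≫ Q.pB ηw := by
    have h1 := congrArg (StMod.baseOver Q.ρ _) ((CostructuredArrow.w (c ≫ a)).trans (CostructuredArrow.w (c ≫ b)).symm)
    rw [← Q.base₀]
    exact (Q.baseOver_map _ _ _).symm.trans (h1.trans (Q.baseOver_map _ _ _))
  have hl : l ≫ Q.aP ηw = fb.base := by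
    apply pullback.hom_ext
    · rw [Category.assoc, pullback.lift_fst, lift_snd_assoc]
      exact hfib
    · rw [Category.assoc, pullback.lift_snd, lift_whiskerLeft_assoc, QuotTriv.act_mul, hga]
      exact QuotTriv.inv_spec aX hgb
  have hgd : lift ga (l ≫ snd G (Q.P ηw) ≫ Q.pX ηw) ≫ aX.act = x.sec.down := by
    rw [lift_snd_assoc]
    exact hga
  let d₀ : (qq).obj x ⟶ Q.u₁ ηw := QuotTriv.homPt x (QuotTriv.pt (snd G (Q.P ηw) ≫ Q.pX ηw)) l ga hgd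
  have e1 : d₀ ≫ Q.mp ηw = fa := by
    refine AlgSt.QuotObj.hom_ext ?_ ?_
    · exact lift_snd _ _
    · rw [hta, AlgSt.QuotObj.comp_top]
      show d₀.top ≫ (G ◁ snd G (Q.P ηw)) = _
      rw [QuotTriv.homPt_top, lift_whiskerLeft]
      congr 1
      rw [Category.assoc, lift_snd]
  have e2 : d₀ ≫ Q.mq ηw = fb := by
    refine AlgSt.QuotObj.hom_ext ?_ ?_
    · exact hl
    · rw [htb, AlgSt.QuotObj.comp_top]
      refine (QuotTriv.homPt_comp (K := Scheme.fppfPrecoverage) (aX := aX) (a := x)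
        (a' := QuotTriv.pt (snd G (Q.P ηw) ≫ Q.pX ηw)) (a'' := QuotTriv.pt (Q.pX ηw))
        l (Q.aP ηw) ga (fst G (Q.P ηw))⁻¹ hgd _).trans ?_
      rw [hl, comp_inv, lift_fst, _root_.mul_inv_rev, _root_.inv_inv, ← _root_.mul_assoc, _root_.mul_inv_cancel, _root_.one_mul]
  refine ⟨_, c, CostructuredArrow.homMk d₀ ?_, hn, CostructuredArrow.hom_ext _ _ e1, CostructuredArrow.hom_ext _ _ e2⟩
  show Q.ρ.map d₀ ≫ Q.ρ.map (Q.mp ηw) ≫ (Q.o₀ ηw).hom = oh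
  rw [← Functor.map_comp_assoc, e1]
  exact CostructuredArrow.w (c ≫ a)

variable [IsAffineHom G.hom] [IsAffine S] [IsAffine X.left] [IsAffine Y.left]

theorem Setup.isAffine_P (hw : IsAffine ηw.base.left) : IsAffine (Q.P ηw).left :=
  haveI := hw
  haveI : IsAffine (pullback ηw.sec.down.left Q.qY.left) := inferInstance
  @IsAffine.of_isIso _ _ ((IsPullback.of_hasPullback ηw.sec.down Q.qY).map (Over.forget S)).isoPullback.hom _ this

/-- The torsor covering of the fibre. -/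
def Setup.finCover (hw : IsAffine ηw.base.left) : FinCover (StMod.fibCat Q.ρ ηw) where
  x₀ := Q.o₀ ηw
  x₁ := Q.o₁ ηw
  p := Q.hp ηw
  q := Q.hq ηw
  aff₀ := Q.isAffine_P ηw hw
  aff₁ := by
    haveI := Q.isAffine_P ηw hw
    haveI : IsAffineHom (pullback.snd G.hom (Q.P ηw).hom) := MorphismProperty.pullback_snd _ _ ‹_›
    exact isAffine_of_isAffineHom (pullback.snd G.hom (Q.P ηw).hom)
  cover := fun z t => by
    obtain ⟨a, o, c, d, hn, -⟩ := Q.exists_nhd_triv ηw z t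
    exact ⟨o, c, d, hn⟩
  cover₂ := Q.exists_nhd_pair ηw

end Groth.Agent.StPush.QuotCover
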