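import Groth.Agent.StGen.FinCover
import Groth.Agent.StGen.Fib
import Groth.Agent.StDesc.Desc
import Groth.Agent.AlgSp.InfGlue

/-!
The category of objects with a chosen morphism to a covering object: it is locally equivalent to the
whole category, so morphisms and generating families can be computed on it.
-/

set_option autoImplicit false
set_option linter.style.haveILetI false
set_option linter.unusedSectionVars false
set_option backward.isDefEq.respectTransparency false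
set_option backward.isDefEq.respectTransparency.types false

universe u

open CategoryTheory CategoryTheory.Limits AlgebraicGeometry Opposite FibCat
open Groth.Agent.QCoh Groth.Agent.StDesc Groth.Agent.StGen

noncomputable section

namespace Groth.Agent.StPush

variable {S : Scheme.{u}} {𝒳 𝒵 : AlgSt.Cat S}

/-- An affine atlas with an affine object covering the pairs and flat comparisons of lifts of pairs. -/
structure Pres (𝒵 : AlgSt.Cat S) extends FinCover 𝒵 where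
  flat_p : Flat (StMod.bmap 𝒵 p)
  flat_q : Flat (StMod.bmap 𝒵 q)
  cover₃ : ∀ (z : 𝒵.obj) (d d' : z ⟶ x₁), d ≫ p = d' ≫ p → d ≫ q = d' ≫ q → ∀ w : StMod.sch 𝒵 z,
    ∃ (y : 𝒵.obj) (c : y ⟶ z) (x₂ : 𝒵.obj) (_ : IsAffine (StMod.sch 𝒵 x₂)) (e e' : x₂ ⟶ x₁) (k : y ⟶ x₂),
      IsNhd c w ∧ e ≫ p = e' ≫ p ∧ e ≫ q = e' ≫ q ∧ Flat (StMod.bmap 𝒵 e) ∧
        k ≫ e = c ≫ d ∧ k ≫ e' = c ≫ d'

/-- Neighbourhoods of an image object lift. -/
theorem exists_lift_nhd (π : 𝒳 ⥤ᵇ 𝒵) (h𝒳 : IsFibGrpd 𝒳.p) (h𝒵 : IsFibGrpd 𝒵.p) {z : 𝒳.obj} {y : 𝒵.obj}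
    (a : y ⟶ π.obj z) (t : StMod.sch 𝒳 z) (ha : IsNhd a (eqToHom (StMod.sch_obj_eq π z).symm t)) :
    ∃ (z' : 𝒳.obj) (c : z' ⟶ z) (k : π.obj z' ⟶ y), IsNhd c t ∧ k ≫ a = π.map c := by
  let e := eqToHom (StMod.sch_obj_eq π z)
  obtain ⟨z', c, i, hc⟩ := exists_lift_mor h𝒳 z (StMod.bmap 𝒵 a ≫ e)
  obtain ⟨k, hk, -⟩ := exists_fac h𝒵 a (π.map c) (eqToHom (StMod.sch_obj_eq π z') ≫ i.hom) (by
    rw [← cancel_epi (eqToHom (StMod.sch_obj_eq π z').symm), ← bmap_eqToHom π c, hc]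
    simp [e])
  obtain ⟨h1, h2, t₀, ht₀⟩ := ha
  refine ⟨z', c, k, ⟨by rw [hc]; infer_instance, by rw [hc]; infer_instance, ?_⟩, hk⟩
  refine range_of_bmap c i _ hc t₀ |> fun ⟨q, hq⟩ => ⟨q, hq.trans ?_⟩
  show e (StMod.bmap 𝒵 a t₀) = t
  rw [ht₀]
  show (eqToHom (StMod.sch_obj_eq π z).symm ≫ e) t = t
  simp [e]

variable (π : 𝒳 ⥤ᵇ 𝒵) (x₀ : 𝒵.obj)

/-- Objects with a chosen morphism of their image to `x₀`, with all morphisms. -/
def Rig : AlgSt.Cat S where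
  obj := InducedCategory 𝒳.obj (fun o : (StMod.fibCat π x₀).obj => o.left)
  p := inducedFunctor _ ⋙ 𝒳.p

/-- Forgetting the chosen morphism. -/
def rigFst : Rig π x₀ ⥤ᵇ 𝒳 where
  toFunctor := inducedFunctor _
  w := rfl

/-- The object with a chosen morphism. -/
abbrev rigMk {y : 𝒳.obj} (b : π.obj y ⟶ x₀) : (Rig π x₀).obj := CostructuredArrow.mk (Y := y) b

variable {π x₀}

theorem invariant_rigFst (F : StMod.Mod (Rig π x₀)) : Invariant (rigFst π x₀) F := by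
  intro x' x a b h U V ha hb s
  exact pb_congr F (InducedCategory.hom_ext (show a.hom = b.hom from h)) V ha s

theorem isFibGrpd_rig (h𝒳 : IsFibGrpd 𝒳.p) : IsFibGrpd (Rig π x₀).p where
  exists_lift {x V} g := by
    obtain ⟨y, e, φ, hφ⟩ := StFib.grpd_exists_lift h𝒳 x.left g
    refine ⟨rigMk π x₀ (π.map φ ≫ x.hom), InducedCategory.homMk φ, ?_⟩
    exact IsHomLift.of_fac' _ _ _ e rfl
      (show 𝒳.p.map φ = eqToHom e ≫ g ≫ eqToHom rfl by rw [hφ, eqToHom_refl, Category.comp_id])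
  isStronglyCartesian {y x} φ :=
    { toIsHomLift := inferInstance
      universal_property' := fun {z} g ψ hψ => by
        have e : g ≫ 𝒳.p.map φ.hom = 𝒳.p.map ψ.hom :=
          haveI := hψ
          IsHomLift.eq_of_isHomLift (Rig π x₀).p (g ≫ (Rig π x₀).p.map φ) ψ
        obtain ⟨χ, h1, h2⟩ := StFib.grpd_exists_fac h𝒳 φ.hom ψ.hom g e
        refine ⟨InducedCategory.homMk χ, ⟨?_, InducedCategory.hom_ext h2⟩, fun χ' hχ' => ?_⟩
        · subst h1
          exact IsHomLift.of_fac' _ _ _ rfl rfl (by simp; rfl)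
        · obtain ⟨h3, h4⟩ := hχ'
          exact InducedCategory.hom_ext (StFib.grpd_cancel h𝒳 φ.hom
            ((congrArg InducedCategory.Hom.hom h4).trans h2.symm)
            ((IsHomLift.eq_of_isHomLift (Rig π x₀).p g χ').symm.trans h1.symm)) }

/-- Forgetting the chosen morphism is a local equivalence if every object has neighbourhoods over `x₀`. -/
theorem locEquiv_rigFst (h𝒳 : IsFibGrpd 𝒳.p) (h𝒵 : IsFibGrpd 𝒵.p)
    (hcov : ∀ (z : 𝒵.obj) (w : StMod.sch 𝒵 z), ∃ (y : 𝒵.obj) (a : y ⟶ z) (_ : y ⟶ x₀), IsNhd a w) :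
    LocEquiv (rigFst π x₀) := by
  refine ⟨isFibGrpd_rig h𝒳, h𝒳, fun z => ?_, fun o o' b hb => ⟨⊤, (QuotSh.J _ S).top_mem _, fun V g _ => ?_⟩⟩
  · choose y a b hn using hcov (π.obj z)
    choose z' c k hc hk using fun t : StMod.sch 𝒳 z =>
      exists_lift_nhd π h𝒳 h𝒵 (a (eqToHom (StMod.sch_obj_eq π z).symm t)) t (hn _)
    refine ⟨Sieve.ofArrows (fun t => 𝒳.p.obj (z' t)) (fun t => 𝒳.p.map (c t)), ?_, fun V g hg => ?_⟩
    · rw [GrothendieckTopology.mem_over_iff, Sieve.overEquiv_ofArrows]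
      exact Precoverage.generate_mem_toGrothendieck
        ((Scheme.ofArrows_mem_precoverage_iff (P := @Flat ⊓ @LocallyOfFinitePresentation)).2
          ⟨fun t => ⟨t, (hc t).2.2⟩, fun t => ⟨(hc t).1, (hc t).2.1⟩⟩)
    · obtain ⟨t, h', rfl⟩ := (Sieve.mem_ofArrows_iff _ _ _).1 hg
      obtain ⟨v, e, φ, hφ⟩ := StFib.grpd_exists_lift h𝒳 (z' t) h'
      refine ⟨rigMk π x₀ (π.map φ ≫ k t ≫ b _), φ ≫ c t, IsHomLift.of_fac' _ _ _ e rfl ?_⟩
      rw [Functor.map_comp, hφ]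
      simp [rigFst]
  · obtain ⟨o₀, φ, hφ⟩ := (isFibGrpd_rig h𝒳).exists_lift g
    refine ⟨o₀, φ, φ ≫ InducedCategory.homMk b, hφ, ?_, rfl⟩
    haveI : (Rig π x₀).p.IsHomLift (𝟙 ((Rig π x₀).p.obj o)) (InducedCategory.homMk b : o ⟶ o') :=
      (BasedFunctor.isHomLift_iff (rigFst π x₀) _ _).1 hb
    haveI := hφ
    exact IsHomLift.comp_lift_id_right' (Rig π x₀).p g φ ((Rig π x₀).p.obj o) (InducedCategory.homMk b)

/-- Generating families restrict along local equivalences for which all modules are invariant. -/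
theorem isGenFam_src {𝒴 : AlgSt.Cat S} {ρ : 𝒳 ⥤ᵇ 𝒴} (L : LocEquiv ρ)
    (hI : ∀ F : StMod.Mod 𝒳, Invariant ρ F) {ι : Type*} (E : ι → StMod.QCoh 𝒴) (hgen : StMod.IsGenFam E) :
    StMod.IsGenFam fun i => (StMod.comapQ ρ).obj (E i) := by
  rw [StMod.isGenFam_iff]
  intro M N v hv
  obtain ⟨G, ⟨eM⟩⟩ := exists_descent L M (hI _)
  obtain ⟨H, ⟨eN⟩⟩ := exists_descent L N (hI _)
  obtain ⟨⟨hfull⟩, -⟩ := comapQ_full_faithful L
  obtain ⟨w, hw⟩ := hfull (eM.inv ≫ v ≫ eN.hom)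
  have h0 : w = 0 := by
    refine (StMod.isGenFam_iff E).1 hgen w fun i φ => ?_
    refine comap_faithful L H.property.1 _ _ ?_
    have h1 := hv i (StMod.Mod.comapMap ρ φ ≫ eM.inv.hom)
    have h2 : StMod.Mod.comapMap ρ w.hom = eM.inv.hom ≫ v.hom ≫ eN.hom.hom :=
      congrArg (fun m : (StMod.comapQ ρ).obj G ⟶ (StMod.comapQ ρ).obj H => m.hom) hw
    refine ((StMod.comapFunctor ρ).map_comp φ w.hom).trans (Eq.trans ?_ ((StMod.comapFunctor ρ).map_zero _ _).symm)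
    show StMod.Mod.comapMap ρ φ ≫ StMod.Mod.comapMap ρ w.hom = 0
    rw [h2, ← Category.assoc, ← Category.assoc, h1, zero_comp]
  rw [h0] at hw
  have : v = eM.hom ≫ (StMod.comapQ ρ).map (0 : G ⟶ H) ≫ eN.inv := by rw [hw]; simp
  rw [this, InducedCategory.hom_ext (show ((StMod.comapQ ρ).map (0 : G ⟶ H)).hom = (0 : (StMod.comapQ ρ).obj G ⟶ _).hom
    from (StMod.comapFunctor ρ).map_zero _ _)]
  simp

theorem comap_map_rigFst (F : StMod.Mod 𝒳) {o' o : (Rig π x₀).obj} (a : o' ⟶ o) :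
    (StMod.Mod.comap (rigFst π x₀) F).map a rfl = F.map a.hom rfl := by
  rw [StMod.Mod.comap_map]
  erw [StMod.castMap_rfl, StMod.pushforwardCongr_hom_app_self, Category.comp_id]
  rfl

theorem comap_map_fibFst (F : StMod.Mod 𝒳) {o' o : (StMod.fibCat π x₀).obj} (a : o' ⟶ o) :
    (StMod.Mod.comap (StMod.fibFst π x₀) F).map a rfl = F.map a.left rfl := by
  rw [StMod.Mod.comap_map]
  erw [StMod.castMap_rfl, StMod.pushforwardCongr_hom_app_self, Category.comp_id]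
  rfl

/-- A morphism over `x₀` not depending on the chosen morphisms comes from a morphism. -/
theorem exists_hom_of_fib (h𝒳 : IsFibGrpd 𝒳.p) (h𝒵 : IsFibGrpd 𝒵.p)
    (hcov : ∀ (z : 𝒵.obj) (w : StMod.sch 𝒵 z), ∃ (y : 𝒵.obj) (a : y ⟶ z) (_ : y ⟶ x₀), IsNhd a w)
    {E M : StMod.Mod 𝒳} (hM : StMod.isQCoh 𝒳 M)
    (χ : StMod.Mod.comap (StMod.fibFst π x₀) E ⟶ StMod.Mod.comap (StMod.fibFst π x₀) M)
    (hinv : ∀ (y : 𝒳.obj) (b b' : π.obj y ⟶ x₀),
      (χ.app (CostructuredArrow.mk (Y := y) b) : E.obj y ⟶ M.obj y) = χ.app (CostructuredArrow.mk (Y := y) b')) :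
    ∃ ψ : E ⟶ M, StMod.Mod.comapMap (StMod.fibFst π x₀) ψ = χ := by
  let v : StMod.Mod.comap (rigFst π x₀) E ⟶ StMod.Mod.comap (rigFst π x₀) M :=
    { app := fun o => χ.app o
      comm := fun {o' o} a g hg => by
        subst hg
        let a' : CostructuredArrow.mk (Y := o'.left) (π.map a.hom ≫ o.hom) ⟶
            (show (StMod.fibCat π x₀).obj from o) := CostructuredArrow.homMk a.hom rfl
        have h := χ.comm a' (g := StMod.bmap _ a') rfl
        rw [comap_map_fibFst, comap_map_fibFst] at h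
        rw [comap_map_rigFst, comap_map_rigFst]
        have e : (χ.app (CostructuredArrow.mk (Y := o'.left) (π.map a.hom ≫ o.hom)) : E.obj o'.left ⟶ M.obj o'.left) =
            χ.app (show (StMod.fibCat π x₀).obj from o') := hinv o'.left _ o'.hom
        rw [← e]
        exact h }
  obtain ⟨ψ, hψ⟩ := comap_full (locEquiv_rigFst h𝒳 h𝒵 hcov) hM v
  exact ⟨ψ, StMod.Mod.hom_ext fun o =>
    congrArg (fun m : StMod.Mod.comap (rigFst π x₀) E ⟶ StMod.Mod.comap (rigFst π x₀) M =>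
      StMod.Mod.Hom.app m (show (Rig π x₀).obj from o)) hψ⟩

end Groth.Agent.StPush
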