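import Groth.Agent.StPush.CohDesc

/-!
# Semilinear maps out of base changed sections
-/

set_option autoImplicit false
set_option linter.style.haveILetI false
set_option linter.unusedVariables false
set_option backward.isDefEq.respectTransparency false
set_option backward.isDefEq.respectTransparency.types false
set_option maxHeartbeats 1000000

universe u

open CategoryTheory CategoryTheory.Limits AlgebraicGeometry FibCat Groth.Agent.StDesc
open scoped TensorProduct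

namespace Groth.Agent.StPush

variable {S : Scheme.{u}} {𝒳 : AlgSt.Cat S} {M : StMod.Mod 𝒳}

theorem semiLift (hM : StMod.isQCoh 𝒳 M) {y x : 𝒳.obj} (φ : y ⟶ x) (hy : IsAffine (StMod.sch 𝒳 y))
    (hx : IsAffine (StMod.sch 𝒳 x)) :
    (∀ (γ : Γ(StMod.sch 𝒳 y, ⊤) →+ Γ(StMod.sch 𝒳 x, ⊤)),
      (∀ r f, γ ((StMod.bmap 𝒳 φ).appTop r * f) = r * γ f) →
      ∃ γM : Γ(M.obj y, ⊤) →+ Γ(M.obj x, ⊤), ∀ (f : Γ(StMod.sch 𝒳 y, ⊤)) (m : Γ(M.obj x, ⊤)),
        γM (f • pb M φ (U := ⊤) ⊤ le_top m) = γ f • m) ∧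
    ∀ {N : Type u} [AddCommGroup N] (a b : Γ(M.obj y, ⊤) →+ N),
      (∀ (f : Γ(StMod.sch 𝒳 y, ⊤)) (m : Γ(M.obj x, ⊤)),
        a (f • pb M φ (U := ⊤) ⊤ le_top m) = b (f • pb M φ (U := ⊤) ⊤ le_top m)) → a = b := by
  haveI := hy
  haveI := hx
  haveI := hM.2 x
  let g := (StMod.bmap 𝒳 φ).appLE ⊤ ⊤ le_top
  have hg : g = (StMod.bmap 𝒳 φ).appTop := appLE_top_eq_appTop _
  letI := g.hom.toAlgebra
  letI := Module.compHom Γ(M.obj y, ⊤) g.hom
  haveI : IsScalarTower Γ(StMod.sch 𝒳 x, ⊤) Γ(StMod.sch 𝒳 y, ⊤) Γ(M.obj y, ⊤) :=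
    IsScalarTower.of_algebraMap_smul fun _ _ => rfl
  let f₀ : Γ(M.obj x, ⊤) →ₗ[Γ(StMod.sch 𝒳 x, ⊤)] Γ(M.obj y, ⊤) :=
    { toFun := fun m => pb M φ (U := ⊤) ⊤ le_top m
      map_add' := map_add _
      map_smul' := fun r m => pb_smul M φ ⊤ le_top r m }
  have hbc := isBaseChange_pb hM.1 φ (U := ⊤) (V := ⊤) le_top (isAffineOpen_top _) (isAffineOpen_top _) f₀ fun _ => rfl
  refine ⟨fun γ hγ => ?_, fun {N} _ a b h => ?_⟩
  · let L : Γ(StMod.sch 𝒳 y, ⊤) ⊗[Γ(StMod.sch 𝒳 x, ⊤)] Γ(M.obj x, ⊤) →+ Γ(M.obj x, ⊤) :=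
      TensorProduct.liftAddHom
        (AddMonoidHom.mk' (fun f => DistribMulAction.toAddMonoidHom Γ(M.obj x, ⊤) (γ f))
          fun f f' => AddMonoidHom.ext fun m => by
            show γ (f + f') • m = γ f • m + γ f' • m
            rw [map_add, add_smul])
        fun r f m => by
          show γ (g r * f) • m = γ f • r • m
          rw [hg, hγ, mul_comm, mul_smul]
    refine ⟨L.comp hbc.equiv.symm.toAddEquiv.toAddMonoidHom, fun f m => ?_⟩
    show L (hbc.equiv.symm (f • f₀ m)) = _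
    rw [show f • f₀ m = hbc.equiv (f ⊗ₜ m) from (hbc.equiv_tmul f m).symm, LinearEquiv.symm_apply_apply]
    exact TensorProduct.liftAddHom_tmul _ _ _ _
  · refine AddMonoidHom.ext fun z => ?_
    obtain ⟨t, rfl⟩ := hbc.equiv.surjective z
    induction t using TensorProduct.induction_on with
    | zero => simp
    | add p q hp hq => simp only [map_add, hp, hq]
    | tmul f m => rw [hbc.equiv_tmul]; exact h f m

end Groth.Agent.StPush
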