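import Groth.Agent.StPush.Iota
import Groth.Agent.StPush.Rig
import Groth.Agent.StPush.Glue

/-!
The descent datum of the module of relative homomorphisms along a covering object: an identification of
its two pullbacks on the pairs of morphisms to the covering object, satisfying the cocycle condition.
-/

set_option autoImplicit false
set_option linter.style.haveILetI false
set_option linter.unusedSectionVars false
set_option backward.isDefEq.respectTransparency false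
set_option backward.isDefEq.respectTransparency.types false

universe u

open CategoryTheory CategoryTheory.Limits AlgebraicGeometry Opposite FibCat
open Groth.Agent.QCoh Groth.Agent.StDesc Groth.Agent.StGen

noncomputable section

namespace Groth.Agent.StPush

variable {S : Scheme.{u}} {𝒳 𝒵 : AlgSt.Cat S}

/-- Affine neighbourhoods inside a neighbourhood. -/
theorem exists_affine_nhd (h𝒵 : IsFibGrpd 𝒵.p) {y z : 𝒵.obj} (a : y ⟶ z) {w : StMod.sch 𝒵 z}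
    (ha : IsNhd a w) : ∃ (y' : 𝒵.obj) (c : y' ⟶ y), IsAffine (StMod.sch 𝒵 y') ∧ IsNhd (c ≫ a) w := by
  obtain ⟨h1, h2, t, ht⟩ := ha
  obtain ⟨_, ⟨W, hW, rfl⟩, hw, -⟩ := (StMod.sch 𝒵 y).isBasis_affineOpens.exists_subset_of_mem_open
    (show t ∈ ((⊤ : (StMod.sch 𝒵 y).Opens) : Set _) from trivial) isOpen_univ
  obtain ⟨y', c, e, hc⟩ := exists_lift_mor h𝒵 y (Scheme.Opens.ι W)
  haveI : IsAffine (W : Scheme.{u}) := hW
  haveI := h1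
  haveI := h2
  refine ⟨y', c, .of_isIso e.hom, by rw [StMod.bmap_comp, hc]; infer_instance,
    by rw [StMod.bmap_comp, hc]; infer_instance, ?_⟩
  obtain ⟨q, hq⟩ := range_of_bmap c e _ hc ⟨t, hw⟩
  refine ⟨q, ?_⟩
  rw [StMod.bmap_comp, Scheme.Hom.comp_apply, hq]
  exact ht

/-- The pairs of morphisms to `x₀`. -/
abbrev Pair (x₀ : 𝒵.obj) : AlgSt.Cat S := StMod.fibCat (StMod.fibFst (BasedFunctor.id 𝒵) x₀) x₀

variable {x₀ : 𝒵.obj}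

/-- An object with a morphism to `x₀`. -/
abbrev ov₀ {y : 𝒵.obj} (a : y ⟶ x₀) : (Over₀ x₀).obj := CostructuredArrow.mk (Y := y) a

/-- An object with two morphisms to `x₀`. -/
abbrev pairMk {y : 𝒵.obj} (a b : y ⟶ x₀) : (Pair x₀).obj := CostructuredArrow.mk (Y := ov₀ a) b

instance isAffine_ov₀ {y : 𝒵.obj} [h : IsAffine (StMod.sch 𝒵 y)] (a : y ⟶ x₀) :
    IsAffine (StMod.sch 𝒵 (ov₀ a).left) := h

/-- A morphism of objects over `x₀`. -/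
def ovHom {y' y : 𝒵.obj} (c : y' ⟶ y) {a : y ⟶ x₀} {a' : y' ⟶ x₀} (ha : c ≫ a = a') : ov₀ a' ⟶ ov₀ a :=
  CostructuredArrow.homMk c ha

/-- A morphism of pairs. -/
def pairHom {y' y : 𝒵.obj} (c : y' ⟶ y) {a b : y ⟶ x₀} {a' b' : y' ⟶ x₀} (ha : c ≫ a = a') (hb : c ≫ b = b') :
    pairMk a' b' ⟶ pairMk a b :=
  CostructuredArrow.homMk (ovHom c ha) hb

/-- The second object over `x₀` of a pair. -/
def pairSnd (x₀ : 𝒵.obj) : Pair x₀ ⥤ᵇ Over₀ x₀ where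
  toFunctor :=
    { obj := fun o => CostructuredArrow.mk (Y := o.left.left) o.hom
      map := fun {o o'} k => CostructuredArrow.homMk k.left.left (CostructuredArrow.w k)
      map_id := fun o => CostructuredArrow.hom_ext _ _ rfl
      map_comp := fun k k' => CostructuredArrow.hom_ext _ _ rfl }
  w := rfl

theorem pb_comap_pairSnd (G : StMod.Mod (Over₀ x₀)) {o' o : (Pair x₀).obj} (k : o' ⟶ o)
    {U : (StMod.sch (Pair x₀) o).Opens} (V : (StMod.sch (Pair x₀) o').Opens)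
    (h : V ≤ StMod.bmap (Pair x₀) k ⁻¹ᵁ U) (s : Γ(G.obj ((pairSnd x₀).obj o), U)) :
    pb (StMod.Mod.comap (pairSnd x₀) G) k V h s = pb G ((pairSnd x₀).map k) V h s := by
  rw [pb_apply, StMod.Mod.comap_map]
  erw [StMod.castMap_rfl, StMod.pushforwardCongr_hom_app_self, Category.comp_id]
  rfl

theorem isFibGrpd_pair (h𝒵 : IsFibGrpd 𝒵.p) : IsFibGrpd (Pair x₀).p :=
  isFibGrpd_fibCat _ (isFibGrpd_fibCat _ h𝒵 x₀) x₀

variable (π : 𝒳 ⥤ᵇ 𝒵) (E M : StMod.Mod 𝒳)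

/-- A morphism of categories over schemes with covering data and a module of relative homomorphisms. -/
structure Datum where
  h𝒳 : IsFibGrpd 𝒳.p
  h𝒵 : IsFibGrpd 𝒵.p
  hE : StMod.isQCoh 𝒳 E
  hM : StMod.isQCoh 𝒳 M
  R : Pres 𝒵
  C₀ : FinCover (StMod.fibCat π R.x₀)
  fp : SheafOfModules.IsFinitePresentation.{u} (R := (StMod.sch 𝒳 C₀.x₀.left).ringCatSheaf) (E.obj C₀.x₀.left)
  Q : Model π E M R.x₀

variable {π E M} (D : Datum π E M)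

instance Datum.aff₀ : IsAffine (StMod.sch 𝒵 D.R.x₀) := D.R.aff₀

instance Datum.aff₁ : IsAffine (StMod.sch 𝒵 D.R.x₁) := D.R.aff₁

/-- The pulled back module along the first morphism. -/
abbrev Datum.KA : StMod.Mod (Pair D.R.x₀) :=
  StMod.Mod.comap (StMod.fibFst (StMod.fibFst (BasedFunctor.id 𝒵) D.R.x₀) D.R.x₀) D.Q.K

/-- The pulled back module along the second morphism. -/
abbrev Datum.KB : StMod.Mod (Pair D.R.x₀) := StMod.Mod.comap (pairSnd D.R.x₀) D.Q.K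

theorem Datum.iota_bij {y : 𝒵.obj} [IsAffine (StMod.sch 𝒵 y)] (a : y ⟶ D.R.x₀)
    (ha : Flat (StMod.bmap 𝒵 a)) : Function.Bijective (D.Q.iota (ov₀ a)) :=
  D.Q.iota_bijective D.h𝒳 D.h𝒵 D.hE D.hM D.C₀ D.fp (ov₀ a) ha

theorem Datum.exists_theta₁ :
    ∃ g : D.KA.obj (pairMk D.R.p D.R.q) ⟶ D.KB.obj (pairMk D.R.p D.R.q),
      ∀ t : Γ(D.Q.K.obj (ov₀ D.R.p), ⊤), D.Q.iota (ov₀ D.R.q) (g.app ⊤ t) = D.Q.iota (ov₀ D.R.p) t := by
  haveI : IsAffine (StMod.sch (Pair D.R.x₀) (pairMk D.R.p D.R.q)) := D.R.aff₁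
  let eq : Γ(D.Q.K.obj (ov₀ D.R.q), ⊤) ≃+ RHom π E M D.R.x₁ :=
    AddEquiv.ofBijective (D.Q.iota (ov₀ D.R.q)) (D.iota_bij D.R.q D.R.flat_q)
  let j : Γ(D.KA.obj (pairMk D.R.p D.R.q), ⊤) →ₗ[Γ(StMod.sch (Pair D.R.x₀) (pairMk D.R.p D.R.q), ⊤)]
      Γ(D.KB.obj (pairMk D.R.p D.R.q), ⊤) :=
    { toFun := fun t => eq.symm (D.Q.iota (ov₀ D.R.p) t)
      map_add' := fun t t' => (congrArg eq.symm (map_add (D.Q.iota (ov₀ D.R.p)) t t')).trans (map_add eq.symm _ _)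
      map_smul' := fun r t => eq.injective (by
        show eq (eq.symm _) = D.Q.iota (ov₀ D.R.q) _
        rw [AddEquiv.apply_symm_apply]
        refine (D.Q.iota_smul (ov₀ D.R.p) r t).trans (Eq.trans ?_ (D.Q.iota_smul (ov₀ D.R.q) r _).symm)
        exact congrArg (fun z : RHom π E M D.R.x₁ => (show Γ(StMod.sch 𝒵 D.R.x₁, ⊤) from r) • z)
          (eq.apply_symm_apply _).symm) }
  obtain ⟨g, hg⟩ := exists_hom_of_top (G := D.KA) (StMod.isQCoh_comap D.Q.isQCoh_K) _ j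
  exact ⟨g, fun t => (congrArg _ (hg t)).trans (eq.apply_symm_apply _)⟩

/-- Every pair has neighbourhoods over the universal pair. -/
theorem Datum.cover_pair (z : (Pair D.R.x₀).obj) (w : StMod.sch (Pair D.R.x₀) z) :
    ∃ (y : (Pair D.R.x₀).obj) (a : y ⟶ z) (_ : y ⟶ pairMk D.R.p D.R.q), IsNhd a w := by
  obtain ⟨y, c, d, hc, hp, hq⟩ := D.R.cover₂ z.left.left z.left.hom z.hom w
  exact ⟨pairMk (c ≫ z.left.hom) (c ≫ z.hom), pairHom c rfl rfl, pairHom d hp hq, hc⟩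

set_option maxHeartbeats 800000 in
theorem Datum.exists_theta :
    ∃ θ : D.KA ⟶ D.KB, ∀ t : Γ(D.Q.K.obj (ov₀ D.R.p), ⊤),
      D.Q.iota (ov₀ D.R.q) ((θ.app (pairMk D.R.p D.R.q)).app ⊤ t) = D.Q.iota (ov₀ D.R.p) t := by
  obtain ⟨g, hg⟩ := D.exists_theta₁
  obtain ⟨θ, hθ⟩ := exists_hom_of_pairs (isFibGrpd_pair D.h𝒵) (StMod.isQCoh_comap D.Q.isQCoh_K)
    (StMod.isQCoh_comap D.Q.isQCoh_K) D.cover_pair g fun z b b' t => by
      have hb₁ : b.left.left ≫ D.R.p = z.left.hom := CostructuredArrow.w b.left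
      have hb₂ : b.left.left ≫ D.R.q = z.hom := CostructuredArrow.w b
      have hb₁' : b'.left.left ≫ D.R.p = z.left.hom := CostructuredArrow.w b'.left
      have hb₂' : b'.left.left ≫ D.R.q = z.hom := CostructuredArrow.w b'
      obtain ⟨y, c, x₂, haff, e, e', k, hc, hep, heq, he, hke, hke'⟩ := D.R.cover₃ z.left.left b.left.left
        b'.left.left (hb₁.trans hb₁'.symm) (hb₂.trans hb₂'.symm) t
      haveI := haff
      haveI := he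
      haveI := D.R.flat_q
      let o₂ := pairMk (e ≫ D.R.p) (e ≫ D.R.q)
      haveI : IsAffine (StMod.sch (Pair D.R.x₀) o₂) := haff
      haveI : IsAffine (StMod.sch 𝒵 ((pairSnd D.R.x₀).obj o₂).left) := haff
      haveI : IsAffine (StMod.sch 𝒵 ((pairSnd D.R.x₀).obj (pairMk D.R.p D.R.q)).left) := D.R.aff₁
      let a : pairMk (c ≫ z.left.hom) (c ≫ z.hom) ⟶ z := pairHom c rfl rfl
      let m : o₂ ⟶ pairMk D.R.p D.R.q := pairHom e rfl rfl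
      let m' : o₂ ⟶ pairMk D.R.p D.R.q := pairHom e' hep.symm heq.symm
      let d : pairMk (c ≫ z.left.hom) (c ≫ z.hom) ⟶ o₂ := pairHom k
        (by rw [← Category.assoc, hke, Category.assoc, hb₁]) (by rw [← Category.assoc, hke, Category.assoc, hb₂])
      refine ⟨_, a, o₂, m, m', d, hc, ?_, ?_, fun w₁ w₂ h₁ h₂ => ?_⟩
      · exact CostructuredArrow.hom_ext _ _ (CostructuredArrow.hom_ext _ _ hke)
      · exact CostructuredArrow.hom_ext _ _ (CostructuredArrow.hom_ext _ _ hke')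
      have hflat : Flat (StMod.bmap 𝒵 (e ≫ D.R.q)) := by rw [StMod.bmap_comp]; infer_instance
      refine hom_ext_top (G := D.KA) (StMod.isQCoh_comap D.Q.isQCoh_K) w₁ w₂ fun s => ?_
      refine D.Q.induction (ov₀ (e ≫ D.R.p)) (fun s => w₁.app ⊤ s = w₂.app ⊤ s)
        (by erw [map_zero, map_zero]) (fun φ => ?_) (fun r s hs => ?_) (fun p q hp hq => ?_) s
      · have key : ∀ (w : D.KA.obj o₂ ⟶ D.KB.obj o₂) (n : o₂ ⟶ pairMk D.R.p D.R.q),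
            (∀ {U : (StMod.sch (Pair D.R.x₀) (pairMk D.R.p D.R.q)).Opens}
              (V : (StMod.sch (Pair D.R.x₀) o₂).Opens) (hV : V ≤ StMod.bmap (Pair D.R.x₀) n ⁻¹ᵁ U)
              (s : Γ(D.KA.obj (pairMk D.R.p D.R.q), U)),
              w.app V (pb D.KA n V hV s) = pb D.KB n V hV (g.app U s)) →
            D.Q.iota (ov₀ (e ≫ D.R.q)) (w.app ⊤ (D.Q.g (ov₀ (e ≫ D.R.p)) φ)) = rPull (e ≫ D.R.p) φ := by
          intro w n hn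
          have h0 := hn (U := ⊤) ⊤ le_top (D.Q.g (ov₀ D.R.p) φ)
          rw [pb_comap_fibFst, pb_comap_pairSnd] at h0
          erw [D.Q.pb_g] at h0
          refine (congrArg (D.Q.iota (ov₀ (e ≫ D.R.q))) h0).trans ?_
          refine (D.Q.iota_pb ((pairSnd D.R.x₀).map n) _).trans ?_
          refine (congrArg (rPull ((pairSnd D.R.x₀).map n).left) ((hg _).trans (D.Q.iota_g (ov₀ D.R.p) φ))).trans ?_
          refine (rPull_rPull _ D.R.p φ).trans ?_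
          exact congrArg (fun m => rPull m φ) (CostructuredArrow.w n.left)
        exact (D.iota_bij (e ≫ D.R.q) hflat).1 ((key w₁ m h₁).trans (key w₂ m' h₂).symm)
      · erw [Scheme.Modules.Hom.app_smul, Scheme.Modules.Hom.app_smul]
        exact congrArg (r • ·) hs
      · erw [map_add, map_add]
        exact congrArg₂ (· + ·) hp hq
  exact ⟨θ, fun t => by rw [hθ]; exact hg t⟩

/-- The descent datum. -/
def Datum.theta : D.KA ⟶ D.KB := D.exists_theta.choose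

/-- The descent datum on the sections over an open. -/
def Datum.th {y : 𝒵.obj} (a b : y ⟶ D.R.x₀) (V : (StMod.sch 𝒵 y).Opens) :
    Γ(D.Q.K.obj (ov₀ a), V) →+ Γ(D.Q.K.obj (ov₀ b), V) :=
  AddMonoidHom.mk' (fun s => (D.theta.app (pairMk a b)).app V s) fun s t => map_add _ s t

theorem Datum.th_pb {y' y : 𝒵.obj} (c : y' ⟶ y) {a b : y ⟶ D.R.x₀} {a' b' : y' ⟶ D.R.x₀}
    (ha : c ≫ a = a') (hb : c ≫ b = b') {U : (StMod.sch 𝒵 y).Opens} (V : (StMod.sch 𝒵 y').Opens)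
    (h : V ≤ StMod.bmap 𝒵 c ⁻¹ᵁ U) (s : Γ(D.Q.K.obj (ov₀ a), U)) :
    D.th a' b' V (pb D.Q.K (ovHom c ha) V h s) = pb D.Q.K (ovHom c hb) V h (D.th a b U s) := by
  have := pb_hom D.KA D.theta (pairHom c ha hb) V h s
  rw [pb_comap_fibFst, pb_comap_pairSnd] at this
  exact this

theorem Datum.th_smul {y : 𝒵.obj} (a b : y ⟶ D.R.x₀) (V : (StMod.sch 𝒵 y).Opens)
    (r : Γ(StMod.sch 𝒵 y, V)) (s : Γ(D.Q.K.obj (ov₀ a), V)) :
    D.th a b V (r • s) = r • D.th a b V s := Scheme.Modules.Hom.app_smul (D.theta.app (pairMk a b)) r s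

/-- Over an object with a lift of the pair, the descent datum commutes with the comparisons. -/
theorem Datum.iota_th {y : 𝒵.obj} [IsAffine (StMod.sch 𝒵 y)] {a b : y ⟶ D.R.x₀} (d : y ⟶ D.R.x₁)
    (ha : d ≫ D.R.p = a) (hb : d ≫ D.R.q = b) (t : Γ(D.Q.K.obj (ov₀ a), ⊤)) :
    D.Q.iota (ov₀ b) (D.th a b ⊤ t) = D.Q.iota (ov₀ a) t := by
  refine D.Q.induction (ov₀ a) (fun t => D.Q.iota (ov₀ b) (D.th a b ⊤ t) = D.Q.iota (ov₀ a) t)
    (by simp only [map_zero]) (fun φ => ?_) (fun r t ht => ?_) (fun p q hp hq => by simp only [map_add, hp, hq]) t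
  · rw [← D.Q.pb_g (ovHom d ha) φ, D.th_pb d ha hb, D.Q.iota_pb, D.Q.iota_pb]
    exact congrArg (rPull d) (D.exists_theta.choose_spec _)
  · erw [D.th_smul a b ⊤ r t, D.Q.iota_smul (ov₀ b) r, D.Q.iota_smul (ov₀ a) r]
    exact congrArg (fun z : RHom π E M y => (show Γ(StMod.sch 𝒵 y, ⊤) from r) • z) ht

/-- Cocycle condition over affine flat objects with lifts of the pairs. -/
theorem Datum.th_th_flat {y : 𝒵.obj} [IsAffine (StMod.sch 𝒵 y)] {a b c : y ⟶ D.R.x₀} (d₁ d₂ d₃ : y ⟶ D.R.x₁)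
    (h1 : d₁ ≫ D.R.p = a) (h1' : d₁ ≫ D.R.q = b) (h2 : d₂ ≫ D.R.p = b) (h2' : d₂ ≫ D.R.q = c)
    (h3 : d₃ ≫ D.R.p = a) (h3' : d₃ ≫ D.R.q = c) (hc : Flat (StMod.bmap 𝒵 c))
    (t : Γ(D.Q.K.obj (ov₀ a), ⊤)) : D.th b c ⊤ (D.th a b ⊤ t) = D.th a c ⊤ t :=
  (D.iota_bij c hc).1 (((D.iota_th d₂ h2 h2' _).trans (D.iota_th d₁ h1 h1' t)).trans (D.iota_th d₃ h3 h3' t).symm)

/-- Two composites agree on pulled back sections if they agree after a flat covering. -/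
theorem Datum.ext_flat_th {y : 𝒵.obj} {b : y ⟶ D.R.x₀} {U : (StMod.sch 𝒵 y).Opens}
    (u v : Γ(D.Q.K.obj (ov₀ b), U))
    (h : ∀ w : StMod.sch 𝒵 y, ∃ (y' : 𝒵.obj) (k : y' ⟶ y), Flat (StMod.bmap 𝒵 k) ∧
      w ∈ Set.range (StMod.bmap 𝒵 k) ∧
        pb D.Q.K (ovHom k (rfl : k ≫ b = k ≫ b)) _ le_rfl u = pb D.Q.K (ovHom k rfl) _ le_rfl v) : u = v :=
  ext_flat D.Q.isQCoh_K.1 _ _ fun w _ => by
    obtain ⟨y', k, h1, h2, h3⟩ := h w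
    exact ⟨_, ovHom k rfl, h1, h2, h3⟩

/-- The descent datum is the identity on equal pairs, at the covering object. -/
theorem Datum.th_id₀ (t : Γ(D.Q.K.obj (ov₀ (𝟙 D.R.x₀)), ⊤)) : D.th (𝟙 _) (𝟙 _) ⊤ t = t := by
  refine D.ext_flat_th _ _ fun w => ?_
  obtain ⟨y₁, k₁, d, hn, hp, hq⟩ := D.R.cover₂ D.R.x₀ (𝟙 _) (𝟙 _) w
  obtain ⟨y, k₂, hy, hk⟩ := exists_affine_nhd D.h𝒵 k₁ hn
  haveI := hy
  haveI : IsAffine (StMod.sch (Over₀ D.R.x₀) (ov₀ (𝟙 D.R.x₀))) := D.R.aff₀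
  refine ⟨y, k₂ ≫ k₁, hk.1, hk.2.2, ?_⟩
  have hflat : Flat (StMod.bmap 𝒵 ((k₂ ≫ k₁) ≫ 𝟙 D.R.x₀)) := by rw [Category.comp_id]; exact hk.1
  have e : D.th ((k₂ ≫ k₁) ≫ 𝟙 _) ((k₂ ≫ k₁) ≫ 𝟙 _) ⊤ (pb D.Q.K (ovHom (k₂ ≫ k₁) rfl) ⊤ le_top t) =
      pb D.Q.K (ovHom (k₂ ≫ k₁) rfl) ⊤ le_top t :=
    (D.iota_bij _ hflat).1 (D.iota_th (k₂ ≫ d) (by rw [Category.assoc, hp, Category.assoc])
      (by rw [Category.assoc, hq, Category.assoc]) _)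
  rw [D.th_pb (k₂ ≫ k₁) rfl rfl] at e
  exact e

/-- The descent datum is the identity on equal pairs. -/
theorem Datum.th_id {z : 𝒵.obj} (a : z ⟶ D.R.x₀) (U : (StMod.sch 𝒵 z).Opens)
    (s : Γ(D.Q.K.obj (ov₀ a), U)) : D.th a a U s = s := by
  haveI : IsAffine (StMod.sch (Pair D.R.x₀) (pairMk (𝟙 D.R.x₀) (𝟙 D.R.x₀))) := D.R.aff₀
  let u : D.Q.K.obj (ov₀ (𝟙 D.R.x₀)) ⟶ D.Q.K.obj (ov₀ (𝟙 D.R.x₀)) :=
    D.theta.app (pairMk (𝟙 D.R.x₀) (𝟙 D.R.x₀))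
  haveI : IsAffine (StMod.sch (Over₀ D.R.x₀) (ov₀ (𝟙 D.R.x₀))) := D.R.aff₀
  have hu : u = 𝟙 _ := hom_ext_top D.Q.isQCoh_K u (𝟙 _) fun t => D.th_id₀ t
  let v : D.Q.K.obj (ov₀ a) ⟶ D.Q.K.obj (ov₀ a) := D.theta.app (pairMk a a)
  have hv : v = 𝟙 _ := ext_of_pb D.Q.isQCoh_K.1 (ovHom a (Category.comp_id a)) v (𝟙 _) fun V t => by
    show D.th a a _ (pb D.Q.K (ovHom a (Category.comp_id a)) _ le_rfl t) = _
    rw [D.th_pb a (Category.comp_id a) (Category.comp_id a)]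
    have : D.th (𝟙 D.R.x₀) (𝟙 D.R.x₀) V t = t := congrArg (fun m => Scheme.Modules.Hom.app m V t) hu
    rw [this]
    rfl
  exact congrArg (fun m => Scheme.Modules.Hom.app m U s) hv

set_option maxHeartbeats 800000 in
/-- The cocycle condition. -/
theorem Datum.th_th {z : 𝒵.obj} (a b c : z ⟶ D.R.x₀) (U : (StMod.sch 𝒵 z).Opens)
    (s : Γ(D.Q.K.obj (ov₀ a), U)) : D.th b c U (D.th a b U s) = D.th a c U s := by
  refine D.ext_flat_th _ _ fun w => ?_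
  obtain ⟨y₁, k₁, d₁, hn₁, hp₁, hq₁⟩ := D.R.cover₂ z a b w
  obtain ⟨w₁, hw₁⟩ := hn₁.2.2
  obtain ⟨y, k₂, d₂, hn₂, hp₂, hq₂⟩ := D.R.cover₂ y₁ (k₁ ≫ b) (k₁ ≫ c) w₁
  obtain ⟨w₂, hw₂⟩ := hn₂.2.2
  haveI := hn₁.1
  haveI := hn₂.1
  refine ⟨y, k₂ ≫ k₁, by rw [StMod.bmap_comp]; infer_instance, ⟨w₂, ?_⟩, ?_⟩
  · rw [StMod.bmap_comp, Scheme.Hom.comp_apply, hw₂, hw₁]
  -- the object of composable pairs
  haveI := D.R.flat_p
  haveI := D.R.flat_q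
  obtain ⟨x₃, r, e, hr⟩ := exists_lift_mor D.h𝒵 D.R.x₁
    (pullback.fst (StMod.bmap 𝒵 D.R.q) (StMod.bmap 𝒵 D.R.p))
  obtain ⟨r', hr', hr'b⟩ := exists_fac D.h𝒵 D.R.p (r ≫ D.R.q) (e.hom ≫ pullback.snd _ _) (by
    rw [StMod.bmap_comp, hr, Category.assoc, Category.assoc, pullback.condition])
  haveI : IsAffine (StMod.sch 𝒵 x₃) := .of_isIso e.hom
  haveI : Flat (StMod.bmap 𝒵 r') := by rw [hr'b]; infer_instance
  obtain ⟨k, hk, hkb⟩ := exists_fac D.h𝒵 r (k₂ ≫ d₁)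
    (pullback.lift (StMod.bmap 𝒵 (k₂ ≫ d₁)) (StMod.bmap 𝒵 d₂) (by
      rw [← StMod.bmap_comp, ← StMod.bmap_comp, Category.assoc, hq₁, hp₂]) ≫ e.inv)
    (by rw [hr]; simp)
  have hk' : k ≫ r' = d₂ := hom_ext_bmap D.h𝒵 D.R.p
    (by rw [Category.assoc, hr', ← Category.assoc, hk, Category.assoc, hq₁, hp₂])
    (by rw [StMod.bmap_comp, hkb, hr'b]; simp)
  have ha : k ≫ r ≫ D.R.p = (k₂ ≫ k₁) ≫ a := by rw [← Category.assoc, hk, Category.assoc, hp₁, Category.assoc]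
  have hb : k ≫ r ≫ D.R.q = (k₂ ≫ k₁) ≫ b := by rw [← Category.assoc, hk, Category.assoc, hq₁, Category.assoc]
  have hc : k ≫ r' ≫ D.R.q = (k₂ ≫ k₁) ≫ c := by rw [← Category.assoc, hk', hq₂, Category.assoc]
  -- the identity at the object of composable pairs
  let A₃ := r ≫ D.R.p
  let B₃ := r ≫ D.R.q
  let C₃ := r' ≫ D.R.q
  haveI : IsAffine (StMod.sch (Over₀ D.R.x₀) (ov₀ A₃)) := ‹IsAffine (StMod.sch 𝒵 x₃)›
  have h₃ : (D.theta.app (pairMk A₃ B₃) : D.Q.K.obj (ov₀ A₃) ⟶ D.Q.K.obj (ov₀ B₃)) ≫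
      (D.theta.app (pairMk B₃ C₃) : D.Q.K.obj (ov₀ B₃) ⟶ D.Q.K.obj (ov₀ C₃)) =
        D.theta.app (pairMk A₃ C₃) := by
    refine hom_ext_top D.Q.isQCoh_K (x := ov₀ A₃) _ _ fun t => ?_
    show D.th B₃ C₃ ⊤ (D.th A₃ B₃ ⊤ t) = D.th A₃ C₃ ⊤ t
    refine D.ext_flat_th _ _ fun w₃ => ?_
    obtain ⟨y₃, k₃, d₃, hn₃, hp₃, hq₃⟩ := D.R.cover₂ x₃ A₃ C₃ w₃
    obtain ⟨y₄, k₄, hy₄, hk₄⟩ := exists_affine_nhd D.h𝒵 k₃ hn₃
    haveI := hy₄
    haveI := hk₄.1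
    refine ⟨y₄, k₄ ≫ k₃, hk₄.1, hk₄.2.2, ?_⟩
    have hflat : Flat (StMod.bmap 𝒵 ((k₄ ≫ k₃) ≫ C₃)) := by
      rw [StMod.bmap_comp, show C₃ = r' ≫ D.R.q from rfl, StMod.bmap_comp r' D.R.q]
      infer_instance
    have h := D.th_th_flat ((k₄ ≫ k₃) ≫ r) ((k₄ ≫ k₃) ≫ r') (k₄ ≫ d₃)
      (a := (k₄ ≫ k₃) ≫ A₃) (b := (k₄ ≫ k₃) ≫ B₃) (c := (k₄ ≫ k₃) ≫ C₃)
      (Category.assoc _ _ _) (Category.assoc _ _ _) ((Category.assoc _ _ _).trans (congrArg (_ ≫ ·) hr'))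
      (Category.assoc _ _ _) (by rw [Category.assoc, hp₃, Category.assoc])
      (by rw [Category.assoc, hq₃, Category.assoc]) hflat
      (pb D.Q.K (ovHom (k₄ ≫ k₃) rfl) ⊤ le_top t)
    rw [D.th_pb (k₄ ≫ k₃) rfl rfl, D.th_pb (k₄ ≫ k₃) rfl rfl, D.th_pb (k₄ ≫ k₃) rfl rfl] at h
    exact h
  -- transport
  let m : D.Q.K.obj (ov₀ ((k₂ ≫ k₁) ≫ a)) ⟶ D.Q.K.obj (ov₀ ((k₂ ≫ k₁) ≫ c)) :=
    (D.theta.app (pairMk ((k₂ ≫ k₁) ≫ a) ((k₂ ≫ k₁) ≫ b)) :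
      D.Q.K.obj (ov₀ ((k₂ ≫ k₁) ≫ a)) ⟶ D.Q.K.obj (ov₀ ((k₂ ≫ k₁) ≫ b))) ≫
    (D.theta.app (pairMk ((k₂ ≫ k₁) ≫ b) ((k₂ ≫ k₁) ≫ c)) :
      D.Q.K.obj (ov₀ ((k₂ ≫ k₁) ≫ b)) ⟶ D.Q.K.obj (ov₀ ((k₂ ≫ k₁) ≫ c)))
  have hm : m = D.theta.app (pairMk ((k₂ ≫ k₁) ≫ a) ((k₂ ≫ k₁) ≫ c)) := by
    refine ext_of_pb D.Q.isQCoh_K.1 (ovHom k ha) _ _ fun V t => ?_
    show D.th _ _ _ (D.th _ _ _ (pb D.Q.K (ovHom k ha) _ le_rfl t)) = D.th _ _ _ (pb D.Q.K (ovHom k ha) _ le_rfl t)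
    rw [D.th_pb k ha hb, D.th_pb k hb hc, D.th_pb k ha hc]
    exact congrArg _ (congrArg (fun m => Scheme.Modules.Hom.app m V t) h₃)
  rw [← D.th_pb (k₂ ≫ k₁) rfl rfl, ← D.th_pb (k₂ ≫ k₁) rfl rfl, ← D.th_pb (k₂ ≫ k₁) rfl rfl]
  exact congrArg (fun n => Scheme.Modules.Hom.app n _ _) hm

end Groth.Agent.StPush
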