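import Groth.Agent.StPush.CohDesc

/-!
The isomorphism of functions with sections of the pushforward descends along flat covers.
-/

set_option autoImplicit false
set_option linter.style.haveILetI false
set_option linter.unusedSectionVars false
set_option backward.isDefEq.respectTransparency false
set_option backward.isDefEq.respectTransparency.types false

universe u

open CategoryTheory CategoryTheory.Limits AlgebraicGeometry Opposite FibCat
open Groth.Agent.QCoh Groth.Agent.StDesc Groth.Agent.StGen Groth.Agent.StFib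
open scoped TensorProduct

noncomputable section

namespace Groth.Agent.StPush

variable {S : Scheme.{u}} {𝒳 𝒵 : AlgSt.Cat S} (π : 𝒳 ⥤ᵇ 𝒵)

theorem secRHom_smul {M : StMod.Mod 𝒳} {w : 𝒵.obj} (r : Γ(StMod.sch 𝒵 w, ⊤)) (t : StMod.Mod.RelSect π M w) :
    secRHom π M (r • t) = r • secRHom π M t := by
  refine RHom.ext fun o ho s => ?_
  rw [ev_smul]
  have hstr : (str π o).appLE ⊤ ⊤ le_top = (StMod.baseOver π o.left o.hom).left.appTop := by
    rw [appLE_top_eq_appTop]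
    refine congrArg Scheme.Hom.appTop ?_
    simp [str, StMod.baseOver, StMod.bmap]
  rw [hstr]
  exact (fun {X : Scheme.{u}} {N : X.Modules} (a c : Γ(X, ⊤)) (x : Γ(N, ⊤)) =>
      (show a • c • x = c • a • x by rw [← mul_smul, ← mul_smul, mul_comm]))
    (X := StMod.sch 𝒳 o.left) (N := M.obj o.left) s ((StMod.baseOver π o.left o.hom).left.appTop r)
    (t.1 o.left o.hom)

/-- The relative homomorphism of the unit section. -/
def oneRHom (w : 𝒵.obj) : RHom π (StMod.O 𝒳) (StMod.O 𝒳) w :=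
  secRHom π (StMod.O 𝒳) (StMod.unitSect π w (1 : Γ(StMod.sch 𝒵 w, ⊤)))

theorem secRHom_unitSect (w : 𝒵.obj) (r : Γ(StMod.sch 𝒵 w, ⊤)) :
    secRHom π (StMod.O 𝒳) (StMod.unitSect π w r) = r • oneRHom π w := by
  rw [oneRHom, ← secRHom_smul, ← map_smul]
  exact congrArg (fun x => secRHom π (StMod.O 𝒳) (StMod.unitSect π w x)) (mul_one r).symm

theorem rPull_oneRHom {w' w : 𝒵.obj} (b : w' ⟶ w) : rPull b (oneRHom π w) = oneRHom π w' := by
  rw [oneRHom, rPull_secRHom, oneRHom]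
  refine congrArg _ (StMod.Mod.RelSect.ext _ _ _ fun ξ α => ?_)
  show (StMod.baseOver π ξ (α ≫ b)).left.appTop 1 = (StMod.baseOver π ξ α).left.appTop 1
  rw [map_one, map_one]

set_option maxHeartbeats 1600000 in
/-- Bijectivity of the unit descends along a flat cover of an affine object. -/
theorem unitSect_bijective_of_flat (h𝒳 : IsFibGrpd 𝒳.p) (h𝒵 : IsFibGrpd 𝒵.p) (w : 𝒵.obj)
    [IsAffine (StMod.sch 𝒵 w)] (C : FinCover (StMod.fibCat π w))
    (hcov : ∀ z : StMod.sch 𝒵 w, ∃ (w' : 𝒵.obj) (b : w' ⟶ w), IsAffine (StMod.sch 𝒵 w') ∧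
      Flat (StMod.bmap 𝒵 b) ∧ z ∈ Set.range (StMod.bmap 𝒵 b) ∧
        Function.Bijective (StMod.unitSect π w')) :
    Function.Bijective (StMod.unitSect π w) := by
  let R := Γ(StMod.sch 𝒵 w, ⊤)
  have hqO := (StMod.OQ 𝒳).property
  have cover : ∀ m : Ideal R, m.IsMaximal → ∃ (w' : 𝒵.obj) (b : w' ⟶ w),
      IsAffine (StMod.sch 𝒵 w') ∧ Flat (StMod.bmap 𝒵 b) ∧
      (letI : Algebra R Γ(StMod.sch 𝒵 w', ⊤) := ((StMod.bmap 𝒵 b).appLE ⊤ ⊤ le_top).hom.toAlgebra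
       Module.Flat R Γ(StMod.sch 𝒵 w', ⊤) ∧ ∃ P : Ideal Γ(StMod.sch 𝒵 w', ⊤), P.IsPrime ∧
         P.comap (algebraMap R Γ(StMod.sch 𝒵 w', ⊤)) = m) ∧ Function.Bijective (StMod.unitSect π w') := by
    intro m hm
    obtain ⟨w', b, hw', hfl, ⟨y, hy⟩, hbij⟩ := hcov ((StMod.sch 𝒵 w).isoSpec.inv ⟨m, hm.isPrime⟩)
    haveI := hw'
    haveI := hfl
    refine ⟨w', b, hw', hfl, ⟨HasRingHomProperty.appLE @Flat (StMod.bmap 𝒵 b) inferInstance
      ⟨⊤, isAffineOpen_top _⟩ ⟨⊤, isAffineOpen_top _⟩ le_top,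
      ((StMod.sch 𝒵 w').isoSpec.hom y).asIdeal, inferInstance, ?_⟩, hbij⟩
    have h1 : Spec.map (StMod.bmap 𝒵 b).appTop ((StMod.sch 𝒵 w').isoSpec.hom y) = ⟨m, hm.isPrime⟩ := by
      show ((StMod.sch 𝒵 w').isoSpec.hom ≫ Spec.map (StMod.bmap 𝒵 b).appTop) y = _
      rw [Scheme.isoSpec_hom_naturality]
      show (StMod.sch 𝒵 w).isoSpec.hom (StMod.bmap 𝒵 b y) = _
      rw [hy]
      show ((StMod.sch 𝒵 w).isoSpec.inv ≫ (StMod.sch 𝒵 w).isoSpec.hom) ⟨m, hm.isPrime⟩ = _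
      rw [Iso.inv_hom_id]
      rfl
    show ((StMod.sch 𝒵 w').isoSpec.hom y).asIdeal.comap ((StMod.bmap 𝒵 b).appLE ⊤ ⊤ le_top).hom = m
    rw [appLE_top_eq_appTop]
    exact congrArg PrimeSpectrum.asIdeal h1
  haveI hsN := small_rHom (π := π) (E := StMod.O 𝒳) (M := StMod.O 𝒳) h𝒳 hqO hqO C
  let eG := Shrink.linearEquiv R (RHom π (StMod.O 𝒳) (StMod.O 𝒳) w)
  let l : R →ₗ[R] Shrink.{u} (RHom π (StMod.O 𝒳) (StMod.O 𝒳) w) :=
    LinearMap.toSpanSingleton R _ (eG.symm (oneRHom π w))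
  constructor
  · rw [injective_iff_map_eq_zero]
    intro r hr
    have : r ∈ LinearMap.range (0 : R →ₗ[R] R) := mem_range_of_flat_family 0 r fun m hm => by
      obtain ⟨w', b, hw', hfl, ⟨hflat, hP⟩, hbij⟩ := cover m hm
      letI : Algebra R Γ(StMod.sch 𝒵 w', ⊤) := ((StMod.bmap 𝒵 b).appLE ⊤ ⊤ le_top).hom.toAlgebra
      refine ⟨Γ(StMod.sch 𝒵 w', ⊤), inferInstance, inferInstance, hflat, hP, ?_⟩
      have h0 : algebraMap R Γ(StMod.sch 𝒵 w', ⊤) r = 0 := by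
        refine (injective_iff_map_eq_zero _).1 hbij.1 _ (secRHom_injective h𝒳 hqO ?_)
        have h1 : rPull b (secRHom π (StMod.O 𝒳) (StMod.unitSect π w r)) =
            secRHom π (StMod.O 𝒳) (StMod.unitSect π w' (algebraMap R Γ(StMod.sch 𝒵 w', ⊤) r)) := by
          rw [secRHom_unitSect, secRHom_unitSect, rPull_smul, rPull_oneRHom]
          rfl
        have h2 : secRHom π (StMod.O 𝒳) (0 : StMod.Mod.RelSect π (StMod.O 𝒳) w) = 0 := by
          rw [← zero_smul R (0 : StMod.Mod.RelSect π (StMod.O 𝒳) w), secRHom_smul, zero_smul]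
        have h3 : secRHom π (StMod.O 𝒳) (0 : StMod.Mod.RelSect π (StMod.O 𝒳) w') = 0 := by
          rw [← zero_smul Γ(StMod.sch 𝒵 w', ⊤) (0 : StMod.Mod.RelSect π (StMod.O 𝒳) w'), secRHom_smul, zero_smul]
        rw [hr, h2, map_zero] at h1
        exact h1.symm.trans h3.symm
      rw [show r = r • (1 : R) from (mul_one r).symm, map_smul, TensorProduct.tmul_smul, TensorProduct.smul_tmul',
        Algebra.smul_def, h0, zero_mul, TensorProduct.zero_tmul]
    obtain ⟨x, hx⟩ := this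
    exact hx.symm
  · intro t
    suffices hmem : eG.symm (secRHom π (StMod.O 𝒳) t) ∈ LinearMap.range l by
      obtain ⟨r, hr⟩ := hmem
      refine ⟨r, secRHom_injective h𝒳 hqO ((secRHom_unitSect π w r).trans ?_)⟩
      apply eG.symm.injective
      rw [map_smul]
      exact hr
    refine mem_range_of_flat_family l _ fun m hm => ?_
    obtain ⟨w', b, hw', hfl, ⟨hflat, hP⟩, hbij⟩ := cover m hm
    haveI := hw'
    haveI := hfl
    let B := Γ(StMod.sch 𝒵 w', ⊤)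
    letI : Algebra R B := ((StMod.bmap 𝒵 b).appLE ⊤ ⊤ le_top).hom.toAlgebra
    refine ⟨B, inferInstance, inferInstance, hflat, hP, ?_⟩
    letI := Module.compHom (RHom π (StMod.O 𝒳) (StMod.O 𝒳) w') ((StMod.bmap 𝒵 b).appLE ⊤ ⊤ le_top).hom
    haveI : IsScalarTower R B (RHom π (StMod.O 𝒳) (StMod.O 𝒳) w') :=
      IsScalarTower.of_algebraMap_smul fun _ _ => rfl
    have bG := isBaseChange_rPull (π := π) (E := StMod.O 𝒳) (M := StMod.O 𝒳) h𝒳 h𝒵 hqO hqO b C
      (isFinPres_O C.x₀.left)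
    let g : RHom π (StMod.O 𝒳) (StMod.O 𝒳) w →ₗ[R]
        B ⊗[R] (Shrink.{u} (RHom π (StMod.O 𝒳) (StMod.O 𝒳) w) ⧸ LinearMap.range l) :=
      (TensorProduct.mk R B _ 1) ∘ₗ (LinearMap.range l).mkQ ∘ₗ eG.symm.toLinearMap
    obtain ⟨r', hr'⟩ := hbij.2 (relPull π (StMod.O 𝒳) b t)
    have e : rPull b (secRHom π (StMod.O 𝒳) t) = r' • rPull b (oneRHom π w) := by
      rw [rPull_secRHom, ← hr', secRHom_unitSect, rPull_oneRHom]
    show g (secRHom π (StMod.O 𝒳) t) = 0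
    refine (bG.lift_eq g (secRHom π (StMod.O 𝒳) t)).symm.trans ?_
    show bG.lift g (rPull b (secRHom π (StMod.O 𝒳) t)) = 0
    rw [e, map_smul]
    refine (congrArg (r' • ·) (bG.lift_eq g (oneRHom π w))).trans ?_
    have hq : (LinearMap.range l).mkQ (eG.symm (oneRHom π w)) = 0 := by
      rw [Submodule.mkQ_apply, Submodule.Quotient.mk_eq_zero]
      exact ⟨1, one_smul _ _⟩
    show r' • ((1 : B) ⊗ₜ[R] (LinearMap.range l).mkQ (eG.symm (oneRHom π w))) = 0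
    rw [hq, TensorProduct.tmul_zero, smul_zero]

section Transport

variable {M M' : AlgSp.Sp S} (g : M' ⟶ M) (ρ : 𝒳 ⥤ᵇ AlgSt.ofSp M)

theorem exists_fp_lift (η' : (AlgSt.ofSp M').obj) {ξ : 𝒳.obj} (α : ρ.obj ξ ⟶ (AlgSt.ofSpMap g).obj η') :
    ∃ (a : (AlgSt.ofSp M').obj) (i : (AlgSt.ofSpMap g).obj a ≅ ρ.obj ξ) (_ : Vert i.hom) (αa : a ⟶ η'),
      i.inv ≫ (AlgSt.ofSpMap g).map αa = α := by
  let β : 𝒳.p.obj ξ ⟶ η'.base := StMod.baseOver ρ ξ α
  have hb : 𝒳.p.obj ξ = (ρ.obj ξ).base := (ρ.w_obj ξ).symm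
  have hsec : M.obj.map (eqToHom hb).op (ρ.obj ξ).sec = g.hom.app _ (M'.obj.map β.op η'.sec) := by
    rw [NatTrans.naturality_apply, ← α.map_sec]
    show _ = M.obj.map β.op ((AlgSt.ofSpMap g).obj η').sec
    rw [← Functor.map_comp_apply, ← op_comp]
    rfl
  refine ⟨⟨𝒳.p.obj ξ, M'.obj.map β.op η'.sec⟩,
    { hom := ⟨eqToHom hb, hsec⟩
      inv := ⟨eqToHom hb.symm, by
        show M.obj.map (eqToHom hb.symm).op (g.hom.app _ (M'.obj.map β.op η'.sec)) = (ρ.obj ξ).sec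
        rw [← hsec, ← Functor.map_comp_apply, ← op_comp, eqToHom_trans, eqToHom_refl]
        simp⟩
      hom_inv_id := Stk.EltObj.hom_ext ((eqToHom_trans hb hb.symm).trans (eqToHom_refl _ _))
      inv_hom_id := Stk.EltObj.hom_ext ((eqToHom_trans hb.symm hb).trans (eqToHom_refl _ _)) },
    ⟨hb, rfl⟩, ⟨β, rfl⟩, Stk.EltObj.hom_ext ?_⟩
  show eqToHom hb.symm ≫ eqToHom _ ≫ α.hom = α.hom
  simp

theorem baseOver_fp (η' : (AlgSt.ofSp M').obj) (x : (FibCat.fp (AlgSt.ofSpMap g) ρ).obj)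
    (α : x.obj.fst ⟶ η') :
    StMod.baseOver (FibCat.fpFst (AlgSt.ofSpMap g) ρ) x α =
      eqToHom (StFib.fp_base_eq x) ≫ StMod.baseOver ρ x.obj.snd (x.obj.iso.inv ≫ (AlgSt.ofSpMap g).map α) := by
  obtain ⟨hb, hm⟩ := StFib.vert_fp_iso x
  have hh : x.obj.iso.hom.hom = eqToHom hb := hm
  have hi : x.obj.iso.inv.hom = eqToHom hb.symm := by
    have h2 : x.obj.iso.inv.hom ≫ x.obj.iso.hom.hom = 𝟙 _ :=
      congrArg Stk.EltObj.Hom.hom x.obj.iso.inv_hom_id
    rw [hh] at h2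
    exact ((cancel_mono (eqToHom hb)).1 (h2.trans (eqToHom_trans hb.symm hb).symm))
  show eqToHom _ ≫ α.hom = eqToHom _ ≫ eqToHom _ ≫ x.obj.iso.inv.hom ≫ α.hom
  rw [hi, eqToHom_trans_assoc, eqToHom_trans_assoc]

set_option maxHeartbeats 1600000 in
/-- Bijectivity of the unit over an object lying over the source of a base change. -/
theorem unitSect_bijective_of_fp (η' : (AlgSt.ofSp M').obj)
    (h : Function.Bijective (StMod.unitSect (FibCat.fpFst (AlgSt.ofSpMap g) ρ) η')) :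
    Function.Bijective (StMod.unitSect ρ ((AlgSt.ofSpMap g).obj η')) := by
  let P := FibCat.fpSnd (AlgSt.ofSpMap g) ρ
  let E : ∀ x : (FibCat.fp (AlgSt.ofSpMap g) ρ).obj,
      Γ(StMod.sch 𝒳 x.obj.snd, ⊤) ⟶ Γ(StMod.sch (FibCat.fp (AlgSt.ofSpMap g) ρ) x, ⊤) := fun x =>
    (eqToHom (StMod.sch_obj_eq P x).symm).appTop
  have hval : ∀ (r : Γ(StMod.sch (AlgSt.ofSp M') η', ⊤)) (x : (FibCat.fp (AlgSt.ofSpMap g) ρ).obj)
      (α : x.obj.fst ⟶ η'),
      (StMod.baseOver (FibCat.fpFst (AlgSt.ofSpMap g) ρ) x α).left.appTop r =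
        E x ((StMod.baseOver ρ x.obj.snd (x.obj.iso.inv ≫ (AlgSt.ofSpMap g).map α)).left.appTop r) := by
    intro r x α
    rw [baseOver_fp, Over.comp_left, Scheme.Hom.comp_appTop]
    have : (eqToHom (StFib.fp_base_eq x)).left = eqToHom (StMod.sch_obj_eq P x).symm := Over.eqToHom_left _
    rw [this]
    rfl
  have hinj : ∀ x, Function.Injective (E x) := fun x => by
    intro a b hab
    have h1 : (eqToHom (StMod.sch_obj_eq P x).symm).appTop ≫ inv (eqToHom (StMod.sch_obj_eq P x).symm).appTop = 𝟙 _ :=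
      IsIso.hom_inv_id _
    have := congrArg (inv (eqToHom (StMod.sch_obj_eq P x).symm).appTop) hab
    have ha := ConcreteCategory.congr_hom h1 a
    have hb := ConcreteCategory.congr_hom h1 b
    exact ha.symm.trans (this.trans hb)
  constructor
  · intro r r' hr
    refine h.1 (StMod.Mod.RelSect.ext _ _ _ fun x α => ?_)
    refine (hval r x α).trans ((congrArg (E x) ?_).trans (hval r' x α).symm)
    exact congrArg (fun s => s.1 x.obj.snd (x.obj.iso.inv ≫ (AlgSt.ofSpMap g).map α)) hr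
  · intro t
    let t' : StMod.Mod.RelSect (FibCat.fpFst (AlgSt.ofSpMap g) ρ) (StMod.O _) η' :=
      ⟨fun x α => E x (t.1 x.obj.snd (x.obj.iso.inv ≫ (AlgSt.ofSpMap g).map α)), fun x' x k α => by
        have e : ρ.map k.hom.snd ≫ x.obj.iso.inv ≫ (AlgSt.ofSpMap g).map α =
            x'.obj.iso.inv ≫ (AlgSt.ofSpMap g).map (k.hom.fst ≫ α) := by
          rw [← cancel_epi x'.obj.iso.hom, ← Category.assoc, ← k.hom.w, Category.assoc, Iso.hom_inv_id_assoc,
            Iso.hom_inv_id_assoc, Functor.map_comp]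
        show (StMod.bmap _ k).appTop (E x _) = _
        have h2 : StMod.bmap _ k ≫ eqToHom (StMod.sch_obj_eq P x).symm =
            eqToHom (StMod.sch_obj_eq P x').symm ≫ StMod.bmap 𝒳 k.hom.snd := StGen.bmap_eqToHom P k
        refine (ConcreteCategory.congr_hom (congrArg Scheme.Hom.appTop h2) _).trans ?_
        show E x' ((StMod.bmap 𝒳 k.hom.snd).appTop _) = E x' _
        exact congrArg (E x') ((t.2 k.hom.snd _).trans (congrArg (t.1 x'.obj.snd) e))⟩
    obtain ⟨r, hr⟩ := h.2 t'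
    refine ⟨r, StMod.Mod.RelSect.ext _ _ _ fun ξ α => ?_⟩
    obtain ⟨a, i, hi, αa, rfl⟩ := exists_fp_lift g ρ η' α
    let x := StFib.fpMk (F := AlgSt.ofSpMap g) (G := ρ) a ξ i hi
    refine hinj x ((hval r x αa).symm.trans ?_)
    exact congrArg (fun s => s.1 x αa) hr

end Transport

/-- Bijectivity of the unit descends if affine schemes etale over the target have flat covers by affine
schemes etale over the source of the base change. -/
theorem unitIsIso_of_flat_local_affine {M M' : AlgSp.Space S} (g : M'.obj ⟶ M.obj)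
    (h𝒳 : AlgSt.IsAlgStack Scheme.fppfPrecoverage 𝒳) (ρ : 𝒳 ⥤ᵇ AlgSt.ofSp M.obj)
    (hqc : AlgSt.IsQuasiCompactMor Scheme.fppfPrecoverage ρ) (hqs : AlgSt.IsQuasiSeparatedMor ρ)
    (h' : StMod.UnitIsIso (FibCat.fpFst (AlgSt.ofSpMap g) ρ))
    (hloc : ∀ E : AlgSp.EtOver M.obj, IsAffine E.obj.left.left → ∀ z : E.obj.left.left,
      ∃ (W : Over S) (b₀ : W ⟶ E.obj.left) (e : (AlgSp.yon S).obj W ⟶ M'.obj), AlgSp.RepWith @Etale e ∧
        IsAffine W.left ∧ Flat b₀.left ∧ z ∈ Set.range b₀.left ∧ (AlgSp.yon S).map b₀ ≫ E.obj.hom = e ≫ g)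
    (E : AlgSp.EtOver M.obj) (hE : IsAffine E.obj.left.left) :
    Function.Bijective (StMod.unitSect ρ (StMod.etaOf E)) := by
  have hM := StFib.isAlgStack_ofSp (F := M.obj) M.property
  obtain ⟨R⟩ := exists_pres h𝒳 hM ρ hqc hqs (StMod.etaOf E) hE
  haveI : IsAffine (StMod.sch (AlgSt.ofSp M.obj) (StMod.etaOf E)) := hE
  refine unitSect_bijective_of_flat ρ h𝒳.isStack.1 hM.isStack.1 (StMod.etaOf E) R.toFinCover fun z => ?_
  obtain ⟨W, b₀, e, he, hW, hfl, hz, hfac⟩ := hloc E hE z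
  let E' : AlgSp.EtOver M'.obj := AlgSp.EtOver.mk e he
  let b : (AlgSt.ofSpMap g).obj (StMod.etaOf E') ⟶ StMod.etaOf E :=
    ⟨b₀, ((Groth.Agent.AlgSp.yEquiv_map b₀ E.obj.hom).symm.trans
      (congrArg Groth.Agent.AlgSp.yEquiv hfac)).trans (Groth.Agent.AlgSp.yEquiv_comp e g)⟩
  exact ⟨_, b, hW, hfl, hz, unitSect_bijective_of_fp g ρ (StMod.etaOf E') (h' E')⟩

end Groth.Agent.StPush
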